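/-
helper60: project STEINBERG (helper35), phase 3 (S2398 = Steinberg's Theorem 10, S2397 = Theorem 9, S2100).
Definitions for the proof that a Steinberg model `Γ` (generated by its root elements, perfect, with the torus action
`HAct` and the monomial action `Act`) over a field with more than four elements is centrally closed: for a central
extension `ψ : E →* Γ` there are elements `z r t ∈ E` over `X r t` satisfying (R1) and (R2).
-/
import Cfsg.Agent.Lib.Helper35.StDefs2

set_option autoImplicit false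

namespace Cfsg.Agent.Lib.Helper60.St3

open Cfsg.Lie Cfsg.Agent.Lib.Helper35.St

universe u v w

/-! ### Table facts (datum only) -/

/-- The pairing `⟨s, λ⟩` of the root `s` with the coweight `λ = Σ m_i p_i∨`. -/
def pair (D : ChevalleyDatum) (m : ℕ → ℤ) (s : ℕ) : ℤ :=
  ((List.range D.rank).map fun i => m i * D.cartan i s).sum

/-- Torus separation: for roots `s ≠ ± r` there is a coweight `λ` with `⟨r, λ⟩ = 0` and `⟨s, λ⟩ ∈ {1, 2, 3}`. -/
def Sep (D : ChevalleyDatum) : Prop :=
  ∀ r s, r < D.nroots → s < D.nroots → s ≠ r → s ≠ D.neg r →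
    ∃ m : ℕ → ℤ, pair D m r = 0 ∧ (pair D m s = 1 ∨ pair D m s = 2 ∨ pair D m s = 3)

/-- `b` is a root `≠ ± a` with `a + b` not a root (empty commutator formula). -/
def ComPair (D : ChevalleyDatum) (a b : ℕ) : Prop :=
  b < D.nroots ∧ b ≠ a ∧ b ≠ D.neg a ∧ D.commTerms a b = []

/-- The certificate for self-commutation at the root `a` (used for the long roots of `B₂`): a pair `r', s'` whose
commutator formula contains `a` exactly once, linearly in the parameter of `r'` with coefficient `± 1`, such that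
`r'`, `s'` and all the other roots of the formula commute with `a`. -/
def TopCert (D : ChevalleyDatum) (a : ℕ) : Prop :=
  ∃ (r' s' : ℕ) (l₁ l₂ : List (ℕ × ℤ × ℕ × ℕ)) (C : ℤ) (j : ℕ),
    r' < D.nroots ∧ s' < D.nroots ∧ s' ≠ r' ∧ s' ≠ D.neg r' ∧ (C = 1 ∨ C = -1) ∧
    D.commTerms r' s' = l₁ ++ (a, C, 1, j) :: l₂ ∧
    ComPair D a r' ∧ ComPair D a s' ∧ ∀ c ∈ l₁ ++ l₂, ComPair D a c.1

/-- Every root `s` has a coweight `λ` with `⟨s, λ⟩ = 1`, or a certificate `TopCert`. -/
def SCCert (D : ChevalleyDatum) : Prop :=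
  ∀ s, s < D.nroots → (∃ m : ℕ → ℤ, pair D m s = 1) ∨ TopCert D s

/-- The index order is compatible with the commutator formula on the positive roots. -/
def IdxLvl (D : ChevalleyDatum) : Prop :=
  ∀ r s, D.IsPosRoot r → D.IsPosRoot s → s ≠ r → ∀ c ∈ D.commTerms r s,
    D.IsPosRoot c.1 ∧ r < c.1 ∧ s < c.1

/-- The roots of the commutator formula are in range. -/
def TermLt (D : ChevalleyDatum) : Prop :=
  ∀ r s, r < D.nroots → s < D.nroots → s ≠ r → s ≠ D.neg r → ∀ c ∈ D.commTerms r s, c.1 < D.nroots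

/-- The roots of the commutator formula of `(w_i r, w_i s)` are the images under `w_i` of those of `(r, s)`. -/
def WSym (D : ChevalleyDatum) : Prop :=
  ∀ i, i < D.rank → ∀ r s, r < D.nroots → s < D.nroots → s ≠ r → s ≠ D.neg r →
    (D.commTerms (D.reflectRoot i r) (D.reflectRoot i s)).map (fun c => c.1) =
      (D.commTerms r s).map (fun c => D.reflectRoot i c.1)

/-- There is a word in the fundamental reflections mapping every negative root to a positive root. -/
def Longest (D : ChevalleyDatum) : Prop :=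
  ∃ ws : List ℕ, (∀ i ∈ ws, i < D.rank) ∧ ∀ r, D.IsNegRoot r → D.IsPosRoot (wRoot D ws r)

/-! ### Steinberg models -/

section model

variable {D : ChevalleyDatum} {K : Type u} [Field K] {Γ : Type v} [Group Γ]

/-- `g` acts diagonally on the root elements, through the character `χ`. -/
def IsDiag (M : Model D K Γ) (g : Γ) (χ : ℕ → K) : Prop :=
  ∀ s, s < D.nroots → χ s ≠ 0 ∧ ∀ u : K, g * M.X s u * g⁻¹ = M.X s (χ s * u)

/-- The product of the `σ_i = n̄_{p_i}(1)` along the word `ws`. -/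
def wordElt (M : Model D K Γ) (ws : List ℕ) : Γ := (ws.map fun i => M.sigma i).prod

/-- `g` and `g⁻¹` permute the root elements through the mutually inverse maps `ρ`, `ρ'` on the roots. -/
def IsMonoW (M : Model D K Γ) (g : Γ) (ρ ρ' : ℕ → ℕ) : Prop :=
  (∀ s, s < D.nroots → ρ s < D.nroots ∧ ρ' s < D.nroots ∧ ρ' (ρ s) = s ∧ ρ (ρ' s) = s) ∧
  (∀ s, s < D.nroots → ∃ c : K, c ≠ 0 ∧ ∀ u : K, g * M.X s u * g⁻¹ = M.X (ρ s) (c * u)) ∧
  (∀ s, s < D.nroots → ∃ c : K, c ≠ 0 ∧ ∀ u : K, g⁻¹ * M.X s u * g = M.X (ρ' s) (c * u))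

/-- A root element `X_a(t)`, `a > 0`, lying in the group generated by the `X_b`, `b > 0`, `b > a` (index order),
is trivial. -/
def TailInj (M : Model D K Γ) : Prop :=
  ∀ a, D.IsPosRoot a → ∀ t : K, M.X a t ∈ M.sub (fun b => D.IsPosRoot b ∧ a < b) → t = 0

/-- Separation by diagonal elements. -/
def DSep (M : Model D K Γ) : Prop :=
  ∀ r s, r < D.nroots → s < D.nroots → s ≠ r → s ≠ D.neg r →
    ∃ (g : Γ) (χ : ℕ → K), IsDiag M g χ ∧ χ r = 1 ∧ χ s ≠ 1

/-! ### Central extensions of a model -/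

variable {E : Type w} [Group E]

/-- All lifts of `g` commute with all lifts of `g'`. -/
def LiftsComm (ψ : E →* Γ) (g g' : Γ) : Prop := ∀ x y : E, ψ x = g → ψ y = g' → x * y = y * x

/-- Lifts of elements of one root subgroup commute. -/
def SelfComm (M : Model D K Γ) (ψ : E →* Γ) : Prop :=
  ∀ s, s < D.nroots → ∀ a b : K, LiftsComm ψ (M.X s a) (M.X s b)

/-- Lifts of root elements of `a` and `b` commute whenever `ComPair D a b`. -/
def PairComm (M : Model D K Γ) (ψ : E →* Γ) : Prop :=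
  ∀ a b, a < D.nroots → ComPair D a b → ∀ t u : K, LiftsComm ψ (M.X a t) (M.X b u)

/-- The canonical lifts `z r t` of the root elements: `z_s` is additive and the commutator of any lift of a diagonal
element `g` with any lift of `X_s(t)` is `z_s((χ_s - 1) t)`. -/
structure IsSection (M : Model D K Γ) (ψ : E →* Γ) (z : ℕ → K → E) : Prop where
  lift : ∀ s, s < D.nroots → ∀ t : K, ψ (z s t) = M.X s t
  add : ∀ s, s < D.nroots → ∀ t u : K, z s t * z s u = z s (t + u)
  brk : ∀ (g : Γ) (χ : ℕ → K), IsDiag M g χ → ∀ s, s < D.nroots → ∀ (t : K) (e x : E), ψ e = g → ψ x = M.X s t →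
    e * x * e⁻¹ * x⁻¹ = z s ((χ s - 1) * t)

/-- The subgroup of `E` generated by the `z a t`, `a` positive. -/
def Upos (D : ChevalleyDatum) {K : Type u} (z : ℕ → K → E) : Subgroup E :=
  Subgroup.closure {e : E | ∃ (a : ℕ) (t : K), D.IsPosRoot a ∧ e = z a t}

/-- `ψ` is injective on `Upos`. -/
def InjU (D : ChevalleyDatum) (ψ : E →* Γ) (z : ℕ → K → E) : Prop := ∀ e ∈ Upos D z, ψ e = 1 → e = 1

/-- (R2) for the elements `z r t`, all pairs of roots. -/
def R2E (D : ChevalleyDatum) (K : Type u) [Field K] (z : ℕ → K → E) : Prop :=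
  ∀ r s, r < D.nroots → s < D.nroots → s ≠ r → s ≠ D.neg r → ∀ t u : K,
    (z s u)⁻¹ * (z r t)⁻¹ * z s u * z r t = ((D.commWord K r s t u).map fun p => z p.1 p.2).prod

/-- Conjugation of the canonical lifts by lifts of the `wordElt`. -/
def WEq (M : Model D K Γ) (ψ : E →* Γ) (z : ℕ → K → E) : Prop :=
  ∀ (ws : List ℕ), (∀ i ∈ ws, i < D.rank) → ∀ e : E, ψ e = wordElt M ws → ∀ s, s < D.nroots →
    ∃ c : K, c ≠ 0 ∧ ∀ t : K, e * z s t * e⁻¹ = z (wRoot D ws s) (c * t)

end model

end Cfsg.Agent.Lib.Helper60.St3
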