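import Mathlib
import Cfsg.Agent.Lib.Helper24.PFCycDefs

/-!
# Peterfalvi section 10, T-side: the cyclic TI family seen from the partner (helper60)

`η : WChar W₁ W₂ → (G → ℂ)` is the cyclic TI family of the pair `(W₁, W₂)`.  The partner subgroup
`T` has type-P data `(W₂, V, W₁)`, so its bookkeeping is indexed by `WChar W₂ W₁`
(characters of `↥(W₂ ⊔ W₁)`).  `swapChar` transports characters along
`↥(W₂ ⊔ W₁) ≃* ↥(W₁ ⊔ W₂)` and `etaSwap η` is the same family indexed by `WChar W₂ W₁`.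
-/

set_option autoImplicit false

namespace Cfsg.Agent.Lib.Helper60.PFTenT

open Cfsg Cfsg.Agent.Lib.Helper24.PFCyc

universe u

variable {G : Type u} [Group G]

/-- `↥(W₂ ⊔ W₁) ≃* ↥(W₁ ⊔ W₂)` -/
def swapW (W₁ W₂ : Subgroup G) : ↥(W₂ ⊔ W₁) ≃* ↥(W₁ ⊔ W₂) :=
  MulEquiv.subgroupCongr (sup_comm W₂ W₁)

@[simp] theorem swapW_coe (W₁ W₂ : Subgroup G) (w : ↥(W₂ ⊔ W₁)) :
    ((swapW W₁ W₂ w : ↥(W₁ ⊔ W₂)) : G) = (w : G) := rfl

@[simp] theorem swapW_symm_coe (W₁ W₂ : Subgroup G) (w : ↥(W₁ ⊔ W₂)) :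
    (((swapW W₁ W₂).symm w : ↥(W₂ ⊔ W₁)) : G) = (w : G) := rfl

/-- transport of a character of `W₂ ⊔ W₁` to a character of `W₁ ⊔ W₂` -/
def swapChar (W₁ W₂ : Subgroup G) : WChar W₂ W₁ ≃* WChar W₁ W₂ where
  toFun ω := ω.comp (swapW W₁ W₂).symm.toMonoidHom
  invFun ω := ω.comp (swapW W₁ W₂).toMonoidHom
  left_inv ω := by
    apply MonoidHom.ext
    intro w
    simp
  right_inv ω := by
    apply MonoidHom.ext
    intro w
    simp
  map_mul' ω ω' := by
    apply MonoidHom.ext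
    intro w
    rfl

theorem swapChar_apply (W₁ W₂ : Subgroup G) (ω : WChar W₂ W₁) (w : ↥(W₁ ⊔ W₂)) :
    swapChar W₁ W₂ ω w = ω ⟨(w : G), by rw [sup_comm]; exact w.2⟩ := rfl

theorem swapChar_symm_apply (W₁ W₂ : Subgroup G) (ω : WChar W₁ W₂) (w : ↥(W₂ ⊔ W₁)) :
    (swapChar W₁ W₂).symm ω w = ω ⟨(w : G), by rw [sup_comm]; exact w.2⟩ := rfl

theorem trivOn_swapChar {W₁ W₂ X : Subgroup G} {ω : WChar W₂ W₁} :
    TrivOn X (swapChar W₁ W₂ ω) ↔ TrivOn X ω := by
  constructor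
  · intro h w hw
    have := h ⟨(w : G), by rw [sup_comm]; exact w.2⟩ hw
    rw [swapChar_apply] at this
    exact this
  · intro h w hw
    rw [swapChar_apply]
    exact h _ hw

/-- the cyclic TI family indexed from the partner's side -/
def etaSwap {W₁ W₂ : Subgroup G} (η : WChar W₁ W₂ → (G → ℂ)) : WChar W₂ W₁ → (G → ℂ) :=
  fun ω => η (swapChar W₁ W₂ ω)

theorem isSelfNormalizingCyclic_swap {W₁ W₂ : Subgroup G} (hW : IsSelfNormalizingCyclic W₁ W₂) :
    IsSelfNormalizingCyclic W₂ W₁ := by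
  obtain ⟨h1, h2, h3, h4, h5, h6⟩ := hW
  refine ⟨h2, h1, by rw [inf_comm]; exact h3, fun a ha b hb => (h4 b hb a ha).symm, ?_, ?_⟩
  · rw [sup_comm]; exact h5
  · intro X hX hne
    rw [sup_comm]
    apply h6 X _ hne
    intro x hx
    have := hX hx
    rw [sup_comm] at this
    refine ⟨this.1, ?_⟩
    rintro (h | h)
    · exact this.2 (Or.inr h)
    · exact this.2 (Or.inl h)

section Fam

variable [Fintype G]

/-- induction from equal subgroups -/
theorem indFun_congr_subgroup {H H' : Subgroup G} (h : H = H') (f : ↥H → ℂ) :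
    indFun H' (fun w => f ⟨(w : G), h ▸ w.2⟩) = indFun H f := by
  subst h
  rfl

theorem isCyclicTIFamily_swap {W₁ W₂ : Subgroup G} {η : WChar W₁ W₂ → (G → ℂ)}
    (hη : IsCyclicTIFamily W₁ W₂ η) : IsCyclicTIFamily W₂ W₁ (etaSwap η) where
  irr_or_neg ω := hη.irr_or_neg _
  orthonormal ω ω' := by
    classical
    unfold etaSwap
    rw [hη.orthonormal]
    by_cases h : ω = ω'
    · rw [if_pos h, if_pos (by rw [h])]
    · rw [if_neg h, if_neg (fun h' => h ((swapChar W₁ W₂).injective h'))]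
  map_one := by
    unfold etaSwap
    rw [map_one]
    exact hη.map_one
  eq_on ω w hw₂ hw₁ := by
    unfold etaSwap
    have := hη.eq_on (swapChar W₁ W₂ ω) ⟨(w : G), by rw [sup_comm]; exact w.2⟩ hw₁ hw₂
    rw [swapChar_apply] at this
    exact this
  induced_eq φ ψ hφ1 hψ1 hφ hψ := by
    unfold etaSwap
    have hφ' : swapChar W₁ W₂ φ ≠ 1 := fun h => hφ1 (by
      have := (swapChar W₁ W₂).injective (h.trans (map_one (swapChar W₁ W₂)).symm)
      exact this)
    have hψ' : swapChar W₁ W₂ ψ ≠ 1 := fun h => hψ1 (by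
      have := (swapChar W₁ W₂).injective (h.trans (map_one (swapChar W₁ W₂)).symm)
      exact this)
    -- roles: `ψ` is trivial on `W₂`, `φ` is trivial on `W₁`
    have h := hη.induced_eq (swapChar W₁ W₂ ψ) (swapChar W₁ W₂ φ) hψ' hφ'
      (fun w hw => by rw [swapChar_apply]; exact hψ _ hw)
      (fun w hw => by rw [swapChar_apply]; exact hφ _ hw)
    have hmul : swapChar W₁ W₂ (φ * ψ) = swapChar W₁ W₂ ψ * swapChar W₁ W₂ φ := by
      rw [map_mul]
      apply MonoidHom.ext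
      intro w
      rw [MonoidHom.mul_apply, MonoidHom.mul_apply]
      exact mul_comm _ _
    rw [hmul]
    have hsum : (fun g => 1 - η (swapChar W₁ W₂ φ) g - η (swapChar W₁ W₂ ψ) g +
        η (swapChar W₁ W₂ ψ * swapChar W₁ W₂ φ) g) =
        fun g => 1 - η (swapChar W₁ W₂ ψ) g - η (swapChar W₁ W₂ φ) g +
          η (swapChar W₁ W₂ ψ * swapChar W₁ W₂ φ) g := by
      funext g
      ring
    rw [hsum, ← h]
    rw [← indFun_congr_subgroup (sup_comm W₁ W₂)]
    congr 1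
    funext w
    simp only [swapChar_apply]
    ring

/-- the row sums of the family seen from the partner: `∑_ψ η_{β ψ}` over the `ψ` trivial on `W₁` -/
theorem etaSum_etaSwap {W₁ W₂ : Subgroup G} (η : WChar W₁ W₂ → (G → ℂ)) (β : WChar W₂ W₁) :
    etaSum (etaSwap η) β = ∑ ψ ∈ trivSet W₁ W₂ W₁, η (swapChar W₁ W₂ β * ψ) := by
  classical
  unfold etaSum etaSwap
  refine Finset.sum_nbij' (fun φ => swapChar W₁ W₂ φ) (fun ψ => (swapChar W₁ W₂).symm ψ)
    ?_ ?_ ?_ ?_ ?_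
  · intro φ hφ
    rw [mem_trivSet] at hφ ⊢
    exact trivOn_swapChar.mpr hφ
  · intro ψ hψ
    rw [mem_trivSet] at hψ ⊢
    have h := (trivOn_swapChar (W₁ := W₁) (W₂ := W₂) (X := W₁)
      (ω := (swapChar W₁ W₂).symm ψ)).mp
    apply h
    rw [MulEquiv.apply_symm_apply]
    exact hψ
  · intro φ _
    exact MulEquiv.symm_apply_apply _ _
  · intro ψ _
    exact MulEquiv.apply_symm_apply _ _
  · intro φ _
    rw [map_mul]
    have e : swapChar W₁ W₂ φ * swapChar W₁ W₂ β = swapChar W₁ W₂ β * swapChar W₁ W₂ φ := by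
      apply MonoidHom.ext
      intro w
      rw [MonoidHom.mul_apply, MonoidHom.mul_apply]
      exact mul_comm _ _
    rw [e]

omit [Fintype G] in
/-- `swapChar` is compatible with the Galois action -/
theorem swapChar_galChar (W₁ W₂ : Subgroup G) (σ : ℂ ≃+* ℂ) (ω : WChar W₂ W₁) :
    swapChar W₁ W₂ (galChar σ ω) = galChar σ (swapChar W₁ W₂ ω) := rfl

omit [Fintype G] in
theorem swapChar_ne_one {W₁ W₂ : Subgroup G} {ω : WChar W₂ W₁} (h : ω ≠ 1) :
    swapChar W₁ W₂ ω ≠ 1 := fun h' =>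
  h ((swapChar W₁ W₂).injective (h'.trans (map_one (swapChar W₁ W₂)).symm))


end Fam

end Cfsg.Agent.Lib.Helper60.PFTenT
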