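import Mathlib
import Cfsg.Agent.Lib.Helper24.PFCycDefs
import Cfsg.Agent.Lib.Helper24.PFCycDadeInd
import Cfsg.Agent.Lib.Helper4.PFTypes
import Cfsg.Agent.Lib.Helper3.Induction
import Cfsg.Agent.Lib.Helper74.IndLinear

/-!
# Peterfalvi sections 10-13, shared bookkeeping: module [B1] (helper60)

`dade_rect`: the Dade image of `β_{φψ} = 1 - μ_φ - δ_ψ μ_ψ + δ_ψ μ_{φψ} = Ind_W^M((1-φ)(1-ψ))`
is `1 - η_φ - η_ψ + η_{φψ}`.
-/

set_option autoImplicit false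

namespace Cfsg.Agent.Lib.Helper60.PFCycB

open Cfsg Cfsg.Agent.Lib.Helper4.PF Cfsg.Agent.Lib.Helper24.PFCyc

universe u

section Basic

variable {G : Type u} [Group G]

/-- `W = W₁ ⊔ W₂ ≤ M` for type-P data. -/
theorem W_le {M W₁ U W₂ : Subgroup G} (hP : IsTypePWith M W₁ U W₂) : W₁ ⊔ W₂ ≤ M :=
  sup_le hP.W₁_compl.2.1
    (((hP.W₂_le.trans inf_le_left).trans hP.U_compl.1).trans hP.W₁_compl.1)

/-- the centralizer of an element of `W \ (W₁ ∪ W₂)` lies in `W`. -/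
theorem centralizer_le_W {W₁ W₂ : Subgroup G} (hW : IsSelfNormalizingCyclic W₁ W₂) {w : G}
    (hw : w ∈ W₁ ⊔ W₂) (hw1 : w ∉ W₁) (hw2 : w ∉ W₂) :
    Subgroup.centralizer ({w} : Set G) ≤ W₁ ⊔ W₂ := by
  have hN := hW.2.2.2.2.2 ({w} : Set G) (by
    intro x hx
    rw [Set.mem_singleton_iff] at hx
    subst hx
    refine ⟨hw, ?_⟩
    rintro (h | h)
    · exact hw1 h
    · exact hw2 h) ⟨w, rfl⟩
  rw [← hN]
  intro g hg
  rw [Subgroup.mem_set_normalizer_iff]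
  intro h
  have hgw : g * w * g⁻¹ = w := by
    have := Subgroup.mem_centralizer_iff.1 hg w rfl
    rw [← this, mul_inv_cancel_right]
  constructor
  · intro hh
    rw [Set.mem_singleton_iff] at hh
    subst hh
    rw [hgw]; rfl
  · intro hh
    rw [Set.mem_singleton_iff] at hh ⊢
    have : g * h * g⁻¹ = g * w * g⁻¹ := by rw [hh, hgw]
    have h2 : g * h = g * w := mul_right_cancel this
    exact mul_left_cancel h2

/-- **[LITA0]** the `M`-conjugates of the elements of `W \ (W₁ ∪ W₂)` lie in `A₀(M)` and have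
`R = 1`. -/
theorem litA0_conj {M W₁ U W₂ : Subgroup G} (hP : IsTypePWith M W₁ U W₂) {w : G}
    (hw : w ∈ W₁ ⊔ W₂) (hw1 : w ∉ W₁) (hw2 : w ∉ W₂) {m : G} (hm : m ∈ M) :
    m * w * m⁻¹ ∈ litA0 M ∧ supportR M (m * w * m⁻¹) = ⊥ := by
  refine ⟨Or.inr ⟨W₁, U, W₂, hP, m, hm, w, hw, hw1, hw2, rfl⟩, ?_⟩
  unfold supportR
  rw [dif_neg]
  intro hc
  apply hc.1
  intro g hg
  have hg' : m⁻¹ * g * m ∈ Subgroup.centralizer ({w} : Set G) := by
    rw [Subgroup.mem_centralizer_iff]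
    intro y hy
    rw [Set.mem_singleton_iff] at hy
    subst hy
    have := Subgroup.mem_centralizer_iff.1 hg (m * y * m⁻¹) rfl
    -- this : m * y * m⁻¹ * g = g * (m * y * m⁻¹)
    have e : y * (m⁻¹ * g * m) = m⁻¹ * (m * y * m⁻¹ * g) * m := by group
    rw [e, this]
    group
  have h3 : m⁻¹ * g * m ∈ M := W_le hP (centralizer_le_W hP.selfNormalizing hw hw1 hw2 hg')
  have : g = m * (m⁻¹ * g * m) * m⁻¹ := by group
  rw [this]
  exact M.mul_mem (M.mul_mem hm h3) (M.inv_mem hm)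

end Basic

section Ind

variable {G : Type u} [Group G] [Fintype G]

theorem indFun_sub' (H : Subgroup G) (f g : H → ℂ) :
    indFun H (f - g) = indFun H f - indFun H g := by
  have : f - g = f + (-1 : ℂ) • g := by
    funext x; simp [sub_eq_add_neg]
  rw [this, Cfsg.Agent.Lib.Helper74.indFun_add, Cfsg.Agent.Lib.Helper74.indFun_smul]
  funext x; simp [sub_eq_add_neg]

/-- if an induced function does not vanish at `g`, some conjugate of `g` lies in `H` and the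
inducing function does not vanish there. -/
theorem exists_of_indFun_ne_zero (H : Subgroup G) (θ : H → ℂ) (g : G) (h : indFun H θ g ≠ 0) :
    ∃ x : G, ∃ hx : x⁻¹ * g * x ∈ H, θ ⟨x⁻¹ * g * x, hx⟩ ≠ 0 := by
  by_contra hcon
  apply h
  unfold indFun
  rw [Finset.sum_eq_zero, mul_zero]
  intro x _
  by_cases hx : x⁻¹ * g * x ∈ H
  · rw [Cfsg.Agent.Lib.Helper75.extendByZero_of_mem H θ hx]
    by_contra h0
    exact hcon ⟨x, hx, h0⟩
  · exact Cfsg.Agent.Lib.Helper75.extendByZero_of_not_mem H θ hx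

end Ind

section B1

variable {G : Type u} [Group G] [Fintype G] {M W₁ U W₂ : Subgroup G} [Fintype M]
  {mu : WChar W₁ W₂ → (↥M → ℂ)} {dl : WChar W₁ W₂ → ℂ}

omit [Fintype G] in
/-- a function induced from `W` to `M`, whose inducing function vanishes on `W₁ ∪ W₂`, vanishes off
`A₀(M)` and off the set where `R = 1`. -/
theorem ind_pullW_support (hP : IsTypePWith M W₁ U W₂) (f : ↥(W₁ ⊔ W₂) → ℂ)
    (hf : ∀ w : ↥(W₁ ⊔ W₂), ((w : G) ∈ W₁ ∨ (w : G) ∈ W₂) → f w = 0) (x : ↥M)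
    (hx : indFun ((W₁ ⊔ W₂).subgroupOf M) (pullW M f) x ≠ 0) :
    (x : G) ∈ litA0 M ∧ supportR M (x : G) = ⊥ := by
  obtain ⟨y, hy, hne⟩ := exists_of_indFun_ne_zero _ _ x hx
  have hyW : ((y⁻¹ * x * y : ↥M) : G) ∈ W₁ ⊔ W₂ := Subgroup.mem_subgroupOf.mp hy
  have hne' : f ⟨((y⁻¹ * x * y : ↥M) : G), hyW⟩ ≠ 0 := hne
  have hw1 : ((y⁻¹ * x * y : ↥M) : G) ∉ W₁ := fun h => hne' (hf _ (Or.inl h))
  have hw2 : ((y⁻¹ * x * y : ↥M) : G) ∉ W₂ := fun h => hne' (hf _ (Or.inr h))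
  have hx_eq : (x : G) = (y : G) * ((y⁻¹ * x * y : ↥M) : G) * (y : G)⁻¹ := by
    push_cast
    group
  rw [hx_eq]
  exact litA0_conj hP hyW hw1 hw2 y.2

/-- **MODULE [B1]** (`Helper24.PFCyc.dade_rect`, exact statement of helper24 #3853). -/
theorem dade_rect (hP : IsTypePWith M W₁ U W₂)
    (hD : DadeHypothesis (litA0 M) M (supportR M))
    (md : MuData M W₁ W₂ mu dl) (h1 : mu 1 = fun _ => 1)
    (hdl : ∀ φ : WChar W₁ W₂, TrivOn W₂ φ → dl φ = 1)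
    (η : WChar W₁ W₂ → (G → ℂ)) (hη : IsCyclicTIFamily W₁ W₂ η)
    (φ ψ : WChar W₁ W₂) (hφ : TrivOn W₂ φ) (hψ : TrivOn W₁ ψ) (hφ1 : φ ≠ 1) (hψ1 : ψ ≠ 1) :
    dadeIsometry (litA0 M) M (supportR M)
        ((fun _ => 1) - mu φ - dl ψ • mu ψ + dl ψ • mu (φ * ψ)) =
      fun g => 1 - η φ g - η ψ g + η (φ * ψ) g := by
  classical
  have hWle : W₁ ⊔ W₂ ≤ M := W_le hP
  let f : ↥(W₁ ⊔ W₂) → ℂ :=
    fun w => 1 - ((φ w : ℂˣ) : ℂ) - ((ψ w : ℂˣ) : ℂ) + ((φ w : ℂˣ) : ℂ) * ((ψ w : ℂˣ) : ℂ)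
  have e1 := md.ind_sub 1 φ (fun w hw => by rw [hφ w hw]; rfl)
  have e2 := md.ind_sub ψ (φ * ψ) (fun w hw => by rw [MonoidHom.mul_apply, hφ w hw, one_mul])
  have hd1 : dl 1 = 1 := hdl 1 (trivOn_one W₂)
  have hβ : (fun _ => (1 : ℂ)) - mu φ - dl ψ • mu ψ + dl ψ • mu (φ * ψ) =
      indFun ((W₁ ⊔ W₂).subgroupOf M) (pullW M f) := by
    have hf : pullW M f =
        pullW M (fun w => (((1 : WChar W₁ W₂) w : ℂˣ) : ℂ) - ((φ w : ℂˣ) : ℂ)) -
          pullW M (fun w => ((ψ w : ℂˣ) : ℂ) - (((φ * ψ) w : ℂˣ) : ℂ)) := by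
      funext w
      simp only [pullW, f, Pi.sub_apply, MonoidHom.one_apply, Units.val_one, MonoidHom.mul_apply,
        Units.val_mul]
      ring
    rw [hf, indFun_sub', e1, e2, hd1, h1]
    funext x
    simp only [Pi.sub_apply, Pi.add_apply, Pi.smul_apply, smul_eq_mul]
    ring
  rw [hβ]
  have hf0 : ∀ w : ↥(W₁ ⊔ W₂), ((w : G) ∈ W₁ ∨ (w : G) ∈ W₂) → f w = 0 := by
    intro w hw
    rcases hw with hw | hw
    · have : ψ w = 1 := hψ w hw
      simp only [f, this, Units.val_one]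
      ring
    · have : φ w = 1 := hφ w hw
      simp only [f, this, Units.val_one]
      ring
  have hsupp := ind_pullW_support hP f hf0
  rw [dade_eq_indFun_of_support hD _
    (Cfsg.Agent.Lib.Helper75.isClassFunction_indFun _ _)
    (fun x hx => by
      by_contra h0
      exact hx (hsupp x h0).1)
    (fun x hx => (hsupp x hx).2)]
  have htr := Cfsg.Agent.Lib.Helper3.indFun_trans (W₁ ⊔ W₂) M hWle f
  have hpull : (fun x : ↥((W₁ ⊔ W₂).subgroupOf M) =>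
      f ⟨((x : ↥M) : G), Subgroup.mem_subgroupOf.mp x.2⟩) = pullW M f := rfl
  rw [hpull] at htr
  rw [htr]
  exact hη.induced_eq φ ψ hφ1 hψ1 hφ hψ

end B1

end Cfsg.Agent.Lib.Helper60.PFCycB
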