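import Mathlib
import Cfsg.Agent.Lib.Helper60.PFCycB1
import Cfsg.Agent.Lib.Helper50.PFCycMuOne
import Cfsg.Agent.Lib.Helper25.Dual2
import Cfsg.Agent.Lib.Helper25.CharBasic
import Cfsg.Agent.Lib.Helper80.CharBasic
import Cfsg.Agent.Lib.Helper74.PFTwelveA
import Cfsg.Agent.S1500
import Cfsg.Agent.S1501

/-!
# Peterfalvi sections 10-13, shared bookkeeping: module [B2], part (a) (helper60)

Auxiliary facts: `|trivSet W₁ W₂ W₂| = |W₁|`, extensionality of characters of `W = W₁ × W₂`,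
`ℂ`-linearity of the Dade map on arbitrary functions, and the core of [B2] with the two modules
[M-COVER] and [B2-LAT] as explicit hypotheses.
-/

set_option autoImplicit false

namespace Cfsg.Agent.Lib.Helper60.PFCycB

open Cfsg Cfsg.Agent.Lib.Helper4.PF Cfsg.Agent.Lib.Helper24.PFCyc

universe u

section Card

variable {G : Type u} [Group G]

/-- characters of `W = W₁ W₂` agreeing on `W₁` and on `W₂` are equal. -/
theorem wchar_ext {W₁ W₂ : Subgroup G} (hW : IsSelfNormalizingCyclic W₁ W₂)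
    {ω ω' : WChar W₁ W₂}
    (h1 : ∀ w : ↥(W₁ ⊔ W₂), (w : G) ∈ W₁ → ω w = ω' w)
    (h2 : ∀ w : ↥(W₁ ⊔ W₂), (w : G) ∈ W₂ → ω w = ω' w) : ω = ω' := by
  apply MonoidHom.ext
  intro w
  obtain ⟨a, ha, b, hb, hab⟩ :=
    Cfsg.Agent.Lib.Helper50.PFCyc.mem_sup_of_comm hW.2.2.2.1 w.2
  have hw : w = (⟨a, Subgroup.mem_sup_left ha⟩ : ↥(W₁ ⊔ W₂)) *
      ⟨b, Subgroup.mem_sup_right hb⟩ := Subtype.ext hab
  rw [hw, map_mul, map_mul, h1 _ ha, h2 _ hb]

/-- `|W₁ W₂| = |W₁| |W₂|`. -/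
theorem card_W [Finite G] {W₁ W₂ : Subgroup G} (hW : IsSelfNormalizingCyclic W₁ W₂) :
    Nat.card ↥(W₁ ⊔ W₂) = Nat.card W₁ * Nat.card W₂ := by
  let f : ↥W₁ × ↥W₂ → ↥(W₁ ⊔ W₂) := fun ab =>
    ⟨(ab.1 : G) * (ab.2 : G),
      Subgroup.mul_mem _ (Subgroup.mem_sup_left ab.1.2) (Subgroup.mem_sup_right ab.2.2)⟩
  have hinj : Function.Injective f := by
    rintro ⟨a, b⟩ ⟨a', b'⟩ h
    have h0 : (a : G) * (b : G) = (a' : G) * (b' : G) := congrArg Subtype.val h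
    have h1 : (a' : G)⁻¹ * (a : G) = (b' : G) * (b : G)⁻¹ := by
      have : (a' : G)⁻¹ * ((a : G) * (b : G)) * (b : G)⁻¹ =
          (a' : G)⁻¹ * ((a' : G) * (b' : G)) * (b : G)⁻¹ := by rw [h0]
      calc (a' : G)⁻¹ * (a : G) = (a' : G)⁻¹ * ((a : G) * (b : G)) * (b : G)⁻¹ := by group
        _ = (a' : G)⁻¹ * ((a' : G) * (b' : G)) * (b : G)⁻¹ := this
        _ = (b' : G) * (b : G)⁻¹ := by group
    have h2 : (a' : G)⁻¹ * (a : G) ∈ W₁ ⊓ W₂ := by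
      refine ⟨W₁.mul_mem (W₁.inv_mem a'.2) a.2, ?_⟩
      rw [h1]
      exact W₂.mul_mem b'.2 (W₂.inv_mem b.2)
    rw [hW.2.2.1, Subgroup.mem_bot] at h2
    have ha : (a : G) = (a' : G) := by
      have := inv_mul_eq_one.mp h2
      exact this.symm
    have hb : (b : G) = (b' : G) := by
      rw [ha] at h0
      exact mul_left_cancel h0
    exact Prod.ext (Subtype.ext ha) (Subtype.ext hb)
  have hsurj : Function.Surjective f := by
    intro w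
    obtain ⟨a, ha, b, hb, hab⟩ :=
      Cfsg.Agent.Lib.Helper50.PFCyc.mem_sup_of_comm hW.2.2.2.1 w.2
    exact ⟨(⟨a, ha⟩, ⟨b, hb⟩), Subtype.ext hab.symm⟩
  rw [← Nat.card_prod]
  exact (Nat.card_congr (Equiv.ofBijective f ⟨hinj, hsurj⟩)).symm

/-- there are exactly `|W₁|` characters of `W` trivial on `W₂`. -/
theorem card_trivSet_W₂ [Finite G] {W₁ W₂ : Subgroup G} (hW : IsSelfNormalizingCyclic W₁ W₂) :
    (trivSet W₁ W₂ W₂).card = Nat.card W₁ := by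
  classical
  have : Fintype ↥(W₁ ⊔ W₂) := Fintype.ofFinite _
  have hc : ∀ a b : ↥(W₁ ⊔ W₂), a * b = b * a := by
    have hcyc : IsCyclic ↥(W₁ ⊔ W₂) := hW.2.2.2.2.1
    intro a b
    exact (IsCyclic.isMulCommutative (α := ↥(W₁ ⊔ W₂))).is_comm.comm a b
  have h1 := Cfsg.Agent.Lib.Helper25.card_dualOf_mul hc (W₂.subgroupOf (W₁ ⊔ W₂))
  have h2 : trivSet W₁ W₂ W₂ =
      Cfsg.Agent.Lib.Helper25.dualOf (W₂.subgroupOf (W₁ ⊔ W₂)) := by
    ext ω
    rw [mem_trivSet, Cfsg.Agent.Lib.Helper25.mem_dualOf]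
    constructor
    · intro h n hn
      exact h n (Subgroup.mem_subgroupOf.mp hn)
    · intro h w hw
      exact h w (Subgroup.mem_subgroupOf.mpr hw)
  have h3 : Nat.card (W₂.subgroupOf (W₁ ⊔ W₂)) = Nat.card W₂ :=
    Nat.card_congr (Subgroup.subgroupOfEquivOfLe le_sup_right).toEquiv
  rw [h2]
  have h5 : (Cfsg.Agent.Lib.Helper25.dualOf (W₂.subgroupOf (W₁ ⊔ W₂))).card * Nat.card W₂ =
      Nat.card W₁ * Nat.card W₂ := by
    calc (Cfsg.Agent.Lib.Helper25.dualOf (W₂.subgroupOf (W₁ ⊔ W₂))).card * Nat.card W₂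
        = (Cfsg.Agent.Lib.Helper25.dualOf (W₂.subgroupOf (W₁ ⊔ W₂))).card *
            Nat.card (W₂.subgroupOf (W₁ ⊔ W₂)) := by rw [h3]
      _ = Nat.card ↥(W₁ ⊔ W₂) := h1
      _ = Nat.card W₁ * Nat.card W₂ := card_W hW
  exact Nat.eq_of_mul_eq_mul_right Nat.card_pos h5

end Card

section DadeLin

variable {G : Type u} [Group G] (A : Set G) (L : Subgroup G) (R : G → Subgroup G)

theorem dade_zero' : dadeIsometry A L R (0 : L → ℂ) = 0 := by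
  funext g
  unfold dadeIsometry
  split_ifs <;> simp

theorem dade_smul' (c : ℂ) (α : L → ℂ) :
    dadeIsometry A L R (c • α) = c • dadeIsometry A L R α := by
  funext g
  unfold dadeIsometry
  simp only [Pi.smul_apply]
  split_ifs <;> simp

theorem dade_sum' {ι : Type*} (s : Finset ι) (f : ι → L → ℂ) :
    dadeIsometry A L R (∑ i ∈ s, f i) = ∑ i ∈ s, dadeIsometry A L R (f i) := by
  classical
  induction s using Finset.induction_on with
  | empty => simp [dade_zero']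
  | insert a s ha ih =>
    rw [Finset.sum_insert ha, Finset.sum_insert ha, Cfsg.Agent.Lib.Helper74.PF12.dade_add, ih]

end DadeLin

section Core

variable {G : Type u} [Group G] [Fintype G] {M W₁ U W₂ : Subgroup G} [Fintype M]
  {mu : WChar W₁ W₂ → (↥M → ℂ)} {dl : WChar W₁ W₂ → ℂ}

omit [Fintype G] in
/-- `φψ = φ'ψ'` forces `ψ = ψ'` (for `φ, φ'` trivial on `W₂` and `ψ, ψ'` trivial on `W₁`). -/
theorem psi_eq_of_mul_eq (hW : IsSelfNormalizingCyclic W₁ W₂) {φ φ' ψ ψ' : WChar W₁ W₂}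
    (hφ : TrivOn W₂ φ) (hφ' : TrivOn W₂ φ') (hψ : TrivOn W₁ ψ) (hψ' : TrivOn W₁ ψ')
    (h : φ * ψ = φ' * ψ') : ψ = ψ' := by
  apply wchar_ext hW
  · intro w hw
    rw [hψ w hw, hψ' w hw]
  · intro w hw
    have h1 : (φ * ψ) w = ψ w := by rw [MonoidHom.mul_apply, hφ w hw, one_mul]
    have h2 : (φ' * ψ') w = ψ' w := by rw [MonoidHom.mul_apply, hφ' w hw, one_mul]
    rw [← h1, ← h2, h]

omit [Fintype G] in
/-- Off `A₀(M)` the characters `μ_{φψ}` and `μ_{φψ'}` agree. -/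
theorem mu_eq_off_litA0 (hP : IsTypePWith M W₁ U W₂) (md : MuData M W₁ W₂ mu dl) [Finite G]
    (hcover : ∀ m : G, m ∈ M → m ∉ ⁅M, M⁆ →
      ∃ x ∈ M, x * m * x⁻¹ ∈ W₁ ⊔ W₂ ∧ x * m * x⁻¹ ∉ W₂)
    (ψ ψ' : WChar W₁ W₂) (hψ : TrivOn W₁ ψ) (hψ' : TrivOn W₁ ψ')
    (hdl : dl ψ = dl ψ') (hdeg : mu ψ 1 = mu ψ' 1)
    (hsupp : ∀ x : ↥M, (x : G) ∈ ⁅M, M⁆ → (x : G) ∉ litA0 M → x ≠ 1 →
      ∀ φ : WChar W₁ W₂, TrivOn W₂ φ → mu (φ * ψ) x = mu (φ * ψ') x)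
    (x : ↥M) (hx : (x : G) ∉ litA0 M) (φ : WChar W₁ W₂) (hφ : TrivOn W₂ φ) :
    mu (φ * ψ) x = mu (φ * ψ') x := by
  have hagree : ∀ χ : WChar W₁ W₂, ∀ w : ↥(W₁ ⊔ W₂), (w : G) ∈ W₂ → (φ * χ) w = χ w := by
    intro χ w hw
    rw [MonoidHom.mul_apply, hφ w hw, one_mul]
  by_cases hxK : (x : G) ∈ ⁅M, M⁆
  · by_cases hx1 : x = 1
    · subst hx1
      have e1 := Cfsg.Agent.Lib.Helper50.PFCyc.mu_res_eq hP md (φ * ψ) ψ (hagree ψ) 1
        (by simp)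
      have e2 := Cfsg.Agent.Lib.Helper50.PFCyc.mu_res_eq hP md (φ * ψ') ψ' (hagree ψ') 1
        (by simp)
      rw [e1, e2, hdeg]
    · exact hsupp x hxK hx hx1 φ hφ
  · obtain ⟨y, hy, hw, hw2⟩ := hcover (x : G) x.2 hxK
    by_cases hw1 : y * (x : G) * y⁻¹ ∈ W₁
    · -- conjugate into `W₁ \ {1}`
      let Y : ↥M := ⟨y, hy⟩
      have hcf : ∀ ω, mu ω (Y * x * Y⁻¹) = mu ω x := fun ω =>
        Cfsg.Agent.Lib.Helper25.isClassFunction_of_isCharacter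
          (Cfsg.Agent.Lib.Helper25.isCharacter_of_irr (md.irr ω)) x Y
      have hYw : ((Y * x * Y⁻¹ : ↥M) : G) = y * (x : G) * y⁻¹ := rfl
      have hv : ∀ ω, mu ω (Y * x * Y⁻¹) =
          dl ω * ((ω ⟨y * (x : G) * y⁻¹, hw⟩ : ℂˣ) : ℂ) := by
        intro ω
        exact md.val ω (Y * x * Y⁻¹) hw hw2
      rw [← hcf (φ * ψ), ← hcf (φ * ψ'), hv, hv, md.dl_congr (φ * ψ) ψ (hagree ψ),
        md.dl_congr (φ * ψ') ψ' (hagree ψ'), hdl, MonoidHom.mul_apply, MonoidHom.mul_apply,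
        hψ _ hw1, hψ' _ hw1]
    · exfalso
      apply hx
      have := (litA0_conj hP hw hw1 hw2 (M.inv_mem hy)).1
      have e : y⁻¹ * (y * (x : G) * y⁻¹) * y⁻¹⁻¹ = (x : G) := by group
      rwa [e] at this

omit [Fintype G] [Fintype M] in
theorem isClassFunction_sub' {f₁ f₂ : ↥M → ℂ} (h₁ : IsClassFunction ↥M f₁)
    (h₂ : IsClassFunction ↥M f₂) : IsClassFunction ↥M (f₁ - f₂) := by
  intro g h
  simp only [Pi.sub_apply]
  rw [h₁ g h, h₂ g h]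

omit [Fintype G] [Fintype M] in
theorem isClassFunction_sum' {ι : Type*} (s : Finset ι) (f : ι → ↥M → ℂ)
    (h : ∀ i ∈ s, IsClassFunction ↥M (f i)) : IsClassFunction ↥M (∑ i ∈ s, f i) := by
  intro g x
  simp only [Finset.sum_apply]
  exact Finset.sum_congr rfl (fun i hi => h i hi g x)

omit [Fintype G] in
theorem norm_mu_sub (md : MuData M W₁ W₂ mu dl) (ψ ψ' : WChar W₁ W₂) (hne : ψ ≠ ψ') :
    classInner (mu ψ - mu ψ') (mu ψ - mu ψ') = 2 := by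
  have hne' : mu ψ ≠ mu ψ' := fun h => hne (md.inj h)
  rw [Cfsg.Agent.Lib.Helper25.classInner_sub_left, Cfsg.Agent.Lib.Helper25.classInner_sub_right,
    Cfsg.Agent.Lib.Helper25.classInner_sub_right,
    Cfsg.Agent.Lib.Helper25.irr_norm_one _ (md.irr ψ),
    Cfsg.Agent.Lib.Helper25.irr_norm_one _ (md.irr ψ'),
    Cfsg.Agent.Lib.Helper25.irr_orthogonal _ _ (md.irr ψ) (md.irr ψ') hne',
    Cfsg.Agent.Lib.Helper25.irr_orthogonal _ _ (md.irr ψ') (md.irr ψ) hne'.symm]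
  norm_num

omit [Fintype G] in
theorem inner_muSum_self [Finite G] (hW : IsSelfNormalizingCyclic W₁ W₂)
    (md : MuData M W₁ W₂ mu dl) (ψ : WChar W₁ W₂) :
    classInner (muSum mu ψ) (muSum mu ψ) = (Nat.card W₁ : ℂ) := by
  classical
  unfold muSum
  rw [Cfsg.Agent.Lib.Helper25.classInner_sum_left]
  have h1 : ∀ φ ∈ trivSet W₁ W₂ W₂,
      classInner (mu (φ * ψ)) (∑ φ' ∈ trivSet W₁ W₂ W₂, mu (φ' * ψ)) = 1 := by
    intro φ hφ
    rw [Cfsg.Agent.Lib.Helper25.classInner_sum_right, Finset.sum_eq_single φ]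
    · exact Cfsg.Agent.Lib.Helper25.irr_norm_one _ (md.irr _)
    · intro φ' _ hne
      apply Cfsg.Agent.Lib.Helper25.irr_orthogonal _ _ (md.irr _) (md.irr _)
      intro heq
      exact hne (mul_right_cancel (md.inj heq)).symm
    · intro hnot
      exact absurd hφ hnot
  rw [Finset.sum_congr rfl h1, Finset.sum_const, card_trivSet_W₂ hW]
  simp

omit [Fintype G] in
theorem inner_muSum_ne [Finite G] (hW : IsSelfNormalizingCyclic W₁ W₂)
    (md : MuData M W₁ W₂ mu dl)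
    (ψ ψ' : WChar W₁ W₂) (hψ : TrivOn W₁ ψ) (hψ' : TrivOn W₁ ψ') (h : ψ ≠ ψ') :
    classInner (muSum mu ψ) (muSum mu ψ') = 0 := by
  classical
  unfold muSum
  rw [Cfsg.Agent.Lib.Helper25.classInner_sum_left]
  apply Finset.sum_eq_zero
  intro φ hφ
  rw [Cfsg.Agent.Lib.Helper25.classInner_sum_right]
  apply Finset.sum_eq_zero
  intro φ' hφ'
  apply Cfsg.Agent.Lib.Helper25.irr_orthogonal _ _ (md.irr _) (md.irr _)
  intro heq
  exact h (psi_eq_of_mul_eq hW (mem_trivSet.mp hφ) (mem_trivSet.mp hφ') hψ hψ' (md.inj heq))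

omit [Fintype G] in
theorem norm_muSum_sub [Finite G] (hW : IsSelfNormalizingCyclic W₁ W₂)
    (md : MuData M W₁ W₂ mu dl)
    (ψ ψ' : WChar W₁ W₂) (hψ : TrivOn W₁ ψ) (hψ' : TrivOn W₁ ψ') (hne : ψ ≠ ψ') :
    classInner (muSum mu ψ - muSum mu ψ') (muSum mu ψ - muSum mu ψ') =
      2 * (Nat.card W₁ : ℂ) := by
  rw [Cfsg.Agent.Lib.Helper25.classInner_sub_left, Cfsg.Agent.Lib.Helper25.classInner_sub_right,
    Cfsg.Agent.Lib.Helper25.classInner_sub_right,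
    inner_muSum_self hW md ψ, inner_muSum_self hW md ψ',
    inner_muSum_ne hW md ψ ψ' hψ hψ' hne, inner_muSum_ne hW md ψ' ψ hψ' hψ (Ne.symm hne)]
  ring

/-- **[B2], core**: module [B2] with the two modules [M-COVER] and [B2-LAT] (for the given
`η, ψ, ψ'`) as explicit hypotheses. -/
theorem dade_mu_sub_of (hP : IsTypePWith M W₁ U W₂)
    (hD : DadeHypothesis (litA0 M) M (supportR M))
    (md : MuData M W₁ W₂ mu dl) (hodd : Odd (Nat.card M))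
    (η : WChar W₁ W₂ → (G → ℂ)) (hη : IsCyclicTIFamily W₁ W₂ η)
    (ψ ψ' : WChar W₁ W₂) (hψ : TrivOn W₁ ψ) (hψ' : TrivOn W₁ ψ') (hψ1 : ψ ≠ 1) (hψ'1 : ψ' ≠ 1)
    (hne : ψ ≠ ψ') (hdl : dl ψ = dl ψ') (hdeg : mu ψ 1 = mu ψ' 1)
    (hsupp : ∀ x : ↥M, (x : G) ∈ ⁅M, M⁆ → (x : G) ∉ litA0 M → x ≠ 1 →
      ∀ φ : WChar W₁ W₂, TrivOn W₂ φ → mu (φ * ψ) x = mu (φ * ψ') x)
    (hcover : ∀ m : G, m ∈ M → m ∉ ⁅M, M⁆ →
      ∃ x ∈ M, x * m * x⁻¹ ∈ W₁ ⊔ W₂ ∧ x * m * x⁻¹ ∉ W₂)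
    (hlat : 3 ≤ Nat.card W₁ → ∀ X Z : G → ℂ, IsGeneralizedCharacter G X →
      IsGeneralizedCharacter G Z → classInner X X = 2 →
      classInner Z Z = 2 * (Nat.card W₁ : ℂ) → ∀ δ : ℂ, (δ = 1 ∨ δ = -1) →
      δ • Z - ((Nat.card W₁ : ℂ) * δ) • X =
        (etaSum η ψ - etaSum η ψ') - (Nat.card W₁ : ℂ) • (η ψ - η ψ') →
      X = δ • (η ψ - η ψ') ∧ Z = δ • (etaSum η ψ - etaSum η ψ')) :
    dadeIsometry (litA0 M) M (supportR M) (mu ψ - mu ψ') = dl ψ • (η ψ - η ψ') ∧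
    dadeIsometry (litA0 M) M (supportR M) (muSum mu ψ - muSum mu ψ') =
      dl ψ • (etaSum η ψ - etaSum η ψ') := by
  classical
  have hW := hP.selfNormalizing
  have h1 : mu 1 = fun _ => 1 := Cfsg.Agent.Lib.Helper50.PFCyc.mu_one hP hodd md
  have hdl1 : ∀ φ : WChar W₁ W₂, TrivOn W₂ φ → dl φ = 1 := fun φ hφ =>
    (Cfsg.Agent.Lib.Helper50.PFCyc.mu_of_trivOn hP hodd md φ hφ).1
  have hδ' : dl ψ' = dl ψ := hdl.symm
  -- the rectangle identity for every `φ` trivial on `W₂`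
  have hrect : ∀ φ ∈ trivSet W₁ W₂ W₂,
      dadeIsometry (litA0 M) M (supportR M)
        (dl ψ • (mu (φ * ψ) - mu (φ * ψ')) - dl ψ • (mu ψ - mu ψ')) =
        (η (φ * ψ) - η (φ * ψ')) - (η ψ - η ψ') := by
    intro φ hφT
    have hφ := mem_trivSet.mp hφT
    by_cases hφ1 : φ = 1
    · subst hφ1
      have e1 : (1 : WChar W₁ W₂) * ψ = ψ := one_mul ψ
      have e2 : (1 : WChar W₁ W₂) * ψ' = ψ' := one_mul ψ'
      rw [e1, e2, sub_self, sub_self]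
      exact dade_zero' _ _ _
    · have r1 := dade_rect hP hD md h1 hdl1 η hη φ ψ hφ hψ hφ1 hψ1
      have r2 := dade_rect hP hD md h1 hdl1 η hη φ ψ' hφ hψ' hφ1 hψ'1
      rw [hδ'] at r2
      have e : dl ψ • (mu (φ * ψ) - mu (φ * ψ')) - dl ψ • (mu ψ - mu ψ') =
          ((fun _ => (1 : ℂ)) - mu φ - dl ψ • mu ψ + dl ψ • mu (φ * ψ)) -
            ((fun _ => (1 : ℂ)) - mu φ - dl ψ • mu ψ' + dl ψ • mu (φ * ψ')) := by
        funext x
        simp only [Pi.sub_apply, Pi.add_apply, Pi.smul_apply, smul_eq_mul]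
        ring
      rw [e, Cfsg.Agent.Lib.Helper74.PF12.dade_sub, r1, r2]
      funext g
      simp only [Pi.sub_apply]
      ring
  have hcard := card_trivSet_W₂ hW
  -- sum over `φ`
  have hsum : dadeIsometry (litA0 M) M (supportR M)
      (dl ψ • (muSum mu ψ - muSum mu ψ') - ((Nat.card W₁ : ℂ) * dl ψ) • (mu ψ - mu ψ')) =
      (etaSum η ψ - etaSum η ψ') - (Nat.card W₁ : ℂ) • (η ψ - η ψ') := by
    have e1 : dl ψ • (muSum mu ψ - muSum mu ψ') -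
        ((Nat.card W₁ : ℂ) * dl ψ) • (mu ψ - mu ψ') =
        ∑ φ ∈ trivSet W₁ W₂ W₂,
          (dl ψ • (mu (φ * ψ) - mu (φ * ψ')) - dl ψ • (mu ψ - mu ψ')) := by
      funext x
      unfold muSum
      simp only [Pi.sub_apply, Pi.smul_apply, Finset.sum_apply, smul_eq_mul]
      rw [Finset.sum_sub_distrib, ← Finset.mul_sum, Finset.sum_sub_distrib, Finset.sum_const,
        hcard, nsmul_eq_mul]
      ring
    have e2 : (etaSum η ψ - etaSum η ψ') - (Nat.card W₁ : ℂ) • (η ψ - η ψ') =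
        ∑ φ ∈ trivSet W₁ W₂ W₂, ((η (φ * ψ) - η (φ * ψ')) - (η ψ - η ψ')) := by
      funext x
      unfold etaSum
      simp only [Pi.sub_apply, Pi.smul_apply, Finset.sum_apply, smul_eq_mul]
      rw [Finset.sum_sub_distrib, Finset.sum_sub_distrib, Finset.sum_const, hcard, nsmul_eq_mul]
    rw [e1, dade_sum', e2]
    exact Finset.sum_congr rfl hrect
  rw [Cfsg.Agent.Lib.Helper74.PF12.dade_sub, dade_smul', dade_smul'] at hsum
  -- support
  have hkey := mu_eq_off_litA0 hP md hcover ψ ψ' hψ hψ' hdl hdeg hsupp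
  have hcf : ∀ ω, IsClassFunction ↥M (mu ω) := fun ω =>
    Cfsg.Agent.Lib.Helper25.isClassFunction_of_isCharacter
      (Cfsg.Agent.Lib.Helper25.isCharacter_of_irr (md.irr ω))
  have hAcf : IsClassFunction ↥M (mu ψ - mu ψ') := isClassFunction_sub' (hcf ψ) (hcf ψ')
  have hBcf : IsClassFunction ↥M (muSum mu ψ - muSum mu ψ') :=
    isClassFunction_sub' (isClassFunction_sum' _ _ (fun φ _ => hcf _))
      (isClassFunction_sum' _ _ (fun φ _ => hcf _))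
  have hAsupp : ∀ x : ↥M, (x : G) ∉ litA0 M → (mu ψ - mu ψ') x = 0 := by
    intro x hx
    have := hkey x hx 1 (trivOn_one W₂)
    have e1 : (1 : WChar W₁ W₂) * ψ = ψ := one_mul ψ
    have e2 : (1 : WChar W₁ W₂) * ψ' = ψ' := one_mul ψ'
    rw [e1, e2] at this
    simp only [Pi.sub_apply, this, sub_self]
  have hBsupp : ∀ x : ↥M, (x : G) ∉ litA0 M → (muSum mu ψ - muSum mu ψ') x = 0 := by
    intro x hx
    unfold muSum
    simp only [Pi.sub_apply, Finset.sum_apply]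
    rw [sub_eq_zero]
    exact Finset.sum_congr rfl (fun φ hφ => hkey x hx φ (mem_trivSet.mp hφ))
  -- norms
  have hXn := (Cfsg.Agent.S1500.result (litA0 M) M (supportR M) hD _ hAcf hAsupp).1 _ hAcf hAsupp
  rw [norm_mu_sub md ψ ψ' hne] at hXn
  have hZn := (Cfsg.Agent.S1500.result (litA0 M) M (supportR M) hD _ hBcf hBsupp).1 _ hBcf hBsupp
  rw [norm_muSum_sub hW md ψ ψ' hψ hψ' hne] at hZn
  -- generalized characters
  have hchar : ∀ ω, IsCharacter ↥M (mu ω) := fun ω =>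
    Cfsg.Agent.Lib.Helper25.isCharacter_of_irr (md.irr ω)
  have hX := Cfsg.Agent.S1501.result (litA0 M) M (supportR M) hD (mu ψ - mu ψ')
    ⟨mu ψ, mu ψ', hchar ψ, hchar ψ', rfl⟩ hAsupp
  have hZ := Cfsg.Agent.S1501.result (litA0 M) M (supportR M) hD (muSum mu ψ - muSum mu ψ')
    ⟨muSum mu ψ, muSum mu ψ',
      Cfsg.Agent.Lib.Helper80.isCharacter_sum _ _ (fun φ _ => hchar _),
      Cfsg.Agent.Lib.Helper80.isCharacter_sum _ _ (fun φ _ => hchar _), rfl⟩ hBsupp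
  -- `q ≥ 3`
  have hq : 3 ≤ Nat.card W₁ := by
    have hoddW : Odd (Nat.card W₁) := by
      have hdvd : Nat.card W₁ ∣ Nat.card M := Subgroup.card_dvd_of_le hP.W₁_compl.2.1
      exact Odd.of_dvd_nat hodd hdvd
    have hne1 : Nat.card W₁ ≠ 1 := fun h => hP.W₁_ne (Subgroup.card_eq_one.mp h)
    obtain ⟨k, hk⟩ := hoddW
    omega
  exact hlat hq _ _ hX hZ hXn hZn (dl ψ) (md.sign ψ) hsum

end Core

end Cfsg.Agent.Lib.Helper60.PFCycB
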