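import Mathlib
import Cfsg.Agent.Lib.Helper60.PFCycB2a
import Cfsg.Agent.Lib.Helper25.PFCycB2Lat
import Cfsg.Agent.Lib.Helper54.PFCycCover

/-!
# Peterfalvi sections 10-13, shared bookkeeping: module [B2] (helper60)

`dade_mu_sub`: `τ(μ_ψ - μ_ψ') = δ_ψ (η_ψ - η_ψ')` and
`τ(μ_j - μ_j') = δ_ψ (∑_i η_{ij} - ∑_i η_{ij'})`  (exact statement of helper24 #3853).
-/

set_option autoImplicit false

namespace Cfsg.Agent.Lib.Helper60.PFCycB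

open Cfsg Cfsg.Agent.Lib.Helper4.PF Cfsg.Agent.Lib.Helper24.PFCyc

universe u

variable {G : Type u} [Group G] [Fintype G] {M W₁ U W₂ : Subgroup G} [Fintype M]
  {mu : WChar W₁ W₂ → (↥M → ℂ)} {dl : WChar W₁ W₂ → ℂ}

/-- **MODULE [B2]** (`Helper24.PFCyc.dade_mu_sub`, exact statement of helper24 #3853). -/
theorem dade_mu_sub (hP : IsTypePWith M W₁ U W₂)
    (hD : DadeHypothesis (litA0 M) M (supportR M))
    (md : MuData M W₁ W₂ mu dl) (hodd : Odd (Nat.card M))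
    (η : WChar W₁ W₂ → (G → ℂ)) (hη : IsCyclicTIFamily W₁ W₂ η)
    (ψ ψ' : WChar W₁ W₂) (hψ : TrivOn W₁ ψ) (hψ' : TrivOn W₁ ψ') (hψ1 : ψ ≠ 1) (hψ'1 : ψ' ≠ 1)
    (hne : ψ ≠ ψ') (hdl : dl ψ = dl ψ') (hdeg : mu ψ 1 = mu ψ' 1)
    (hsupp : ∀ x : ↥M, (x : G) ∈ ⁅M, M⁆ → (x : G) ∉ litA0 M → x ≠ 1 →
      ∀ φ : WChar W₁ W₂, TrivOn W₂ φ → mu (φ * ψ) x = mu (φ * ψ') x) :
    dadeIsometry (litA0 M) M (supportR M) (mu ψ - mu ψ') = dl ψ • (η ψ - η ψ') ∧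
    dadeIsometry (litA0 M) M (supportR M) (muSum mu ψ - muSum mu ψ') =
      dl ψ • (etaSum η ψ - etaSum η ψ') :=
  dade_mu_sub_of hP hD md hodd η hη ψ ψ' hψ hψ' hψ1 hψ'1 hne hdl hdeg hsupp
    (fun m hm hmK => Cfsg.Agent.Lib.Helper24.PFCyc.exists_conj_mem_W hP m hm hmK)
    (fun hq X Z hX hZ hXn hZn δ hδ hrel =>
      Cfsg.Agent.Lib.Helper25.PFCyc.b2_lattice hP.selfNormalizing η hη hq X Z hX hZ hXn hZn δ hδ
        ψ ψ' hψ hψ' hne hrel)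

end Cfsg.Agent.Lib.Helper60.PFCycB
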