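import Mathlib
import Cfsg.Agent.Lib.Helper77.DefOneDefs

set_option autoImplicit false
set_option linter.unusedSectionVars false

/-!
Module (M5) of the defect-one project (board #2293): the trace functionals of pairwise
non-isomorphic irreducible representations over an algebraically closed field are linearly
independent.  Proof: Jacobson density for the semisimple module `Π i, (ρ i).asModule`.
-/

namespace Cfsg.Agent.Lib.Helper60.DefOne

open Cfsg.Agent.Lib.Helper77.DefOne

variable {F : Type*} [Field F] {G : Type*} [Group G] [Fintype G]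

section density

variable [IsAlgClosed F] {ι : Type*} [Fintype ι] [DecidableEq ι] (W : ι → Type*)
  [∀ i, AddCommGroup (W i)] [∀ i, Module F (W i)] [∀ i, FiniteDimensional F (W i)]
  (ρ : ∀ i, Representation F G (W i))

/-- off-diagonal components of an endomorphism of `Π i, (ρ i).asModule` vanish -/
theorem m5_offdiag
    (hne : ∀ i j, i ≠ j → ∀ f : W i →ₗ[F] W j, (∀ g, f ∘ₗ ρ i g = ρ j g ∘ₗ f) → f = 0)
    (φ : Module.End (MonoidAlgebra F G) (Π i, (ρ i).asModule)) (i k : ι) (hik : k ≠ i)
    (x : (ρ k).asModule) : (φ (Pi.single k x)) i = 0 := by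
  classical
  let ψ : (ρ k).asModule →ₗ[MonoidAlgebra F G] (ρ i).asModule :=
    (LinearMap.proj i) ∘ₗ φ ∘ₗ (LinearMap.single (MonoidAlgebra F G) (fun i => (ρ i).asModule) k)
  let f : W k →ₗ[F] W i :=
    ((ρ i).asModuleEquiv : (ρ i).asModule →ₗ[F] W i) ∘ₗ (ψ.restrictScalars F) ∘ₗ
      ((ρ k).asModuleEquiv.symm : W k →ₗ[F] (ρ k).asModule)
  have hf : f = 0 := by
    apply hne k i hik
    intro g
    ext y
    simp only [f, LinearMap.comp_apply, LinearEquiv.coe_coe, LinearMap.restrictScalars_apply,
      Representation.asModuleEquiv_symm_map_rho, map_smul, Representation.asModuleEquiv_map_smul,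
      Representation.asAlgebraHom_of]
  have := LinearMap.congr_fun hf ((ρ k).asModuleEquiv x)
  simp only [f, LinearMap.comp_apply, LinearEquiv.coe_coe, LinearMap.restrictScalars_apply,
    LinearEquiv.symm_apply_apply, LinearMap.zero_apply, LinearEquiv.map_eq_zero_iff] at this
  exact this

/-- diagonal components of an endomorphism of `Π i, (ρ i).asModule` are scalars -/
theorem m5_diag (j : ι) [(ρ j).IsIrreducible]
    (φ : Module.End (MonoidAlgebra F G) (Π i, (ρ i).asModule)) :
    ∃ c : F, ∀ x : (ρ j).asModule, (φ (Pi.single j x)) j = c • x := by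
  let ψ : Module.End (MonoidAlgebra F G) (ρ j).asModule :=
    (LinearMap.proj j) ∘ₗ φ ∘ₗ (LinearMap.single (MonoidAlgebra F G) (fun i => (ρ i).asModule) j)
  obtain ⟨c, hc⟩ := (IsSimpleModule.algebraMap_end_bijective_of_isAlgClosed
    (A := MonoidAlgebra F G) (V := (ρ j).asModule) F).2 ψ
  refine ⟨c, fun x => ?_⟩
  have := LinearMap.congr_fun hc x
  rw [Module.algebraMap_end_apply] at this
  rw [this]
  rfl

/-- **Density**: any `F`-endomorphism `E` of `W j` is realised by an element of the group algebra
that kills all the other `W i`. -/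
theorem m5_density (hirr : ∀ i, (ρ i).IsIrreducible)
    (hne : ∀ i j, i ≠ j → ∀ f : W i →ₗ[F] W j, (∀ g, f ∘ₗ ρ i g = ρ j g ∘ₗ f) → f = 0)
    (j : ι) (E : W j →ₗ[F] W j) :
    ∃ r : MonoidAlgebra F G, (ρ j).asAlgebraHom r = E ∧ ∀ i, i ≠ j → (ρ i).asAlgebraHom r = 0 := by
  have _ := hirr
  let A := MonoidAlgebra F G
  let M := Π i, (ρ i).asModule
  let E' : (ρ j).asModule →ₗ[F] (ρ j).asModule :=
    ((ρ j).asModuleEquiv.symm : W j →ₗ[F] (ρ j).asModule) ∘ₗ E ∘ₗ
      ((ρ j).asModuleEquiv : (ρ j).asModule →ₗ[F] W j)
  let f : Module.End (Module.End A M) M :=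
    { toFun := fun m => Pi.single j (E' (m j))
      map_add' := by
        intro m m'
        rw [Pi.add_apply, map_add, Pi.single_add]
      map_smul' := by
        intro φ m
        obtain ⟨c, hc⟩ := m5_diag W ρ j φ
        simp only [RingHom.id_apply, Module.End.smul_def]
        have h1 : (φ m) j = c • m j := by
          have hm : m = ∑ k, Pi.single k (m k) := by
            ext i
            simp [Finset.sum_apply]
          conv_lhs => rw [hm]
          rw [map_sum, Finset.sum_apply, Finset.sum_eq_single j]
          · exact hc _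
          · intro k _ hkj
            exact m5_offdiag W ρ hne φ j k hkj _
          · intro h
            exact absurd (Finset.mem_univ j) h
        rw [h1, map_smul]
        ext i
        by_cases hij : i = j
        · subst hij
          rw [hc]
          simp
        · rw [m5_offdiag W ρ hne φ i j (fun h => hij h.symm)]
          simp [hij] }
  have hfin : Module.Finite (Module.End A M) M :=
    Module.Finite.of_restrictScalars_finite F (Module.End A M) M
  obtain ⟨r, hr⟩ := Module.Finite.toModuleEnd_moduleEnd_surjective (R := A) (M := M) f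
  have hrm : ∀ m : M, r • m = f m := fun m => by
    rw [← hr]
    rfl
  refine ⟨r, ?_, ?_⟩
  · ext x
    have h := congrFun (hrm (Pi.single j ((ρ j).asModuleEquiv.symm x))) j
    rw [Pi.smul_apply, Pi.single_eq_same] at h
    have h2 := congrArg (ρ j).asModuleEquiv h
    rw [Representation.asModuleEquiv_map_smul, LinearEquiv.apply_symm_apply] at h2
    rw [h2]
    simp [f, E']
  · intro i hij
    ext x
    have h := congrFun (hrm (Pi.single i ((ρ i).asModuleEquiv.symm x))) i
    rw [Pi.smul_apply, Pi.single_eq_same] at h
    have h2 := congrArg (ρ i).asModuleEquiv h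
    rw [Representation.asModuleEquiv_map_smul, LinearEquiv.apply_symm_apply] at h2
    rw [h2]
    simp [f, E', hij]

end density

/-- a nontrivial finite-dimensional space has an endomorphism of trace one -/
theorem m5_exists_trace_one (V : Type*) [AddCommGroup V] [Module F V] [FiniteDimensional F V]
    [Nontrivial V] : ∃ E : V →ₗ[F] V, LinearMap.trace F V E = 1 := by
  have hpos : 0 < Module.finrank F V := Module.finrank_pos
  let b := Module.finBasis F V
  let k0 : Fin (Module.finrank F V) := ⟨0, hpos⟩
  refine ⟨dualTensorHom F V V (b.coord k0 ⊗ₜ b k0), ?_⟩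
  rw [LinearMap.trace_eq_contract_apply]
  simp

/-- **Module (M5)**: traces of pairwise non-isomorphic irreducible representations over an
algebraically closed field are linearly independent functionals on the group algebra. -/
theorem M5 [IsAlgClosed F] {ι : Type*} [Fintype ι] (W : ι → Type*) [∀ i, AddCommGroup (W i)]
    [∀ i, Module F (W i)] [∀ i, FiniteDimensional F (W i)] (ρ : ∀ i, Representation F G (W i))
    (hirr : ∀ i, (ρ i).IsIrreducible)
    (hne : ∀ i j, i ≠ j → ∀ f : W i →ₗ[F] W j, (∀ g, f ∘ₗ ρ i g = ρ j g ∘ₗ f) → f = 0) :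
    LinearIndependent F (fun i : ι =>
      (LinearMap.trace F (W i)) ∘ₗ ((ρ i).asAlgebraHom.toLinearMap)) := by
  classical
  rw [Fintype.linearIndependent_iff]
  intro c hc j
  have hsimple : IsSimpleModule (MonoidAlgebra F G) (ρ j).asModule :=
    (Representation.irreducible_iff_isSimpleModule_asModule (ρ j)).1 (hirr j)
  have hnt : Nontrivial (W j) := by
    have : Nontrivial (ρ j).asModule := IsSimpleModule.nontrivial (MonoidAlgebra F G) _
    exact (ρ j).asModuleEquiv.symm.toEquiv.nontrivial
  obtain ⟨E, hE⟩ := m5_exists_trace_one (F := F) (W j)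
  obtain ⟨r, hrj, hri⟩ := m5_density W ρ hirr hne j E
  have h := LinearMap.congr_fun hc r
  rw [LinearMap.sum_apply, Finset.sum_eq_single j] at h
  · simpa [hrj, hE] using h
  · intro i _ hij
    simp [hri i hij]
  · intro hj
    exact absurd (Finset.mem_univ j) hj

end Cfsg.Agent.Lib.Helper60.DefOne
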