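import Mathlib
import Cfsg.Agent.Lib.Helper24.PFCycCtx
import Cfsg.Agent.Lib.Helper4.PFTenAbs
import Cfsg.Agent.Lib.Helper58.PFNineDefs
import Cfsg.Agent.Lib.Helper60.PFTenTSwap

/-!
# Peterfalvi section 10, T-side: shared definitions (helper60)

`M` is a maximal subgroup of Type III, IV or V with type-P data `(W₁, U, W₂)`; its partner `T` is of
Type II with type-P data `(W₂, V, W₁)`.  `p = |W₂|` is a prime, `q = |W₁|`, `Q = T_F`,
`T' = Q ⋊ V`, `T = T' ⋊ W₂`, `W₁ = C_{T'}(W₂) ≤ Q`.

* `TFrame T W₁ W₂ V` : the group-theoretic facts about `T` used on the T-side.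
* `RowIdx`, `ColIdx`, `Efam`, `rowBase`, `colBase` : the index types and the family fed to helper4's
  abstract end game (`Cfsg.Agent.Lib.Helper4.PFTen.case1_false`): rows = characters of `W` trivial
  on `W₂` (`q` of them), columns = characters trivial on `W₁` (`p` of them), `E i j = η (i * j)`.
-/

set_option autoImplicit false

namespace Cfsg.Agent.Lib.Helper60.PFTenT

open Cfsg Cfsg.Agent.Lib.Helper24.PFCyc

universe u

variable {G : Type u} [Group G]

/-- The group-theoretic frame of the T-side: `T` is a maximal subgroup with type-P data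
`(W₂, V, W₁)`, and the Type II facts are expressed with this data. -/
structure TFrame (T W₁ W₂ V : Subgroup G) : Prop where
  hT : IsCoatom T
  hTP : IsTypePWith T W₂ V W₁
  hV : V ≠ ⊥
  hp : (Nat.card W₂).Prime
  hVab : ∀ a ∈ V, ∀ b ∈ V, a * b = b * a
  hTI : IsTISubset (fittingOf T : Set G)
  hF : IsOfTypeF ↥⁅T, T⁆
  hFH : fittingHallOf ⁅T, T⁆ = fittingHallOf T
  hcore : typeCore T = fittingHallOf T

section Idx

variable [Finite G]

/-- the characters of `W` trivial on `W₂` (the `φ_i`, `|W₁|` of them) -/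
abbrev RowIdx (W₁ W₂ : Subgroup G) : Type u := ↥(trivSet W₁ W₂ W₂)

/-- the characters of `W` trivial on `W₁` (the `ψ_j`, `|W₂|` of them) -/
abbrev ColIdx (W₁ W₂ : Subgroup G) : Type u := ↥(trivSet W₁ W₂ W₁)

/-- `E i j = η_{ij}` -/
def Efam {W₁ W₂ : Subgroup G} (η : WChar W₁ W₂ → (G → ℂ)) :
    RowIdx W₁ W₂ → ColIdx W₁ W₂ → G → ℂ := fun i j => η (i.1 * j.1)

/-- the trivial character as a row index -/
def rowBase (W₁ W₂ : Subgroup G) : RowIdx W₁ W₂ := ⟨1, mem_trivSet.mpr (trivOn_one W₂)⟩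

/-- the trivial character as a column index -/
def colBase (W₁ W₂ : Subgroup G) : ColIdx W₁ W₂ := ⟨1, mem_trivSet.mpr (trivOn_one W₁)⟩

end Idx

end Cfsg.Agent.Lib.Helper60.PFTenT
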