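import Mathlib
import Cfsg.Agent.Lib.Helper60.PFTenTDefs
import Cfsg.Agent.Lib.Helper26.PFEightC
import Cfsg.Agent.Lib.Helper51.PFCycMuInd

/-!
# Peterfalvi section 10, T-side: the frame of `T` (helper60)

From the pair hypothesis and `M` of Type III, IV or V: the partner `T` is of Type II, and the
Type II facts hold for the given type-P data `(W₂, V, W₁)` of `T`.
-/

set_option autoImplicit false

namespace Cfsg.Agent.Lib.Helper60.PFTenT

open Cfsg Cfsg.Agent.Lib.Helper24.PFCyc Cfsg.Agent.Lib.Helper4.PF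

universe u

variable {G : Type u} [Group G]

theorem der_ne_top_of_isCoatom {M : Subgroup G} (hM : IsCoatom M) : (⁅M, M⁆ : Subgroup G) ≠ ⊤ := by
  intro h
  apply hM.1
  rw [eq_top_iff, ← h]
  exact Subgroup.commutator_le_self M

theorem card_map_conj (c : G) (U : Subgroup G) :
    Nat.card ↥(U.map (MulAut.conj c).toMonoidHom) = Nat.card U :=
  Nat.card_congr (U.equivMapOfInjective _ (MulAut.conj c).injective).toEquiv.symm

theorem map_conj_eq_bot_iff (c : G) (U : Subgroup G) :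
    U.map (MulAut.conj c).toMonoidHom = ⊥ ↔ U = ⊥ :=
  (Subgroup.map_eq_bot_iff_of_injective U (MulAut.conj c).injective)

/-- `M` of Type III, IV or V is not of Type II. -/
theorem not_typeII_of_typeIIItoV [Finite G] {M : Subgroup G}
    (hsolv : Group.IsSolvable ↥⁅M, M⁆)
    (hMtype : IsOfTypeIII M ∨ IsOfTypeIV M ∨ IsOfTypeV M) : ¬ IsOfTypeII M := by
  intro hII
  rcases hMtype with h | h | h
  · exact Cfsg.Agent.Lib.Helper26.PFEight.not_typeIII_or_IV_of_typeII hsolv hII (Or.inl h)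
  · exact Cfsg.Agent.Lib.Helper26.PFEight.not_typeIII_or_IV_of_typeII hsolv hII (Or.inr h)
  · obtain ⟨A, U', B, hP', hU', -⟩ := h
    obtain ⟨A'', U'', B'', hP'', hU'', -⟩ := hII
    obtain ⟨c, -, hc⟩ := Cfsg.Agent.Lib.Helper26.PFEight.exists_conj_of_typeP hsolv hP'' hP'
    rw [hU'] at hc
    exact hU'' ((map_conj_eq_bot_iff c U'').mp hc.symm)

/-- The frame of `T`. -/
theorem tframe_of_pair [Finite G] (hG : IsMinSimpleOddOrder G) {M T W₁ W₂ U V : Subgroup G}
    (hpair : PairHyp M T W₁ W₂ U V)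
    (hMtype : IsOfTypeIII M ∨ IsOfTypeIV M ∨ IsOfTypeV M) : TFrame T W₁ W₂ V := by
  have hsolvM : Group.IsSolvable ↥⁅M, M⁆ := hG.2.2.2 _ (der_ne_top_of_isCoatom hpair.hS)
  have hsolvT : Group.IsSolvable ↥⁅T, T⁆ := hG.2.2.2 _ (der_ne_top_of_isCoatom hpair.hT)
  have hIIT : IsOfTypeII T := by
    rcases hpair.hII with h | h
    · exact absurd h (not_typeII_of_typeIIItoV hsolvM hMtype)
    · exact h
  have hcore := Cfsg.Agent.Lib.Helper26.PFEight.typeCore_eq_of_typeII hsolvT hIIT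
  obtain ⟨A, U', B, hP', hU'ne, hAprime, hTI, hU'ab, -, hF, hFH⟩ := hIIT
  obtain ⟨c, -, hc⟩ := Cfsg.Agent.Lib.Helper26.PFEight.exists_conj_of_typeP hsolvT hP' hpair.hTP
  refine ⟨hpair.hT, hpair.hTP, ?_, ?_, ?_, hTI, hF, hFH, hcore⟩
  · intro hV
    rw [hV] at hc
    exact hU'ne ((map_conj_eq_bot_iff c U').mp hc.symm)
  · have h1 := Cfsg.Agent.Lib.Helper51.PFCyc.KM_index hpair.hTP
    have h2 := Cfsg.Agent.Lib.Helper51.PFCyc.KM_index hP'
    rw [← h1, h2]
    exact hAprime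
  · intro a ha b hb
    rw [hc] at ha hb
    obtain ⟨a', ha', rfl⟩ := ha
    obtain ⟨b', hb', rfl⟩ := hb
    have h := congrArg Subtype.val (hU'ab.1.1 (⟨a', ha'⟩ : U') ⟨b', hb'⟩)
    have h' : a' * b' = b' * a' := h
    rw [← map_mul, ← map_mul, h']

end Cfsg.Agent.Lib.Helper60.PFTenT
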