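import Mathlib
import Cfsg.Agent.Lib.Helper60.PFTenTFrame
import Cfsg.Agent.Lib.Helper50.PFCycMuRes
import Cfsg.Agent.Lib.Helper33.PFTenTV1

/-!
# Peterfalvi section 10, T-side: basic facts in the frame of `T` (helper60)
-/

set_option autoImplicit false

namespace Cfsg.Agent.Lib.Helper60.PFTenT

open Cfsg Cfsg.Agent.Lib.Helper24.PFCyc Cfsg.Agent.Lib.Helper4.PF

universe u

variable {G : Type u} [Group G] {T W₁ W₂ V : Subgroup G}

/-- `A(T)` for the Type II subgroup `T`: the non-identity elements of `T'` with a non-identity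
fixed point on `Q = T_F`. -/
theorem mem_litA_T (tf : TFrame T W₁ W₂ V) {x : G} :
    x ∈ litA T ↔ x ∈ ⁅T, T⁆ ∧ x ≠ 1 ∧ ∃ y ∈ fittingHallOf T, y ≠ 1 ∧ x * y = y * x := by
  have hP : IsOfTypeP T := ⟨W₂, V, W₁, tf.hTP⟩
  unfold litA
  rw [if_pos hP, tf.hcore]
  rfl

theorem litA_subset_litA0 (T : Subgroup G) : litA T ⊆ litA0 T := fun _ hx => Or.inl hx

theorem W_le_T (tf : TFrame T W₁ W₂ V) : W₁ ⊔ W₂ ≤ T := by
  refine sup_le ?_ tf.hTP.W₁_compl.2.1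
  exact ((tf.hTP.W₂_le.trans inf_le_left).trans tf.hTP.U_compl.1).trans tf.hTP.W₁_compl.1

theorem fittingHallOf_le_der (tf : TFrame T W₁ W₂ V) : fittingHallOf T ≤ ⁅T, T⁆ :=
  tf.hTP.U_compl.1

theorem der_le (tf : TFrame T W₁ W₂ V) : (⁅T, T⁆ : Subgroup G) ≤ T := tf.hTP.W₁_compl.1

theorem W₁_le_Q (tf : TFrame T W₁ W₂ V) : W₁ ≤ fittingHallOf T :=
  tf.hTP.W₂_le.trans inf_le_left

/-- the elements of `W ∖ (W₁ ∪ W₂)` lie in `A₀(T)` and not in `A(T)` -/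
theorem What_facts (tf : TFrame T W₁ W₂ V) :
    ∀ w ∈ W₁ ⊔ W₂, w ∉ W₁ → w ∉ W₂ → w ∈ litA0 T ∧ w ∉ litA T := by
  intro w hw hw₁ hw₂
  have hw' : w ∈ W₂ ⊔ W₁ := by rwa [sup_comm]
  refine ⟨Or.inr ⟨W₂, V, W₁, tf.hTP, 1, T.one_mem, w, hw', hw₂, hw₁, by simp⟩, ?_⟩
  intro hA
  have hK : w ∈ ⁅T, T⁆ := ((mem_litA_T tf).mp hA).1
  exact hw₁ (Cfsg.Agent.Lib.Helper50.PFCyc.mem_W₂_of_mem_der tf.hTP hw' hK)

section Char

/-- an irreducible character of `T'` nontrivial on `Q` vanishes at the elements of `T'` outside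
`A(T) ∪ {1}` -/
theorem res_vanish_T [Finite G] (tf : TFrame T W₁ W₂ V)
    (θ : ↥(KM T) → ℂ) (hθ : IsIrrCharacter ↥(KM T) θ)
    (hH : ∃ h : ↥(KM T), ((h : ↥T) : G) ∈ fittingHallOf T ∧ θ h ≠ θ 1)
    (x : ↥(KM T)) (hx : ((x : ↥T) : G) ∉ litA T) (hx1 : x ≠ 1) : θ x = 0 := by
  classical
  have : Fintype ↥(KM T) := Fintype.ofFinite _
  let H : Subgroup ↥(KM T) := ((fittingHallOf T).subgroupOf T).subgroupOf (KM T)
  have hHn : H.Normal := by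
    constructor
    intro n hn g
    change (((g * n * g⁻¹ : ↥(KM T)) : ↥T) : G) ∈ fittingHallOf T
    have hn' : ((n : ↥T) : G) ∈ fittingHallOf T := hn
    have := Cfsg.Agent.Lib.Helper26.PFEight.conj_mem_fittingHallOf T (g : ↥T).2 hn'
    simpa using this
  obtain ⟨h₀, hh₀, hne⟩ := hH
  apply Cfsg.Agent.Lib.Helper33.PFTenT.irr_vanish_of_fpf H θ hθ ⟨h₀, hh₀, hne⟩ x
  intro h hh hcomm
  by_contra h1
  apply hx
  rw [mem_litA_T tf]
  refine ⟨Subgroup.mem_subgroupOf.mp x.2, ?_, ((h : ↥T) : G), hh, ?_, ?_⟩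
  · intro e
    apply hx1
    exact Subtype.ext (Subtype.ext e)
  · intro e
    apply h1
    exact Subtype.ext (Subtype.ext e)
  · have := congrArg (fun z : ↥(KM T) => ((z : ↥T) : G)) hcomm
    simpa using this.symm

end Char

end Cfsg.Agent.Lib.Helper60.PFTenT
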