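import Mathlib
import Cfsg.Agent.Lib.Helper60.PFTenTDefs
import Cfsg.Agent.Lib.Helper26.PFTenTOrth
import Cfsg.Agent.Lib.Helper25.PFCycEta
import Cfsg.Agent.Lib.Helper24.PFCycTau
import Cfsg.Agent.Lib.Helper75.GaloisPow
import Cfsg.Agent.S1501

/-!
# Peterfalvi section 10, T-side: MODULE [TS-GAL] (helper60)

The inner products `⟨τ_T α, η_ψ⟩`, `ψ ≠ 1` trivial on `W₁`, do not depend on `ψ` when `α` is a
generalized character of `T` vanishing off a subgroup of order prime to `p = |W₂|`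
(Galois group of the `p`-th roots of unity).
-/

set_option autoImplicit false

namespace Cfsg.Agent.Lib.Helper60.PFTenT

open Cfsg Cfsg.Agent.Lib.Helper24.PFCyc Cfsg.Agent.Lib.Helper4.PF

universe u

variable {G : Type u} [Group G]

/-- `ψ ^ |W₂| = 1` for `ψ` trivial on `W₁` -/
theorem pow_card_of_trivOn_W₁ {W₁ W₂ : Subgroup G} [Finite G]
    (hW : IsSelfNormalizingCyclic W₁ W₂) {ψ : WChar W₁ W₂} (hψ : TrivOn W₁ ψ) :
    ψ ^ Nat.card W₂ = 1 := by
  apply MonoidHom.ext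
  intro w
  obtain ⟨a, ha, b, hb, hab⟩ := Cfsg.Agent.Lib.Helper50.PFCyc.mem_sup_of_comm hW.2.2.2.1 w.2
  have hw : w = (⟨a, Subgroup.mem_sup_left ha⟩ : ↥(W₁ ⊔ W₂)) * ⟨b, Subgroup.mem_sup_right hb⟩ :=
    Subtype.ext hab
  rw [MonoidHom.pow_apply, MonoidHom.one_apply, hw, map_mul, hψ _ ha, one_mul, ← map_pow]
  have hb' : (⟨b, Subgroup.mem_sup_right hb⟩ : ↥(W₁ ⊔ W₂)) ^ Nat.card W₂ = 1 := by
    apply Subtype.ext
    have h1 : (⟨b, hb⟩ : ↥W₂) ^ Nat.card W₂ = 1 := pow_card_eq_one'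
    have h2 : b ^ Nat.card W₂ = 1 := congrArg Subtype.val h1
    exact h2
  rw [hb', map_one]

theorem galChar_inv {W₁ W₂ : Subgroup G} (σ : ℂ ≃+* ℂ) (ω : WChar W₁ W₂) :
    galChar σ ω⁻¹ = (galChar σ ω)⁻¹ := by
  apply MonoidHom.ext
  intro w
  apply Units.ext
  rw [galChar_apply, MonoidHom.inv_apply, MonoidHom.inv_apply, Units.val_inv_eq_inv_val,
    Units.val_inv_eq_inv_val, galChar_apply, map_inv₀]

/-- MODULE [TS-GAL] -/
theorem inner_eta_galois_const' [Fintype G] {T W₁ W₂ : Subgroup G} [Fintype T]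
    (hW : IsSelfNormalizingCyclic W₁ W₂) (hodd : Odd (Nat.card G))
    (η : WChar W₁ W₂ → (G → ℂ)) (hη : IsCyclicTIFamily W₁ W₂ η)
    (hp : (Nat.card W₂).Prime)
    (hD : DadeHypothesis (litA0 T) T (supportR T))
    (K : Subgroup ↥T) (hK : (Nat.card K).Coprime (Nat.card W₂))
    (α : ↥T → ℂ) (hα : IsGeneralizedCharacter ↥T α)
    (hαK : ∀ x : ↥T, x ∉ K → α x = 0)
    (hαA : ∀ x : ↥T, (x : G) ∉ litA0 T → α x = 0)
    (ψ ψ' : WChar W₁ W₂) (hψ : TrivOn W₁ ψ) (hψ' : TrivOn W₁ ψ') (hψ1 : ψ ≠ 1) (hψ'1 : ψ' ≠ 1) :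
    classInner (tauM T α) (η ψ) = classInner (tauM T α) (η ψ') := by
  classical
  have hoddW : Odd (Nat.card ↥(W₁ ⊔ W₂)) :=
    Odd.of_dvd_nat hodd (Subgroup.card_subgroup_dvd_card _)
  set p := Nat.card W₂ with hpdef
  have hpf : Fact p.Prime := ⟨hp⟩
  -- Step A: `ψ' = ψ ^ t`
  have hψp : ψ ^ p = 1 := pow_card_of_trivOn_W₁ hW hψ
  have hord : orderOf ψ = p := orderOf_eq_prime hψp hψ1
  have hcardCol : Fintype.card (ColIdx W₁ W₂) = p :=
    Cfsg.Agent.Lib.Helper26.PFTenT.card_ColIdx hW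
  let f : Fin p → ColIdx W₁ W₂ := fun t => ⟨ψ ^ (t : ℕ), mem_trivSet.mpr (by
    intro w hw
    rw [MonoidHom.pow_apply, hψ w hw, one_pow])⟩
  have hf : Function.Injective f := by
    intro s t hst
    have h1 : ψ ^ (s : ℕ) = ψ ^ (t : ℕ) := congrArg Subtype.val hst
    have h2 := pow_injOn_Iio_orderOf (x := ψ)
      (by rw [Set.mem_Iio, hord]; exact s.2) (by rw [Set.mem_Iio, hord]; exact t.2) h1
    exact Fin.ext h2
  have hfb : Function.Bijective f := by
    rw [Fintype.bijective_iff_injective_and_card]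
    exact ⟨hf, by rw [Fintype.card_fin, hcardCol]⟩
  obtain ⟨t, ht⟩ := hfb.2 ⟨ψ', mem_trivSet.mpr hψ'⟩
  have ht' : ψ ^ (t : ℕ) = ψ' := congrArg Subtype.val ht
  have htp : Nat.Coprime (t : ℕ) p := by
    rw [Nat.coprime_comm, Nat.Prime.coprime_iff_not_dvd hp]
    intro hdvd
    apply hψ'1
    rw [← ht']
    obtain ⟨j, hj⟩ := hdvd
    apply MonoidHom.ext
    intro w
    have h1 : (ψ ^ p) w = 1 := by rw [hψp]; rfl
    rw [MonoidHom.pow_apply] at h1
    rw [MonoidHom.pow_apply, MonoidHom.one_apply, hj, pow_mul, h1, one_pow]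
  -- Step B: the exponent `k`
  set N := Nat.card G with hNdef
  have hN : 0 < N := Nat.card_pos
  set m := ordCompl[p] N with hmdef
  have hpm : Nat.Coprime p m := Nat.coprime_ordCompl hp hN.ne'
  obtain ⟨k, hk1, hk2⟩ := Nat.chineseRemainder hpm (t : ℕ) 1
  have hkp : Nat.Coprime k p := by
    have := (Nat.ModEq.gcd_eq hk1)
    unfold Nat.Coprime
    rw [this]
    exact htp
  have hkm : Nat.Coprime k m := by
    have := (Nat.ModEq.gcd_eq hk2)
    unfold Nat.Coprime
    rw [this]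
    exact Nat.coprime_one_left m
  have hNfac : ordProj[p] N * m = N := Nat.ordProj_mul_ordCompl_eq_self N p
  have hkN : Nat.Coprime k N := by
    rw [← hNfac]
    exact Nat.Coprime.mul_right (Nat.Coprime.pow_right _ hkp) hkm
  have hKm : Nat.card K ∣ m := by
    have h1 : Nat.card K ∣ N :=
      (Subgroup.card_subgroup_dvd_card K).trans (Subgroup.card_subgroup_dvd_card T)
    rw [← hNfac] at h1
    exact Nat.Coprime.dvd_of_dvd_mul_left (Nat.Coprime.pow_right _ hK) h1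
  have hkK : k ≡ 1 [MOD Nat.card K] := Nat.ModEq.of_dvd hKm hk2
  obtain ⟨σ, hσ⟩ := Cfsg.Agent.Lib.Helper75.exists_ringEquiv_pow N hN k hkN
  -- Step C1: `galChar σ ψ = ψ'`
  have hgal : ∀ ω : WChar W₁ W₂, galChar σ ω = ω ^ k := by
    intro ω
    apply MonoidHom.ext
    intro w
    apply Units.ext
    rw [galChar_apply, MonoidHom.pow_apply, Units.val_pow_eq_pow_val]
    apply hσ
    rw [← Units.val_pow_eq_pow_val, ← map_pow]
    have hw : w ^ N = 1 := by
      apply Subtype.ext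
      have : (w : G) ^ N = 1 := pow_card_eq_one'
      exact this
    rw [hw, map_one, Units.val_one]
  have hψσ : galChar σ ψ = ψ' := by
    rw [hgal, ← ht']
    have h1 : k ≡ (t : ℕ) [MOD orderOf ψ] := by rw [hord]; exact hk1
    exact (pow_eq_pow_iff_modEq (x := ψ)).mpr h1
  -- Step C2: `σ ∘ α = α`
  have hσα : (fun x => σ (α x)) = α := by
    funext x
    by_cases hx : x ∈ K
    · obtain ⟨χ₁, χ₂, ⟨n₁, ρ₁, rfl⟩, ⟨n₂, ρ₂, rfl⟩, rfl⟩ := hα
      have hxN : x ^ N = 1 := by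
        apply Subtype.ext
        have : (x : G) ^ N = 1 := pow_card_eq_one'
        exact this
      have hxk : x ^ k = x := by
        have h1 : (⟨x, hx⟩ : ↥K) ^ Nat.card K = 1 := pow_card_eq_one'
        have h2 : x ^ Nat.card K = 1 := by
          have h2' := congrArg (fun z : ↥K => (z : ↥T)) h1
          exact h2'
        have h3 : orderOf x ∣ Nat.card K := orderOf_dvd_of_pow_eq_one h2
        have h4 : k ≡ 1 [MOD orderOf x] := Nat.ModEq.of_dvd h3 hkK
        have := (pow_eq_pow_iff_modEq (x := x)).mpr h4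
        rwa [pow_one] at this
      have key : ∀ (n : ℕ) (ρ : Representation ℂ ↥T (Fin n → ℂ)),
          σ (ρ.character x) = ρ.character x := by
        intro n ρ
        obtain ⟨μ, hμ, hpow⟩ :=
          Cfsg.Agent.Lib.Helper76.exists_character_pow_eq_sum ρ x N hN hxN
        have h1 := hpow 1
        rw [pow_one] at h1
        have hk' := hpow k
        rw [hxk] at hk'
        rw [h1, map_sum]
        conv_rhs => rw [← h1, hk']
        apply Finset.sum_congr rfl
        intro i _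
        rw [pow_one, hσ (μ i) (hμ i)]
      simp only [Pi.sub_apply, map_sub]
      rw [key n₁ ρ₁, key n₂ ρ₂]
    · rw [hαK x hx, map_zero]
  -- Step C3: `σ ∘ X = X`
  have hσX : ∀ g, σ (tauM T α g) = tauM T α g := by
    intro g
    have h := congrFun (tauM_galois T σ α) g
    rw [hσα] at h
    exact h.symm
  -- Step C4: integrality
  have hXgc : IsGeneralizedCharacter G (tauM T α) :=
    Cfsg.Agent.S1501.result (litA0 T) T (supportR T) hD α hα hαA
  obtain ⟨n, hn⟩ := Cfsg.Agent.Lib.Helper25.PFCyc.eta_inner_int η hη (tauM T α) hXgc ψ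
  -- Step C5
  have hconj : ∀ (ω : WChar W₁ W₂) (g : G), (starRingEnd ℂ) (η ω g) = η ω⁻¹ g := by
    intro ω g
    have := congrFun (Cfsg.Agent.Lib.Helper25.PFCyc.eta_inv hW hoddW η hη ω) g
    exact this.symm
  have h5 : classInner (tauM T α) (η ψ') = σ (classInner (tauM T α) (η ψ)) := by
    unfold classInner
    rw [map_mul, map_inv₀, map_natCast, map_sum]
    congr 1
    apply Finset.sum_congr rfl
    intro g _
    rw [map_mul, hσX g, hconj ψ' g, hconj ψ g, ← hψσ, ← galChar_inv,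
      Cfsg.Agent.Lib.Helper25.PFCyc.eta_galChar hW hoddW η hη σ ψ⁻¹]
  rw [h5, hn, map_intCast]

end Cfsg.Agent.Lib.Helper60.PFTenT
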