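import Mathlib
import Cfsg.Agent.Lib.Helper60.PFTenTBasic
import Cfsg.Agent.Lib.Helper60.PFTenTGal
import Cfsg.Agent.Lib.Helper75.PFTenTTexp
import Cfsg.Agent.Lib.Helper92.PFTenTDom
import Cfsg.Agent.Lib.Helper23.PFTenTSupp
import Cfsg.Agent.Lib.Helper26.PFTenTOrth
import Cfsg.Agent.Lib.Helper26.PFTenTB2T
import Cfsg.Agent.Lib.Helper14.PFTenTAlpha
import Cfsg.Agent.Lib.Helper14.PFTenTLink
import Cfsg.Agent.Lib.Helper24.PFCycTau
import Cfsg.Agent.Lib.Helper75.Clifford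
import Cfsg.Agent.S1500

/-!
# Peterfalvi section 10, T-side: Case 1 (helper60)
-/

set_option autoImplicit false

namespace Cfsg.Agent.Lib.Helper60.PFTenT

open Cfsg Cfsg.Agent.Lib.Helper24.PFCyc Cfsg.Agent.Lib.Helper4.PF Cfsg.Agent.Lib.Helper4.PFTen
  Cfsg.Agent.Lib.Helper74.PF127
open Cfsg.Agent.Lib.Helper75.PFTenT Cfsg.Agent.Lib.Helper92.PFTenT Cfsg.Agent.Lib.Helper23.PFTenT
  Cfsg.Agent.Lib.Helper26.PFTenT Cfsg.Agent.Lib.Helper14.PFTenT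

universe u

variable {G : Type u} [Group G] [Fintype G] {T W₁ W₂ V : Subgroup G} [Fintype T]

omit [Fintype G] in
theorem subgroupOf_Q_normal (T : Subgroup G) : ((fittingHallOf T).subgroupOf T).Normal := by
  constructor
  intro n hn g
  have hn' : (n : G) ∈ fittingHallOf T := hn
  have := Cfsg.Agent.Lib.Helper26.PFEight.conj_mem_fittingHallOf T g.2 hn'
  exact this

omit [Fintype G] in
/-- a character of `T` induced from an irreducible character of `T'` nontrivial on `Q` vanishes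
off `A(T) ∪ {1}` -/
theorem ind_vanish_T (tf : TFrame T W₁ W₂ V) (θ : ↥(KM T) → ℂ) (hθ : IsIrrCharacter ↥(KM T) θ)
    (hH : ∃ h : ↥(KM T), ((h : ↥T) : G) ∈ fittingHallOf T ∧ θ h ≠ θ 1)
    (m : ↥T) (hm : (m : G) ∉ litA T) (hm1 : m ≠ 1) : indFun (KM T) θ m = 0 := by
  have hKn : (KM T).Normal := Cfsg.Agent.Lib.Helper51.PFCyc.KM_normal T
  have hHn : ((fittingHallOf T).subgroupOf T).Normal := subgroupOf_Q_normal T
  have hHK : (fittingHallOf T).subgroupOf T ≤ KM T := by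
    intro x hx
    exact Subgroup.mem_subgroupOf.mpr (fittingHallOf_le_der tf (Subgroup.mem_subgroupOf.mp hx))
  apply indFun_vanish (KM T) ((fittingHallOf T).subgroupOf T) hHK θ hθ hH m
  by_cases hmK : m ∈ KM T
  · right
    intro h hh hcomm
    by_contra h1
    apply hm
    rw [mem_litA_T tf]
    refine ⟨Subgroup.mem_subgroupOf.mp hmK, fun e => hm1 (Subtype.ext e), (h : G), hh,
      fun e => h1 (Subtype.ext e), ?_⟩
    exact (congrArg Subtype.val hcomm).symm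
  · left
    exact hmK

omit [Fintype ↥T] in
/-- `Φ = ∑_φ η_φ - χ` is orthogonal to `τ_T α` when `α` vanishes off `A(T)` (disjoint Dade
supports). -/
theorem inner_tau_Phi (hG : IsMinSimpleOddOrder G) (bg : BookBGData G)
    {M U : Subgroup G} (hpair : PairHyp M T W₁ W₂ U V)
    (hMtype : IsOfTypeIII M ∨ IsOfTypeIV M ∨ IsOfTypeV M) (tf : TFrame T W₁ W₂ V)
    (η : WChar W₁ W₂ → (G → ℂ)) (χ : G → ℂ) (A' : Set G) (c : ℝ)
    (ms : MSide M W₁ W₂ η χ A' c) (α : ↥T → ℂ)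
    (hαA : ∀ x : ↥T, (x : G) ∉ litA T → α x = 0) :
    classInner (tauM T α) (etaSum η 1 - χ) = 0 := by
  have hdisj := dadeSupp_disjoint hG bg hpair hMtype tf.hcore
  unfold classInner
  rw [mul_eq_zero]
  right
  apply Finset.sum_eq_zero
  intro g _
  by_cases hg : g ∈ dadeSupp A' (supportR M)
  · have hg' : g ∈ dadeSupp (litA M) (supportR M) := by
      obtain ⟨a, ha, u, hu, y, hy⟩ := hg
      exact ⟨a, ms.sub ha, u, hu, y, hy⟩
    have hgT : g ∉ dadeSupp (litA T) (supportR T) := fun h =>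
      (Set.disjoint_left.mp hdisj) hg' h
    rw [tauM_zero_off_supp T α (litA T) hαA g hgT, zero_mul]
  · have h := ms.supp g hg
    rw [Pi.sub_apply, ← h, sub_self, map_zero, mul_zero]

/-- **Case 1 of Peterfalvi (10.8), T-side**, from two `W₂`-invariant characters `θ₁ ≠ θ₂` of `T'`
nontrivial on `Q` and an irreducible `ξ = Ind θ_ξ` of the same degree `p u`. -/
theorem case1_core (hG : IsMinSimpleOddOrder G) (bg : BookBGData G) (pf8 : BookPF8Data G)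
    {M U : Subgroup G} (hpair : PairHyp M T W₁ W₂ U V)
    (hMtype : IsOfTypeIII M ∨ IsOfTypeIV M ∨ IsOfTypeV M) (tf : TFrame T W₁ W₂ V)
    (η : WChar W₁ W₂ → (G → ℂ)) (hη : IsCyclicTIFamily W₁ W₂ η) (χ : G → ℂ) (A' : Set G) (c : ℝ)
    (ms : MSide M W₁ W₂ η χ A' c)
    {nu : WChar W₂ W₁ → (↥T → ℂ)} {dlT : WChar W₂ W₁ → ℂ} (md : MuData T W₂ W₁ nu dlT)
    (u : ℕ) (θ₁ θ₂ θξ : ↥(KM T) → ℂ) (hne : θ₁ ≠ θ₂)
    (hθ : ∀ θ : ↥(KM T) → ℂ, (θ = θ₁ ∨ θ = θ₂) → IsIrrCharacter ↥(KM T) θ ∧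
      (∃ h : ↥(KM T), ((h : ↥T) : G) ∈ fittingHallOf T ∧ θ h ≠ θ 1) ∧
      Cfsg.Agent.Lib.Helper51.PFCyc.W1Inv T W₂ θ ∧ θ 1 = (u : ℂ))
    (hθξ : IsIrrCharacter ↥(KM T) θξ)
    (hθξH : ∃ h : ↥(KM T), ((h : ↥T) : G) ∈ fittingHallOf T ∧ θξ h ≠ θξ 1)
    (hξirr : IsIrrCharacter ↥T (indFun (KM T) θξ))
    (hξ1 : indFun (KM T) θξ 1 = ((Nat.card W₂ * u : ℕ) : ℂ)) : False := by
  classical
  have hW : IsSelfNormalizingCyclic W₁ W₂ := hpair.hSP.selfNormalizing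
  have hTP := tf.hTP
  have hoddG : Odd (Nat.card G) := hG.1
  have hoddT : Odd (Nat.card T) := Odd.of_dvd_nat hoddG (Subgroup.card_subgroup_dvd_card T)
  have hD : DadeHypothesis (litA0 T) T (supportR T) :=
    (pf8.dade T tf.hT (litA0 T) (Or.inr (Or.inr rfl))).2
  have hKn : (KM T).Normal := Cfsg.Agent.Lib.Helper51.PFCyc.KM_normal T
  have hidx : (KM T).index = Nat.card W₂ := Cfsg.Agent.Lib.Helper51.PFCyc.KM_index hTP
  obtain ⟨hθ₁irr, hθ₁H, hθ₁inv, hθ₁1⟩ := hθ θ₁ (Or.inl rfl)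
  obtain ⟨hθ₂irr, hθ₂H, hθ₂inv, hθ₂1⟩ := hθ θ₂ (Or.inr rfl)
  have ne_one : ∀ θ : ↥(KM T) → ℂ,
      (∃ h : ↥(KM T), ((h : ↥T) : G) ∈ fittingHallOf T ∧ θ h ≠ θ 1) → θ ≠ fun _ => 1 := by
    intro θ hH e
    obtain ⟨h, -, hh⟩ := hH
    rw [e] at hh
    exact hh rfl
  obtain ⟨β₁, hβ₁, hβ₁1, hres₁, hsum₁⟩ :=
    exists_psi_of_inv hTP hoddT md θ₁ hθ₁irr (ne_one θ₁ hθ₁H) hθ₁inv
  obtain ⟨β₂, hβ₂, hβ₂1, hres₂, hsum₂⟩ :=
    exists_psi_of_inv hTP hoddT md θ₂ hθ₂irr (ne_one θ₂ hθ₂H) hθ₂inv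
  have hβne : β₁ ≠ β₂ := by
    intro e
    apply hne
    rw [← hres₁, ← hres₂, e]
  set ξ : ↥T → ℂ := indFun (KM T) θξ with hξdef
  have hξS : ξ ∈ calS T :=
    (Cfsg.Agent.Lib.Helper74.mem_inducedIrrAbove_bot_iff (KM T)).mpr
      ⟨θξ, hθξ, ne_one θξ hθξH, rfl⟩
  obtain ⟨⟨hgc₁, hn₁, ho₁, hv₁⟩, hcS, hcirr, hc2⟩ :=
    alpha_facts hTP hoddT md β₁ hβ₁ hβ₁1 ξ hξS hξirr
  obtain ⟨⟨hgc₂, hn₂, ho₂, hv₂⟩, -⟩ := alpha_facts hTP hoddT md β₂ hβ₂ hβ₂1 ξ hξS hξirr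
  obtain ⟨⟨hgc₁', hn₁', ho₁', hv₁'⟩, -⟩ :=
    alpha_facts hTP hoddT md β₁ hβ₁ hβ₁1 (conjFun ξ) hcS hcirr
  obtain ⟨⟨hgc₂', hn₂', ho₂', hv₂'⟩, -⟩ :=
    alpha_facts hTP hoddT md β₂ hβ₂ hβ₂1 (conjFun ξ) hcS hcirr
  -- vanishing off `A(T)`
  have hξvan : ∀ m : ↥T, (m : G) ∉ litA T → m ≠ 1 → ξ m = 0 := fun m hm hm1 =>
    ind_vanish_T tf θξ hθξ hθξH m hm hm1
  have hνvan : ∀ (β : WChar W₂ W₁) (θ : ↥(KM T) → ℂ), IsIrrCharacter ↥(KM T) θ →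
      (∃ h : ↥(KM T), ((h : ↥T) : G) ∈ fittingHallOf T ∧ θ h ≠ θ 1) →
      muSum nu β = indFun (KM T) θ → ∀ m : ↥T, (m : G) ∉ litA T → m ≠ 1 → muSum nu β m = 0 := by
    intro β θ hθi hθH hs m hm hm1
    rw [hs]
    exact ind_vanish_T tf θ hθi hθH m hm hm1
  have hν1 : ∀ (β : WChar W₂ W₁) (θ : ↥(KM T) → ℂ), θ 1 = (u : ℂ) →
      muSum nu β = indFun (KM T) θ → muSum nu β 1 = ((Nat.card W₂ * u : ℕ) : ℂ) := by
    intro β θ hθ1 hs
    rw [hs, Cfsg.Agent.Lib.Helper75.indFun_one, hidx, hθ1]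
    push_cast
    ring
  have hconjξ1 : conjFun ξ 1 = ((Nat.card W₂ * u : ℕ) : ℂ) := by
    unfold conjFun
    rw [hξ1]
    exact Complex.conj_natCast _
  have hA : ∀ (β : WChar W₂ W₁) (θ : ↥(KM T) → ℂ), IsIrrCharacter ↥(KM T) θ →
      (∃ h : ↥(KM T), ((h : ↥T) : G) ∈ fittingHallOf T ∧ θ h ≠ θ 1) → θ 1 = (u : ℂ) →
      muSum nu β = indFun (KM T) θ →
      (∀ x : ↥T, (x : G) ∉ litA T → (muSum nu β - ξ) x = 0) ∧
      (∀ x : ↥T, (x : G) ∉ litA T → (muSum nu β - conjFun ξ) x = 0) := by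
    intro β θ hθi hθH hθ1 hs
    constructor
    · intro x hx
      by_cases hx1 : x = 1
      · rw [hx1, Pi.sub_apply, hν1 β θ hθ1 hs, hξ1, sub_self]
      · rw [Pi.sub_apply, hνvan β θ hθi hθH hs x hx hx1, hξvan x hx hx1, sub_self]
    · intro x hx
      by_cases hx1 : x = 1
      · rw [hx1, Pi.sub_apply, hν1 β θ hθ1 hs, hconjξ1, sub_self]
      · rw [Pi.sub_apply, hνvan β θ hθi hθH hs x hx hx1]
        unfold conjFun
        rw [hξvan x hx hx1, map_zero, sub_self]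
  obtain ⟨hA₁, hA₁'⟩ := hA β₁ θ₁ hθ₁irr hθ₁H hθ₁1 hsum₁
  obtain ⟨hA₂, hA₂'⟩ := hA β₂ θ₂ hθ₂irr hθ₂H hθ₂1 hsum₂
  -- coprimality of `|T'|` and `p`
  have hKcop : (Nat.card ↥(KM T)).Coprime (Nat.card W₂) := by
    have h1 := hTP.W₁_hall
    rw [Cfsg.Agent.Lib.Helper26.PFEight.relIndex_of_isComplIn hTP.W₁_compl] at h1
    have h2 : Nat.card ↥(KM T) = Nat.card ↥(⁅T, T⁆ : Subgroup G) :=
      Nat.card_congr (Subgroup.subgroupOfEquivOfLe (der_le tf)).toEquiv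
    rw [h2]
    exact h1.symm
  -- the four class functions
  have key : ∀ α : ↥T → ℂ, IsGeneralizedCharacter ↥T α →
      classInner α α = (Nat.card W₂ : ℂ) + 1 → classInner α (fun _ => 1) = 0 →
      (∀ m : ↥T, (m : G) ∉ ⁅T, T⁆ → α m = 0) → (∀ x : ↥T, (x : G) ∉ litA T → α x = 0) →
      TexpHyp (rowBase W₁ W₂) (colBase W₁ W₂) (Efam η) χ (Nat.card W₂) (tauM T α) := by
    intro α hgc hn ho hv hαA
    have hαA0 : ∀ x : ↥T, (x : G) ∉ litA0 T → α x = 0 := fun x hx =>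
      hαA x (fun h => hx (litA_subset_litA0 T h))
    have hαK : ∀ x : ↥T, x ∉ KM T → α x = 0 := fun x hx =>
      hv x (fun h => hx (Subgroup.mem_subgroupOf.mpr h))
    apply texpHyp_of hW η hη χ hD (W_le_T tf) (What_facts tf) (Nat.card W₂) α hgc hαA hn ho
    · intro ψ ψ' hψ hψ' h1 h1'
      exact inner_eta_galois_const' hW hoddG η hη tf.hp hD (KM T) hKcop α hgc hαK hαA0 ψ ψ'
        hψ hψ' h1 h1'
    · exact inner_tau_Phi hG bg hpair hMtype tf η χ A' c ms α hαA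
  have hX₁ := key _ hgc₁ hn₁ ho₁ hv₁ hA₁
  have hX₂ := key _ hgc₂ hn₂ ho₂ hv₂ hA₂
  have hY₁ := key _ hgc₁' hn₁' ho₁' hv₁' hA₁'
  have hY₂ := key _ hgc₂' hn₂' ho₂' hv₂' hA₂'
  -- [B2] on `T`
  have hdeg : nu β₁ 1 = nu β₂ 1 := by
    have e1 := congrFun hres₁ 1
    have e2 := congrFun hres₂ 1
    simp only [Subgroup.coe_one] at e1 e2
    rw [e1, e2, hθ₁1, hθ₂1]
  have hvanβ : ∀ (β : WChar W₂ W₁) (θ : ↥(KM T) → ℂ), IsIrrCharacter ↥(KM T) θ →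
      (∃ h : ↥(KM T), ((h : ↥T) : G) ∈ fittingHallOf T ∧ θ h ≠ θ 1) →
      (fun k : ↥(KM T) => nu β (k : ↥T)) = θ →
      ∀ x : ↥T, (x : G) ∈ ⁅T, T⁆ → (x : G) ∉ litA T → x ≠ 1 → nu β x = 0 := by
    intro β θ hθi hθH hres x hxK hx hx1
    have e := congrFun hres ⟨x, Subgroup.mem_subgroupOf.mpr hxK⟩
    simp only at e
    rw [e]
    apply res_vanish_T tf θ hθi hθH ⟨x, Subgroup.mem_subgroupOf.mpr hxK⟩ hx
    intro e1
    apply hx1
    have := congrArg Subtype.val e1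
    exact this
  have hb2 := tau_muSum_sub_T tf hoddT hD md η hη β₁ β₂ hβ₁ hβ₂ hβ₁1 hβ₂1 hβne hdeg
    (hvanβ β₁ θ₁ hθ₁irr hθ₁H hres₁) (hvanβ β₂ θ₂ hθ₂irr hθ₂H hres₂)
  -- indices
  let i₁ : RowIdx W₁ W₂ := ⟨swapChar W₁ W₂ β₁, mem_trivSet.mpr (trivOn_swapChar.mpr hβ₁)⟩
  let i₂ : RowIdx W₁ W₂ := ⟨swapChar W₁ W₂ β₂, mem_trivSet.mpr (trivOn_swapChar.mpr hβ₂)⟩
  have hi : i₁ ≠ i₂ := by
    intro e
    apply hβne
    have := congrArg Subtype.val e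
    exact (swapChar W₁ W₂).injective this
  have hR₁ : rowSum (Efam η) i₁ = ∑ ψ ∈ trivSet W₁ W₂ W₁, η (swapChar W₁ W₂ β₁ * ψ) :=
    rowSum_Efam η i₁
  have hR₂ : rowSum (Efam η) i₂ = ∑ ψ ∈ trivSet W₁ W₂ W₁, η (swapChar W₁ W₂ β₂ * ψ) :=
    rowSum_Efam η i₂
  rw [← hR₁, ← hR₂] at hb2
  have hXX : tauM T (muSum nu β₁ - ξ) - tauM T (muSum nu β₂ - ξ) =
      dlT β₁ • (rowSum (Efam η) i₁ - rowSum (Efam η) i₂) := by
    rw [← tauM_sub, sub_sub_sub_cancel_right]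
    exact hb2
  have hYY : tauM T (muSum nu β₁ - conjFun ξ) - tauM T (muSum nu β₂ - conjFun ξ) =
      dlT β₁ • (rowSum (Efam η) i₁ - rowSum (Efam η) i₂) := by
    rw [← tauM_sub, sub_sub_sub_cancel_right]
    exact hb2
  -- `X - Y` has norm 2
  have hXY : classInner (tauM T (muSum nu β₁ - ξ) - tauM T (muSum nu β₁ - conjFun ξ))
      (tauM T (muSum nu β₁ - ξ) - tauM T (muSum nu β₁ - conjFun ξ)) = 2 := by
    rw [← tauM_sub, sub_sub_sub_cancel_left]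
    have hcfξ : IsClassFunction ↥T ξ :=
      Cfsg.Agent.Lib.Helper78.IsCharacter.isClassFunction
        (Cfsg.Agent.Lib.Helper78.IsIrrCharacter.isCharacter hξirr)
    have hcf : IsClassFunction ↥T (conjFun ξ - ξ) := by
      intro g h
      simp only [Pi.sub_apply, conjFun]
      rw [hcfξ g h]
    have hvan : ∀ x : ↥T, (x : G) ∉ litA0 T → (conjFun ξ - ξ) x = 0 := by
      intro x hx
      have hx' : (x : G) ∉ litA T := fun h => hx (litA_subset_litA0 T h)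
      have e1 := hA₁ x hx'
      have e2 := hA₁' x hx'
      simp only [Pi.sub_apply] at e1 e2 ⊢
      rw [← sub_eq_zero.mp e1, ← sub_eq_zero.mp e2, sub_self]
    rw [(Cfsg.Agent.S1500.result (litA0 T) T (supportR T) hD _ hcf hvan).1 _ hcf hvan]
    exact hc2
  -- the abstract end game
  have hχ : classInner χ χ = 1 := by
    rcases ms.irr with h | h
    · exact Cfsg.Agent.Lib.Helper78.classInner_irr_self h
    · have := Cfsg.Agent.Lib.Helper78.classInner_irr_self h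
      rwa [Cfsg.Agent.Lib.Helper26.classInner_neg_left,
        Cfsg.Agent.Lib.Helper26.classInner_neg_right, neg_neg] at this
  have hχE : ∀ (i : RowIdx W₁ W₂) (j : ColIdx W₁ W₂), classInner χ (Efam η i j) = 0 :=
    fun i j => ms.orth _
  have hp3 : 3 ≤ Nat.card W₂ := by
    have h2 : Odd (Nat.card W₂) := Odd.of_dvd_nat hoddG (Subgroup.card_subgroup_dvd_card W₂)
    have h3 := tf.hp.two_le
    rcases h2 with ⟨k, hk⟩
    omega
  have hq3 : 3 ≤ Nat.card W₁ := by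
    have h2 : Odd (Nat.card W₁) := Odd.of_dvd_nat hoddG (Subgroup.card_subgroup_dvd_card W₁)
    have h3 : Nat.card W₁ ≠ 1 := fun h => hW.1 (Subgroup.card_eq_one.mp h)
    have h4 : 0 < Nat.card W₁ := Nat.card_pos
    rcases h2 with ⟨k, hk⟩
    omega
  rcases md.sign β₁ with hs | hs
  · rw [hs, one_smul] at hXX hYY
    exact case1_false (card_ColIdx hW) hp3 (card_RowIdx hW) hq3 (Efam_orthonormal hW η hη) hχ hχE
      hX₁ hY₁ hX₂ hY₂ hi hXX hYY hXY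
  · rw [hs, neg_one_smul, neg_sub] at hXX hYY
    exact case1_false (card_ColIdx hW) hp3 (card_RowIdx hW) hq3 (Efam_orthonormal hW η hη) hχ hχE
      hX₁ hY₁ hX₂ hY₂ hi.symm hXX hYY hXY

end Cfsg.Agent.Lib.Helper60.PFTenT
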