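import Mathlib
import Cfsg.Agent.Lib.Helper60.PFTenTBasic
import Cfsg.Agent.Lib.Helper23.PFTenTFrob
import Cfsg.Agent.Lib.Helper39.PFTenTC2Count
import Cfsg.Agent.Lib.Helper39.PFTenTC2Sing
import Cfsg.Agent.Lib.Helper9.PFTenTC2Mass
import Cfsg.Agent.Lib.Helper26.PFTenTC2Num

/-!
# Peterfalvi section 10, T-side: Case 2 (helper60)

`V` acts regularly on `Q`: count the elements of `G` of order prime to `|Q|`.
-/

set_option autoImplicit false

namespace Cfsg.Agent.Lib.Helper60.PFTenT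

open Cfsg Cfsg.Agent.Lib.Helper24.PFCyc Cfsg.Agent.Lib.Helper4.PF

universe u

section Gen

variable {X : Type u} [Group X]

/-- `|VA| = |V||A|` when `A` normalizes `V` and `V ∩ A = 1` -/
theorem card_sup_of_normalizes (V A : Subgroup X)
    (hAV : A ≤ Subgroup.normalizer (V : Set X)) (hVA : V ⊓ A = ⊥) :
    Nat.card ↥(V ⊔ A) = Nat.card V * Nat.card A := by
  let e : V × A → ↥(V ⊔ A) := fun p =>
    ⟨p.1.1 * p.2.1, Subgroup.mul_mem _ ((le_sup_left : V ≤ V ⊔ A) p.1.2)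
      ((le_sup_right : A ≤ V ⊔ A) p.2.2)⟩
  have he : Function.Bijective e := by
    constructor
    · rintro ⟨v, a⟩ ⟨v', a'⟩ h
      have h1 : v.1 * a.1 = v'.1 * a'.1 := congrArg Subtype.val h
      have h2 : v'.1⁻¹ * v.1 = a'.1 * a.1⁻¹ := by
        calc v'.1⁻¹ * v.1 = v'.1⁻¹ * (v.1 * a.1) * a.1⁻¹ := by group
          _ = v'.1⁻¹ * (v'.1 * a'.1) * a.1⁻¹ := by rw [h1]
          _ = a'.1 * a.1⁻¹ := by group
      have h3 : v'.1⁻¹ * v.1 ∈ V ⊓ A := by
        refine ⟨V.mul_mem (V.inv_mem v'.2) v.2, ?_⟩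
        rw [h2]
        exact A.mul_mem a'.2 (A.inv_mem a.2)
      rw [hVA, Subgroup.mem_bot] at h3
      have h4 : v.1 = v'.1 := by
        have := congrArg (fun z => v'.1 * z) h3
        simpa using this
      have h5 : a.1 = a'.1 := by
        rw [h4] at h1
        exact mul_left_cancel h1
      rw [Subtype.ext h4, Subtype.ext h5]
    · rintro ⟨s, hs⟩
      obtain ⟨v, hv, a, ha, rfl⟩ :=
        Cfsg.Agent.Lib.Helper93.PFTenT.pconj_mem_sup_of_normalizes V A hAV s hs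
      exact ⟨(⟨v, hv⟩, ⟨a, ha⟩), rfl⟩
  rw [← Nat.card_prod]
  exact (Nat.card_congr (Equiv.ofBijective e he)).symm

omit [Group X] in
/-- the two halves of a finite type -/
theorem card_subtype_add_card_not [Finite X] (P : X → Prop) :
    Nat.card {x : X // P x} + Nat.card {x : X // ¬ P x} = Nat.card X := by
  classical
  rw [← Nat.card_sum]
  exact Nat.card_congr (Equiv.sumCompl P)

theorem card_subgroupOf_of_le {H K : Subgroup X} (h : H ≤ K) :
    Nat.card ↥(H.subgroupOf K) = Nat.card H :=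
  Nat.card_congr (Subgroup.subgroupOfEquivOfLe h).toEquiv

end Gen

variable {G : Type u} [Group G] {T W₁ W₂ V : Subgroup G}

theorem subgroupOf_Q_normal' (T : Subgroup G) : ((fittingHallOf T).subgroupOf T).Normal := by
  constructor
  intro n hn g
  have hn' : (n : G) ∈ fittingHallOf T := hn
  have := Cfsg.Agent.Lib.Helper26.PFEight.conj_mem_fittingHallOf T g.2 hn'
  exact this

theorem card_T [Finite G] (tf : TFrame T W₁ W₂ V) :
    Nat.card T = Nat.card (fittingHallOf T) * Nat.card V * Nat.card W₂ := by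
  rw [Cfsg.Agent.Lib.Helper23.card_of_isComplIn tf.hTP.W₁_compl,
    Cfsg.Agent.Lib.Helper23.card_of_isComplIn tf.hTP.U_compl]

theorem coprime_W₂_Q [Finite G] (tf : TFrame T W₁ W₂ V) :
    (Nat.card W₂).Coprime (Nat.card (fittingHallOf T)) := by
  have h1 := tf.hTP.W₁_hall
  rw [Cfsg.Agent.Lib.Helper26.PFEight.relIndex_of_isComplIn tf.hTP.W₁_compl] at h1
  exact Nat.Coprime.coprime_dvd_right (Subgroup.card_dvd_of_le (fittingHallOf_le_der tf)) h1

theorem hall_Q [Finite G] (tf : TFrame T W₁ W₂ V) :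
    (Nat.card (fittingHallOf T)).Coprime ((fittingHallOf T).relIndex T) := by
  have hQT : fittingHallOf T ≤ T := Cfsg.Agent.Lib.Helper26.PFEight.fittingHallOf_le T
  have h1 := Cfsg.Agent.Lib.Helper23.card_mul_relIndex_of_le hQT
  have h2 := card_T tf
  have hpos : 0 < Nat.card (fittingHallOf T) := Nat.card_pos
  have h3 : (fittingHallOf T).relIndex T = Nat.card V * Nat.card W₂ := by
    apply Nat.eq_of_mul_eq_mul_left hpos
    rw [h1, h2, mul_assoc]
  rw [h3]
  exact Nat.Coprime.mul_right (Cfsg.Agent.Lib.Helper23.typeP_coprime tf.hTP).1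
    (coprime_W₂_Q tf).symm

theorem Q_le_fittingOf (tf : TFrame T W₁ W₂ V) : fittingHallOf T ≤ fittingOf T := by
  rw [← tf.hTP.fitting_eq]
  exact le_sup_left

theorem TI_T (hG : IsMinSimpleOddOrder G) (tf : TFrame T W₁ W₂ V) :
    ∀ g : G, g ∉ T → ∀ x ∈ fittingOf T, g * x * g⁻¹ ∈ fittingOf T → x = 1 := by
  have hs : IsSimpleGroup G := hG.2.1
  have hne : ∃ x ∈ fittingOf T, x ≠ 1 := by
    by_contra hc
    apply tf.hTP.H_not_cyclic
    have hbot : fittingHallOf T = ⊥ := by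
      rw [eq_bot_iff]
      intro x hx
      by_contra hx1
      exact hc ⟨x, Q_le_fittingOf tf hx, hx1⟩
    rw [hbot]
    infer_instance
  obtain ⟨x₀, hx₀, hx₀1⟩ := hne
  have hN : Subgroup.normalizer (fittingOf T : Set G) = T :=
    Cfsg.Agent.Lib.Helper26.PFEight.normalizer_eq_of_isCoatom tf.hT
      (fun a ha => Cfsg.Agent.Lib.Helper26.PFEight.fittingOf_le T ha) ⟨x₀, hx₀, hx₀1⟩
      (fun m hm a ha => Cfsg.Agent.Lib.Helper26.PFEight.conj_mem_fittingOf T hm ha)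
  intro g hg x hx hgx
  rw [← hN] at hg
  exact tf.hTI g hg x hx hgx

/-- `|V| ≥ 13` in the extremal Galois case -/
theorem thirteen_le {v r p : ℕ} (hr : 3 ≤ r) (hp : 3 ≤ p) (h : v * (r - 1) = r ^ p - 1) :
    13 ≤ v := by
  have h1 : r ^ 3 ≤ r ^ p := Nat.pow_le_pow_right (by omega) hp
  have h2 : (r - 1) * (r ^ 2 + r + 1) + 1 = r ^ 3 := by
    obtain ⟨k, rfl⟩ : ∃ k, r = k + 1 := ⟨r - 1, by omega⟩
    simp only [Nat.add_sub_cancel]
    ring
  have h3 : (r - 1) * (r ^ 2 + r + 1) ≤ v * (r - 1) := by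
    rw [h]
    omega
  have h4 : 0 < r - 1 := by omega
  have h5 : r ^ 2 + r + 1 ≤ v := by
    rw [mul_comm] at h3
    exact Nat.le_of_mul_le_mul_right h3 h4
  have h6 : 9 ≤ r ^ 2 := by nlinarith
  omega

/-- **Case 2 of Peterfalvi (10.8), T-side**: `V` semiregular on `Q/H₀` and `|V|(r-1) = r^p - 1`. -/
theorem case2_T [Fintype G] (hG : IsMinSimpleOddOrder G) (pf8 : BookPF8Data G)
    {M U : Subgroup G} (hpair : PairHyp M T W₁ W₂ U V) (tf : TFrame T W₁ W₂ V)
    (η : WChar W₁ W₂ → (G → ℂ)) (hη : IsCyclicTIFamily W₁ W₂ η) (χ : G → ℂ) (A' : Set G) (c : ℝ)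
    (ms : MSide M W₁ W₂ η χ A' c)
    {H₀ : Subgroup G} {r : ℕ} (hH₀lt : H₀ < fittingHallOf T)
    (hTn : T ≤ Subgroup.normalizer (H₀ : Set G)) (hr3 : 3 ≤ r)
    (hcard : Nat.card V * (r - 1) = r ^ (Nat.card W₂) - 1)
    (hsemi : ∀ x ∈ V, x ≠ 1 → ∀ h ∈ fittingHallOf T, x * h * x⁻¹ * h⁻¹ ∈ H₀ → h ∈ H₀)
    (hnum : ((Nat.card A' : ℝ) + c) / Nat.card M <
      1 / (Nat.card W₁ : ℝ) + (1 / (Nat.card W₂ : ℝ)) * (1 - 1 / (Nat.card W₁ : ℝ) - 1 / 13)) :
    False := by
  classical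
  have hW : IsSelfNormalizingCyclic W₁ W₂ := hpair.hSP.selfNormalizing
  have hTP := tf.hTP
  have hoddG : Odd (Nat.card G) := hG.1
  set Q : Subgroup G := fittingHallOf T with hQdef
  have hQT : Q ≤ T := Cfsg.Agent.Lib.Helper26.PFEight.fittingHallOf_le T
  have hT'T : (⁅T, T⁆ : Subgroup G) ≤ T := der_le tf
  have hVT' : V ≤ ⁅T, T⁆ := hTP.U_compl.2.1
  have hVT : V ≤ T := hVT'.trans hT'T
  have hW₂T : W₂ ≤ T := hTP.W₁_compl.2.1
  have hW₁Q : W₁ ≤ Q := W₁_le_Q tf
  have hW₁T : W₁ ≤ T := hW₁Q.trans hQT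
  have hfpfV := Cfsg.Agent.Lib.Helper23.PFTenT.V_fpf_of_semiregular hG tf H₀ hH₀lt hTn hsemi
  -- the subgroups of `↥T`
  have hQ'n : (Q.subgroupOf T).Normal := subgroupOf_Q_normal' T
  have hcQ : Nat.card ↥(Q.subgroupOf T) = Nat.card Q := card_subgroupOf_of_le hQT
  have hcV : Nat.card ↥(V.subgroupOf T) = Nat.card V := card_subgroupOf_of_le hVT
  have hcA : Nat.card ↥(W₂.subgroupOf T) = Nat.card W₂ := card_subgroupOf_of_le hW₂T
  have hcB : Nat.card ↥(W₁.subgroupOf T) = Nat.card W₁ := card_subgroupOf_of_le hW₁T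
  have hcopQV := (Cfsg.Agent.Lib.Helper23.typeP_coprime hTP).1
  have hcopW₂V := (Cfsg.Agent.Lib.Helper23.typeP_coprime hTP).2
  have hAV : W₂.subgroupOf T ≤ Subgroup.normalizer ((V.subgroupOf T : Subgroup ↥T) : Set ↥T) := by
    intro a ha
    have haN : (a : G) ∈ Subgroup.normalizer (V : Set G) := hTP.U_normal ha
    rw [Subgroup.mem_normalizer_iff] at haN ⊢
    intro x
    exact haN (x : G)
  have hVAcop : (Nat.card ↥(V.subgroupOf T)).Coprime (Nat.card ↥(W₂.subgroupOf T)) := by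
    rw [hcV, hcA]
    exact hcopW₂V.symm
  have hVAbot : V.subgroupOf T ⊓ W₂.subgroupOf T = ⊥ :=
    (Subgroup.disjoint_of_coprime_natCard hVAcop).eq_bot
  have hcS : Nat.card ↥(V.subgroupOf T ⊔ W₂.subgroupOf T) = Nat.card V * Nat.card W₂ := by
    rw [card_sup_of_normalizes _ _ hAV hVAbot, hcV, hcA]
  have hcop : (Nat.card ↥(V.subgroupOf T ⊔ W₂.subgroupOf T)).Coprime
      (Nat.card ↥(Q.subgroupOf T)) := by
    rw [hcS, hcQ]
    exact Nat.Coprime.mul_left hcopQV.symm (coprime_W₂_Q tf)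
  have hQS : Q.subgroupOf T ⊓ (V.subgroupOf T ⊔ W₂.subgroupOf T) = ⊥ :=
    (Subgroup.disjoint_of_coprime_natCard hcop.symm).eq_bot
  have hA : (Nat.card ↥(W₂.subgroupOf T)).Prime := by
    rw [hcA]
    exact tf.hp
  have hfpfV' : ∀ v ∈ V.subgroupOf T, v ≠ 1 → ∀ x ∈ Q.subgroupOf T, v * x = x * v → x = 1 := by
    intro v hv hv1 x hx hcomm
    have := hfpfV (v : G) hv (fun e => hv1 (Subtype.ext e)) (x : G) hx
      (congrArg Subtype.val hcomm)
    exact Subtype.ext this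
  have hcentG : ∀ a ∈ W₂, a ≠ 1 → ∀ y ∈ ⁅T, T⁆, (a * y = y * a ↔ y ∈ W₁) := by
    intro a ha ha1 y hy
    have h := hTP.W₂_centralizer a ha ha1
    constructor
    · intro hc
      rw [← h]
      exact Subgroup.mem_inf.mpr ⟨hy, Subgroup.mem_centralizer_singleton_iff.mpr hc.symm⟩
    · intro hyW
      rw [← h] at hyW
      exact (Subgroup.mem_centralizer_singleton_iff.mp (Subgroup.mem_inf.mp hyW).2).symm
  have hfpfA : ∀ a ∈ W₂.subgroupOf T, a ≠ 1 → ∀ v ∈ V.subgroupOf T, a * v = v * a → v = 1 := by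
    intro a ha ha1 v hv hcomm
    have hvW : (v : G) ∈ W₁ :=
      (hcentG (a : G) ha (fun e => ha1 (Subtype.ext e)) (v : G) (hVT' hv)).mp
        (congrArg Subtype.val hcomm)
    have hvQV : (v : G) ∈ Q ⊓ V := ⟨hW₁Q hvW, hv⟩
    rw [hTP.U_compl.2.2.1, Subgroup.mem_bot] at hvQV
    exact Subtype.ext hvQV
  have hBQ : W₁.subgroupOf T ≤ Q.subgroupOf T := fun x hx => hW₁Q hx
  have hcent : ∀ a ∈ W₂.subgroupOf T, a ≠ 1 →
      Q.subgroupOf T ⊓ Subgroup.centralizer ({a} : Set ↥T) = W₁.subgroupOf T := by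
    intro a ha ha1
    ext y
    rw [Subgroup.mem_inf, Subgroup.mem_centralizer_singleton_iff]
    constructor
    · rintro ⟨hyQ, hc⟩
      exact (hcentG (a : G) ha (fun e => ha1 (Subtype.ext e)) (y : G)
        (fittingHallOf_le_der tf hyQ)).mp (congrArg Subtype.val hc).symm
    · intro hyW
      refine ⟨hW₁Q hyW, ?_⟩
      have := (hcentG (a : G) ha (fun e => ha1 (Subtype.ext e)) (y : G)
        (fittingHallOf_le_der tf (hW₁Q hyW))).mpr hyW
      exact Subtype.ext this.symm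
  have hregT := Cfsg.Agent.Lib.Helper39.PFTenT.card_regular_T (Q.subgroupOf T) (V.subgroupOf T)
    (W₂.subgroupOf T) (W₁.subgroupOf T) hAV hQS hcop hA hVAcop hfpfV' hfpfA hBQ hcent
  rw [hcV, hcQ, hcA] at hregT
  -- the singular elements
  have hsingle := Cfsg.Agent.Lib.Helper39.PFTenT.card_singular_le T Q (fittingOf T) hQT
    (Q_le_fittingOf tf)
    (fun m hm => Subgroup.mem_normalizer_iff.mpr (fun x =>
      ⟨fun hx => Cfsg.Agent.Lib.Helper26.PFEight.conj_mem_fittingHallOf T hm hx,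
       fun hx => by
        have := Cfsg.Agent.Lib.Helper26.PFEight.conj_mem_fittingHallOf T (T.inv_mem hm) hx
        have e : m⁻¹ * (m * x * m⁻¹) * m⁻¹⁻¹ = x := by group
        rwa [e] at this⟩))
    (hall_Q tf) (TI_T hG tf)
  -- the mass bound
  have hmass := Cfsg.Agent.Lib.Helper9.PFTenT.card_coprime_le pf8 hpair.hS hW hoddG η hη χ A' c ms
  -- numbers
  have hqh : Nat.card W₁ ∣ Nat.card Q := Subgroup.card_dvd_of_le hW₁Q
  have hRle : Nat.card {g : G // (orderOf g).Coprime (Nat.card Q)} ≤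
      Nat.card {g : G // (orderOf g).Coprime (Nat.card W₁)} :=
    Nat.card_le_card_of_injective
      (fun x => ⟨x.1, Nat.Coprime.coprime_dvd_right hqh x.2⟩)
      (fun x y h => Subtype.ext (congrArg (fun z => z.1) h))
  have hsumG := card_subtype_add_card_not (X := G) (fun g => (orderOf g).Coprime (Nat.card Q))
  have hsumT := card_subtype_add_card_not (X := ↥T)
    (fun t => (orderOf t).Coprime (Nat.card Q))
  have hsT : Nat.card {t : ↥T // ¬ (orderOf (t : G)).Coprime (Nat.card Q)} =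
      Nat.card {t : ↥T // ¬ (orderOf t).Coprime (Nat.card Q)} := by
    apply Nat.card_congr
    apply Equiv.subtypeEquivRight
    intro t
    rw [Subgroup.orderOf_coe]
  rw [hsT] at hsingle
  have hh : Nat.card Q = Nat.card W₁ * (W₁.subgroupOf T).relIndex (Q.subgroupOf T) := by
    have := Cfsg.Agent.Lib.Helper23.card_mul_relIndex_of_le hBQ
    rw [hcB, hcQ] at this
    exact this.symm
  have hQpos : 0 < Nat.card Q := Nat.card_pos
  have hh' : 0 < (W₁.subgroupOf T).relIndex (Q.subgroupOf T) := by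
    rcases Nat.eq_zero_or_pos ((W₁.subgroupOf T).relIndex (Q.subgroupOf T)) with h0 | h0
    · rw [h0, mul_zero] at hh
      omega
    · exact h0
  have hp3 : 3 ≤ Nat.card W₂ := by
    have h2 : Odd (Nat.card W₂) := Odd.of_dvd_nat hoddG (Subgroup.card_subgroup_dvd_card W₂)
    have h3 := tf.hp.two_le
    rcases h2 with ⟨k, hk⟩
    omega
  have hq3 : 3 ≤ Nat.card W₁ := by
    have h2 : Odd (Nat.card W₁) := Odd.of_dvd_nat hoddG (Subgroup.card_subgroup_dvd_card W₁)
    have h3 : Nat.card W₁ ≠ 1 := fun h => hW.1 (Subgroup.card_eq_one.mp h)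
    have h4 : 0 < Nat.card W₁ := Nat.card_pos
    rcases h2 with ⟨k, hk⟩
    omega
  have hv13 : 13 ≤ Nat.card V := thirteen_le hr3 hp3 hcard
  have hMpos : 0 < Nat.card M := Nat.card_pos
  have hGpos : 0 < Nat.card G := Nat.card_pos
  apply Cfsg.Agent.Lib.Helper26.PFTenT.case2_numeric (Nat.card G) (Nat.card M) (Nat.card T)
    (Nat.card Q) (Nat.card V) (Nat.card W₂) (Nat.card W₁)
    ((W₁.subgroupOf T).relIndex (Q.subgroupOf T)) (Nat.card A' : ℝ) c
    (Nat.card {g : G // (orderOf g).Coprime (Nat.card Q)} : ℝ)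
    (Nat.card {t : ↥T // (orderOf t).Coprime (Nat.card Q)} : ℝ)
    hGpos hMpos (card_T tf) hh hh' hv13 hp3 hq3 ?_ ?_ ?_ hnum
  · refine le_trans ?_ hmass
    exact_mod_cast hRle
  · have e1 : (Nat.card G : ℝ) - (Nat.card {g : G // (orderOf g).Coprime (Nat.card Q)} : ℝ) =
        (Nat.card {g : G // ¬ (orderOf g).Coprime (Nat.card Q)} : ℝ) := by
      rw [← hsumG]
      push_cast
      ring
    have e2 : (Nat.card T : ℝ) - (Nat.card {t : ↥T // (orderOf t).Coprime (Nat.card Q)} : ℝ) =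
        (Nat.card {t : ↥T // ¬ (orderOf t).Coprime (Nat.card Q)} : ℝ) := by
      rw [← hsumT]
      push_cast
      ring
    rw [e1, e2]
    exact_mod_cast hsingle
  · have hv1 : 1 ≤ Nat.card V := by omega
    have hp1 : 1 ≤ Nat.card W₂ := by omega
    have := hregT
    have hcast : ((1 + (Nat.card V - 1) * Nat.card Q + Nat.card V * (Nat.card W₂ - 1) *
        (W₁.subgroupOf T).relIndex (Q.subgroupOf T) : ℕ) : ℝ) =
        (1 : ℝ) + ((Nat.card V : ℝ) - 1) * (Nat.card Q : ℝ) +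
          (Nat.card V : ℝ) * ((Nat.card W₂ : ℝ) - 1) *
            ((W₁.subgroupOf T).relIndex (Q.subgroupOf T) : ℝ) := by
      push_cast [Nat.cast_sub hv1, Nat.cast_sub hp1]
      ring
    rw [← hcast]
    exact_mod_cast this

end Cfsg.Agent.Lib.Helper60.PFTenT
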