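import Mathlib
import Cfsg.Agent.Lib.Helper60.PFTenTCase1
import Cfsg.Agent.Lib.Helper60.PFTenTCase2
import Cfsg.Agent.Lib.Helper9.PFTenTTwo
import Cfsg.Agent.Lib.Helper22.PFCycMu
import Cfsg.Agent.Lib.Helper59.PFNineBR
import Cfsg.Agent.Lib.Helper16.PFNineTen

/-!
# Peterfalvi section 10, T-side: the main theorem (helper60)

`false_of_MSide`: the outcome `MSide` of the M-side of (10.8) (for `M` of Type III, IV or V with
partner `T`) together with one numeric inequality is contradictory.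
-/

set_option autoImplicit false

namespace Cfsg.Agent.Lib.Helper60.PFTenT

open Cfsg Cfsg.Agent.Lib.Helper24.PFCyc Cfsg.Agent.Lib.Helper4.PF Cfsg.Agent.Lib.Helper58.PF9

universe u

variable {G : Type u} [Group G]

/-- a chief factor `Q/H₀` of `T`, seen inside `↥T` -/
theorem chief_subgroupOf {T Q H₀ : Subgroup G} (hQT : Q ≤ T) (hH₀Q : H₀ ≤ Q)
    (h : ∀ N : Subgroup G, H₀ ≤ N → N ≤ Q → T ≤ Subgroup.normalizer (N : Set G) →
      N = H₀ ∨ N = Q)
    (N : Subgroup ↥T) (hN : N.Normal) (h1 : H₀.subgroupOf T ≤ N) (h2 : N ≤ Q.subgroupOf T) :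
    N = H₀.subgroupOf T ∨ N = Q.subgroupOf T := by
  have hmapsub : (N.map T.subtype).subgroupOf T = N :=
    Subgroup.comap_map_eq_self_of_injective T.subtype_injective N
  have a1 : H₀ ≤ N.map T.subtype := by
    intro x hx
    have hx' : (⟨x, hQT (hH₀Q hx)⟩ : ↥T) ∈ H₀.subgroupOf T := hx
    exact ⟨⟨x, hQT (hH₀Q hx)⟩, h1 hx', rfl⟩
  have a2 : N.map T.subtype ≤ Q := by
    rintro _ ⟨y, hy, rfl⟩
    exact h2 hy
  have a3 : T ≤ Subgroup.normalizer ((N.map T.subtype : Subgroup G) : Set G) := by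
    intro t ht
    rw [Subgroup.mem_normalizer_iff]
    intro x
    constructor
    · rintro ⟨y, hy, rfl⟩
      exact ⟨⟨t, ht⟩ * y * ⟨t, ht⟩⁻¹, hN.conj_mem y hy ⟨t, ht⟩, rfl⟩
    · rintro ⟨y, hy, hyx⟩
      refine ⟨⟨t, ht⟩⁻¹ * y * ⟨t, ht⟩, ?_, ?_⟩
      · have := hN.conj_mem y hy ⟨t, ht⟩⁻¹
        simpa using this
      · have e : T.subtype (⟨t, ht⟩⁻¹ * y * ⟨t, ht⟩) = t⁻¹ * (T.subtype y) * t := rfl
        rw [e, hyx]
        group
  rcases h _ a1 a2 a3 with e | e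
  · left
    rw [← hmapsub, e]
  · right
    rw [← hmapsub, e]

section Main

variable [Fintype G] {M T W₁ W₂ U V : Subgroup G}

/-- **Case 1** from the (9.10) alternative. -/
theorem case1_T [Fintype T] (hG : IsMinSimpleOddOrder G) (bg : BookBGData G) (pf8 : BookPF8Data G)
    (hpair : PairHyp M T W₁ W₂ U V)
    (hMtype : IsOfTypeIII M ∨ IsOfTypeIV M ∨ IsOfTypeV M) (tf : TFrame T W₁ W₂ V)
    (η : WChar W₁ W₂ → (G → ℂ)) (hη : IsCyclicTIFamily W₁ W₂ η) (χ : G → ℂ) (A' : Set G) (c : ℝ)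
    (ms : MSide M W₁ W₂ η χ A' c) {H₀ : Subgroup G} {r : ℕ}
    (cx : Ctx (KM T) ((fittingHallOf T).subgroupOf T) (V.subgroupOf T) (W₂.subgroupOf T)
      (W₁.subgroupOf T) (H₀.subgroupOf T) r (Nat.card W₂))
    (hchief : ∀ N : Subgroup ↥T, N.Normal → H₀.subgroupOf T ≤ N →
      N ≤ (fittingHallOf T).subgroupOf T →
      N = H₀.subgroupOf T ∨ N = (fittingHallOf T).subgroupOf T)
    (h1 : ∃ φ ∈ Sbook (KM T) ((fittingHallOf T).subgroupOf T)
        (H₀.subgroupOf T ⊔ ⁅coreC (V.subgroupOf T) ((fittingHallOf T).subgroupOf T)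
          (H₀.subgroupOf T), coreC (V.subgroupOf T) ((fittingHallOf T).subgroupOf T)
          (H₀.subgroupOf T)⁆),
      IsIrrCharacter ↥T φ ∧
      φ 1 = ((Nat.card W₂ * (coreC (V.subgroupOf T) ((fittingHallOf T).subgroupOf T)
        (H₀.subgroupOf T)).relIndex (V.subgroupOf T) : ℕ) : ℂ) ∧
      IsIndLinear ((fittingHallOf T).subgroupOf T ⊔
        coreC (V.subgroupOf T) ((fittingHallOf T).subgroupOf T) (H₀.subgroupOf T)) φ) :
    False := by
  obtain ⟨φ, ⟨θξ, hθξX, rfl⟩, hirr, hφ1, -⟩ := h1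
  obtain ⟨θ₁, θ₂, hne, hθ⟩ := Cfsg.Agent.Lib.Helper9.PFTenT.exists_two_invariant cx hchief
  have hoddT : Odd (Nat.card T) :=
    Odd.of_dvd_nat hG.1 (Subgroup.card_subgroup_dvd_card T)
  obtain ⟨nu, dlT, md⟩ := Cfsg.Agent.Lib.Helper22.PFCyc.exists_muData tf.hTP hoddT
  exact case1_core hG bg pf8 hpair hMtype tf η hη χ A' c ms md _ θ₁ θ₂ θξ hne
    (fun θ hθ' => by
      obtain ⟨a1, a2, a3, a4⟩ := hθ θ hθ'
      exact ⟨a1, a2, a3, a4⟩)
    hθξX.1 hθξX.2.2 hirr hφ1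

/-- **The T-side of Peterfalvi (10.8)**. -/
theorem false_of_MSide (hG : IsMinSimpleOddOrder G) (bg : BookBGData G) (pf8 : BookPF8Data G)
    (hpair : PairHyp M T W₁ W₂ U V)
    (hMtype : IsOfTypeIII M ∨ IsOfTypeIV M ∨ IsOfTypeV M)
    (η : WChar W₁ W₂ → (G → ℂ)) (hη : IsCyclicTIFamily W₁ W₂ η) (χ : G → ℂ) (A' : Set G) (c : ℝ)
    (ms : MSide M W₁ W₂ η χ A' c)
    (hnum : ((Nat.card A' : ℝ) + c) / Nat.card M <
      1 / (Nat.card W₁ : ℝ) + (1 / (Nat.card W₂ : ℝ)) * (1 - 1 / (Nat.card W₁ : ℝ) - 1 / 13)) :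
    False := by
  classical
  have tf := tframe_of_pair hG hpair hMtype
  have hfT : Fintype ↥T := Fintype.ofFinite _
  obtain ⟨H₀, r, hH₀lt, hTn, -, hchiefG, cx⟩ :=
    Cfsg.Agent.Lib.Helper59.PF9.exists_ctx_of_typeP tf.hTP tf.hV tf.hp hG.1
  have hQT : fittingHallOf T ≤ T := Cfsg.Agent.Lib.Helper26.PFEight.fittingHallOf_le T
  have hVT : V ≤ T := tf.hTP.U_compl.2.1.trans (der_le tf)
  have hchief := chief_subgroupOf hQT hH₀lt.le hchiefG
  rcases Cfsg.Agent.Lib.Helper16.PFNineTen.reducible_core_cases cx hchief with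
    h1 | ⟨-, -, hcard, hsemi⟩
  · exact case1_T hG bg pf8 hpair hMtype tf η hη χ A' c ms cx hchief h1
  · have hr3 : 3 ≤ r := by
      have hrp := cx.p_prime
      have h1 : r ∣ Nat.card ↥T := by
        have h2 : r ∣ r ^ (Nat.card W₂) := dvd_pow_self r tf.hp.pos.ne'
        rw [← cx.relIndex_H₀] at h2
        exact h2.trans ((Subgroup.relIndex_dvd_card _ _).trans
          (Subgroup.card_subgroup_dvd_card _))
      have h3 : Odd r := Odd.of_dvd_nat cx.odd h1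
      have h4 := hrp.two_le
      rcases h3 with ⟨k, hk⟩
      omega
    rw [card_subgroupOf_of_le hVT] at hcard
    apply case2_T hG pf8 hpair tf η hη χ A' c ms hH₀lt hTn hr3 hcard ?_ hnum
    intro x hx hx1 h hh hxh
    exact hsemi ⟨x, hVT hx⟩ hx (fun e => hx1 (congrArg Subtype.val e)) ⟨h, hQT hh⟩ hh hxh

end Main

end Cfsg.Agent.Lib.Helper60.PFTenT
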