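import Mathlib
import Cfsg.Prelude.Def_OddOrderLocal
import Cfsg.Prelude.Def_CaseTheorems

/-!
# Peterfalvi (12.8)-(12.10), group part: the data structure (helper60)

Everything here is about subgroups of an ambient finite group `G`; no B&G vocabulary.

* `FData M K U U₁ U₀` : the data of a group `M` of Frobenius type with kernel `K`, in ambient form.
-/

set_option autoImplicit false

namespace Cfsg.Agent.Lib.Helper60.PF12G

open Cfsg

variable {G : Type*} [Group G]

/-- The data of a subgroup `M` of Frobenius type, in ambient form: `K` is a nontrivial nilpotent normal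
Hall subgroup of `M` with nontrivial complement `U`; the abelian normal subgroup `U₁` of `U` contains
`C_U(k)` for all `k ∈ K^#`; `U₀ ≤ U` has the exponent of `U` and acts on `K` without fixed points. -/
structure FData (M K U U₁ U₀ : Subgroup G) : Prop where
  K_norm : ∀ m ∈ M, ∀ k ∈ K, m * k * m⁻¹ ∈ K
  K_nil : Group.IsNilpotent K
  K_ne : K ≠ ⊥
  U_ne : U ≠ ⊥
  M_solv : Group.IsSolvable M
  M_odd : Odd (Nat.card M)
  compl : IsComplIn K U M
  cop : (Nat.card K).Coprime (Nat.card U)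
  U₁_le : U₁ ≤ U
  U₁_norm : ∀ u ∈ U, ∀ v ∈ U₁, u * v * u⁻¹ ∈ U₁
  U₁_comm : ∀ a ∈ U₁, ∀ b ∈ U₁, a * b = b * a
  U₁_cent : ∀ k ∈ K, k ≠ 1 → ∀ u ∈ U, u * k = k * u → u ∈ U₁
  U₀_le : U₀ ≤ U
  exp : Monoid.exponent U₀ = Monoid.exponent U
  fpf : ∀ u ∈ U₀, u ≠ 1 → ∀ k ∈ K, u * k = k * u → k = 1

end Cfsg.Agent.Lib.Helper60.PF12G
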