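/-
helper60: project STEINBERG phase 3, module ST3-[SPLIT]: the splitting theorem.  A Steinberg model `Γ`, generated by its
root elements, perfect, with `Act` and `HAct`, over a field with more than four elements is centrally closed: for every
central extension `ψ : E →* Γ` there are elements `z r t ∈ E` over the root elements satisfying (R1) and (R2).
Assembly of the modules ST3-[...] (sheet `ST3_MODULES.md`).
-/
import Cfsg.Agent.Lib.Helper60.St3Defs
import Cfsg.Agent.Lib.Helper44.St3Field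
import Cfsg.Agent.Lib.Helper84.St3ScTor
import Cfsg.Agent.Lib.Helper44.St3Diag
import Cfsg.Agent.Lib.Helper44.St3MonoW
import Cfsg.Agent.Lib.Helper44.St3Z
import Cfsg.Agent.Lib.Helper44.St3WEq
import Cfsg.Agent.Lib.Helper46.St3Cent
import Cfsg.Agent.Lib.Helper46.St3CP
import Cfsg.Agent.Lib.Helper50.St3.WPos
import Cfsg.Agent.Lib.Helper50.St3.ScTop
import Cfsg.Agent.Lib.Helper50.St3.R2All
import Cfsg.Agent.Lib.Helper84.St3Sec

set_option autoImplicit false

namespace Cfsg.Agent.Lib.Helper60.St3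

open Cfsg.Lie Cfsg.Agent.Lib.Helper35.St

universe u v w

variable {D : ChevalleyDatum} {K : Type u} [Field K] {Γ : Type v} [Group Γ] {E : Type w} [Group E]

theorem zpow_ne_one_of {v : K} (hv1 : v ≠ 1) (hv2 : v ^ 2 ≠ 1) (hv3 : v ^ 3 ≠ 1) {n : ℤ}
    (hn : n = 1 ∨ n = 2 ∨ n = 3) : v ^ n ≠ 1 := by
  rcases hn with rfl | rfl | rfl
  · simpa using hv1
  · have : v ^ (2 : ℤ) = v ^ (2 : ℕ) := by norm_cast
    rw [this]; exact hv2
  · have : v ^ (3 : ℤ) = v ^ (3 : ℕ) := by norm_cast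
    rw [this]; exact hv3

theorem dSep_of_sep (M : Model D K Γ) (hsep : Sep D)
    (hdiag : ∀ (m : ℕ → ℤ) (v : K), v ≠ 0 → ∃ g : Γ, IsDiag M g (fun s => v ^ pair D m s))
    (v : K) (hv0 : v ≠ 0) (hv1 : v ≠ 1) (hv2 : v ^ 2 ≠ 1) (hv3 : v ^ 3 ≠ 1) : DSep M := by
  intro r s hr hs hsr hsn
  obtain ⟨m, hm0, hm⟩ := hsep r s hr hs hsr hsn
  obtain ⟨g, hg⟩ := hdiag m v hv0
  refine ⟨g, _, hg, ?_, ?_⟩
  · show v ^ pair D m r = 1
    rw [hm0, zpow_zero]
  · exact zpow_ne_one_of hv1 hv2 hv3 hm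

/-- The splitting theorem for a Steinberg model. -/
theorem exists_splitting (M : Model D K Γ) (tf : TF D) (hgen : M.Gen) (hA : M.Act) (hH : M.HAct)
    (hperf : commutator Γ = ⊤) (hK5 : ∃ s : Finset K, 4 < s.card)
    (hsep : Sep D) (hscc : SCCert D) (hidx : IdxLvl D) (hlt : TermLt D) (hwsym : WSym D) (hlong : Longest D)
    (htail : TailInj M)
    (ψ : E →* Γ) (hψ : Function.Surjective ψ) (hc : ψ.ker ≤ Subgroup.center E) :
    ∃ z : ℕ → K → E, (∀ s, s < D.nroots → ∀ t : K, ψ (z s t) = M.X s t) ∧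
      (∀ s, s < D.nroots → ∀ t u : K, z s t * z s u = z s (t + u)) ∧ R2E D K z := by
  obtain ⟨v, hv0, hv1, hv2, hv3⟩ := Cfsg.Agent.Lib.Helper44.St3.exists_unit3 hK5
  obtain ⟨v', hv'0, hv'1, hv'⟩ := Cfsg.Agent.Lib.Helper44.St3.exists_unit_sc hK5
  have hdiag := fun m v hv => Cfsg.Agent.Lib.Helper44.St3.exists_diag M hH m v hv
  have hds : DSep M := dSep_of_sep M hsep hdiag v hv0 hv1 hv2 hv3
  have hpc : PairComm M ψ := Cfsg.Agent.Lib.Helper46.St3.pairComm M ψ hψ hc hds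
  have hsc : SelfComm M ψ := by
    intro s hs a b
    rcases hscc s hs with ⟨m, hm⟩ | hcert
    · refine Cfsg.Agent.Lib.Helper84.St3.selfComm_of_full M ψ hψ hc s hs ?_ v' hv'0 hv'1 hv' a b
      intro x hx
      obtain ⟨g, hg⟩ := hdiag m x hx
      refine ⟨g, _, hg, ?_⟩
      show x ^ pair D m s = x
      rw [hm, zpow_one]
    · exact Cfsg.Agent.Lib.Helper50.St3.selfComm_of_topCert M ψ hψ hc hpc s hs hcert a b
  have hd : ∀ s, s < D.nroots → ∃ (g : Γ) (χ : ℕ → K), IsDiag M g χ ∧ χ s ≠ 1 := by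
    intro s hs
    rcases hscc s hs with ⟨m, hm⟩ | hcert
    · obtain ⟨g, hg⟩ := hdiag m v hv0
      refine ⟨g, _, hg, ?_⟩
      show v ^ pair D m s ≠ 1
      rw [hm, zpow_one]
      exact hv1
    · obtain ⟨r', s', l₁, l₂, C, j, hr', hs', -, -, -, -, hcp, -, -⟩ := hcert
      obtain ⟨g, χ, hg, -, hχ⟩ := hds r' s hr' hs (fun h => hcp.2.1 h.symm) (by
        intro h
        apply hcp.2.2.1
        rw [h, tf.neg_neg r' hr'])
      exact ⟨g, χ, hg, hχ⟩
  have hcent := fun e he => Cfsg.Agent.Lib.Helper46.St3.lift_mem_center ψ hψ hc hperf e he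
  obtain ⟨z, hz⟩ := Cfsg.Agent.Lib.Helper44.St3.exists_section M ψ hψ hc hgen hcent hsc hd
  have hinj : InjU D ψ z := Cfsg.Agent.Lib.Helper84.St3.injU M tf ψ hψ hc z hz hidx hds htail
  have hweq : WEq M ψ z := by
    intro ws hws e he s hs
    exact Cfsg.Agent.Lib.Helper44.St3.conj_section M ψ hψ z hz hd _ _ _
      (Cfsg.Agent.Lib.Helper44.St3.isMonoW_wordElt M tf hA ws hws) e he s hs
  refine ⟨z, hz.lift, hz.add, ?_⟩
  exact Cfsg.Agent.Lib.Helper50.St3.r2_all M tf ψ hψ z hz hidx hinj hweq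
    (fun r s hr hs hsr hsn => Cfsg.Agent.Lib.Helper50.St3.exists_word_pos tf hlong r s hr hs hsr hsn)
    (fun ws hws r s hr hs hsr hsn => Cfsg.Agent.Lib.Helper50.St3.wSym_word tf hwsym ws hws r s hr hs hsr hsn)
    hlt

end Cfsg.Agent.Lib.Helper60.St3
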