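/-
helper60: S3043-[F6a] `semi_inv` (project of helper90, sheet Lib/Helper90/TIInvSPINE.md).
-/
import Mathlib
import Cfsg.Agent.Lib.Helper90.TIInvDefs

set_option autoImplicit false

open Cfsg.Agent.Lib.Helper90.TIInv

namespace Cfsg.Agent.Lib.Helper60.TIInv

section basics

variable {G : Type*} [Group G] {M : Subgroup G} {z : G}

/-- membership in a conjugate. -/
theorem mem_cj_iff {g x : G} {K : Subgroup G} : x ∈ cj g K ↔ g⁻¹ * x * g ∈ K := by
  constructor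
  · rintro ⟨y, hy, rfl⟩
    have : g⁻¹ * ((MulAut.conj g).toMonoidHom y) * g = y := by
      simp [MulAut.conj_apply, mul_assoc]
    rw [this]; exact hy
  · intro hx
    refine ⟨g⁻¹ * x * g, hx, ?_⟩
    simp [MulAut.conj_apply, mul_assoc]

/-- `M ≤ N_G(M)`. -/
theorem M_le_Nm (M : Subgroup G) : M ≤ Nm M := Subgroup.le_normalizer

/-- `n ∈ N`, `a ∈ M` gives `n a n⁻¹ ∈ M`. -/
theorem conj_mem_of_mem_Nm {n a : G} (hn : n ∈ Nm M) (ha : a ∈ M) : n * a * n⁻¹ ∈ M :=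
  (Subgroup.mem_normalizer_iff.1 hn a).1 ha

/-- `n ∈ N`, `a ∈ M` gives `n⁻¹ a n ∈ M`. -/
theorem conj_mem_of_mem_Nm' {n a : G} (hn : n ∈ Nm M) (ha : a ∈ M) : n⁻¹ * a * n ∈ M :=
  (Subgroup.mem_normalizer_iff''.1 hn a).1 ha

/-- `cj u M = M` puts `u` in `N`. -/
theorem mem_Nm_of_cj_eq {u : G} (hu : cj u M = M) : u ∈ Nm M := by
  refine Subgroup.mem_normalizer_iff.2 fun x => ⟨fun hx => ?_, fun hx => ?_⟩
  · have : u * x * u⁻¹ ∈ cj u M := by
      rw [mem_cj_iff]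
      have : u⁻¹ * (u * x * u⁻¹) * u = x := by group
      rwa [this]
    rwa [hu] at this
  · rw [← hu, mem_cj_iff] at hx
    have e : u⁻¹ * (u * x * u⁻¹) * u = x := by group
    rwa [e] at hx

/-- an element of order two. -/
theorem mul_self_of_orderOf_two {u : G} (hu : orderOf u = 2) : u * u = 1 := by
  rw [← pow_two, ← hu, pow_orderOf_eq_one]

/-- an element of order two. -/
theorem inv_of_orderOf_two {u : G} (hu : orderOf u = 2) : u⁻¹ = u :=
  inv_eq_of_mul_eq_one_left (mul_self_of_orderOf_two hu)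

end basics

variable {G : Type*} [Group G] [Finite G] {M : Subgroup G} {z : G}

/-- [F6a] -/
theorem semi_inv (h : Hyp M z) (b : Basic M z) (i : InvN M z) (c : Cover M) :
    ∀ u : G, orderOf u = 2 → u ∉ Nm M → M ⊓ cj u (Nm M) = ⊥ := by
  intro u hu huN
  have huu : u * u = 1 := mul_self_of_orderOf_two hu
  have huinv : u⁻¹ = u := inv_of_orderOf_two hu
  rw [eq_bot_iff]
  rintro x ⟨hxM, hxc⟩
  rw [Subgroup.mem_bot]
  have hxM : x ∈ M := hxM
  -- `y = u x u ∈ N`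
  have hyN : u * x * u ∈ Nm M := by
    have := mem_cj_iff.1 hxc
    rwa [huinv] at this
  set y := u * x * u with hy
  have hxy : x = u * y * u := by
    rw [hy]
    calc x = (u * u) * x * (u * u) := by rw [huu]; simp
      _ = u * (u * x * u) * u := by group
  -- the involution `t`
  obtain ⟨a, ha, htc, htu⟩ := c u hu huN z h.zN
  set t := a * z with ht
  have ht2 : orderOf t = 2 := i.isInv a ha
  have htN : t ∈ Nm M := (Nm M).mul_mem (M_le_Nm M ha) h.zN
  have htt : t * t = 1 := mul_self_of_orderOf_two ht2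
  have htinv : t⁻¹ = t := inv_of_orderOf_two ht2
  have hut : u * t = t * u := by
    rw [htinv, huinv] at htu
    calc u * t = u * t * (u * u) := by rw [huu, mul_one]
      _ = (u * t * u) * u := by group
      _ = t * u := by rw [htu]
  have htx : t * x * t = x⁻¹ := by
    have := i.invM t htN ht2 x hxM
    rwa [htinv] at this
  have hty : t * y * t = y⁻¹ := by
    calc t * y * t = t * u * x * (u * t) := by rw [hy]; group
      _ = u * t * x * (t * u) := by rw [hut]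
      _ = u * (t * x * t) * u := by group
      _ = u * x⁻¹ * u := by rw [htx]
      _ = y⁻¹ := by
        rw [hy, mul_inv_rev, mul_inv_rev, huinv, mul_assoc]
  -- decompose `y = a' k`
  obtain ⟨a', ha', k, hk, hyk⟩ := b.mulH y hyN
  have hkN : k ∈ Nm M := hk.1
  have hkz : z * k = k * z :=
    Subgroup.mem_centralizer_iff.1 hk.2 z (Set.mem_singleton z)
  have hzz : z * z = 1 := mul_self_of_orderOf_two h.hz
  have hbot : ∀ g : G, g ∈ M → g ∈ Hz M z → g = 1 := by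
    intro g hg1 hg2
    have : g ∈ M ⊓ Hz M z := ⟨hg1, hg2⟩
    rw [b.MH] at this
    exact Subgroup.mem_bot.1 this
  -- the quotient `N / M`
  have hnorm : (M.subgroupOf (Nm M)).Normal := Subgroup.normal_in_normalizer
  set π := QuotientGroup.mk' (M.subgroupOf (Nm M)) with hπdef
  have hπ : ∀ g : Nm M, π g = 1 ↔ (g : G) ∈ M := fun g => by
    rw [hπdef, QuotientGroup.mk'_apply, QuotientGroup.eq_one_iff, Subgroup.mem_subgroupOf]
  have e1 : π ⟨t, htN⟩ = π ⟨z, h.zN⟩ := by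
    have : (⟨t, htN⟩ : Nm M) = ⟨a, M_le_Nm M ha⟩ * ⟨z, h.zN⟩ := Subtype.ext ht
    rw [this, map_mul, (hπ ⟨a, M_le_Nm M ha⟩).2 ha, one_mul]
  have e2 : π ⟨y, hyN⟩ = π ⟨k, hkN⟩ := by
    have : (⟨y, hyN⟩ : Nm M) = ⟨a', M_le_Nm M ha'⟩ * ⟨k, hkN⟩ := Subtype.ext hyk
    rw [this, map_mul, (hπ ⟨a', M_le_Nm M ha'⟩).2 ha', one_mul]
  have e3 : π ⟨t, htN⟩ * π ⟨y, hyN⟩ * π ⟨t, htN⟩ = (π ⟨y, hyN⟩)⁻¹ := by
    rw [← map_mul, ← map_mul, ← map_inv]
    exact congrArg π (Subtype.ext hty)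
  have e4 : π ⟨z, h.zN⟩ * π ⟨k, hkN⟩ * π ⟨z, h.zN⟩ = π ⟨k, hkN⟩ := by
    rw [← map_mul, ← map_mul]
    refine congrArg π (Subtype.ext ?_)
    change z * k * z = k
    rw [hkz, mul_assoc, hzz, mul_one]
  have e5 : π ⟨k, hkN⟩ * π ⟨k, hkN⟩ = 1 := by
    rw [e1, e2, e4] at e3
    calc π ⟨k, hkN⟩ * π ⟨k, hkN⟩ = π ⟨k, hkN⟩ * (π ⟨k, hkN⟩)⁻¹ := by rw [← e3]
      _ = 1 := mul_inv_cancel _
  -- `y ^ |M| = 1`
  have hxr : x ^ Nat.card M = 1 := by
    have : (⟨x, hxM⟩ : M) ^ Nat.card M = 1 := pow_card_eq_one'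
    exact congrArg Subtype.val this
  have hyr : y ^ Nat.card M = 1 := by
    have : y = u * x * u⁻¹ := by rw [hy, huinv]
    rw [this, conj_pow, hxr]; group
  have e6 : π ⟨k, hkN⟩ ^ Nat.card M = 1 := by
    rw [← e2, ← map_pow]
    have : (⟨y, hyN⟩ : Nm M) ^ Nat.card M = 1 := Subtype.ext (by simpa using hyr)
    rw [this, map_one]
  have e7 : π ⟨k, hkN⟩ = 1 := by
    obtain ⟨j, hj⟩ := b.oddM
    rw [hj, pow_succ, pow_mul, pow_two, e5, one_pow, one_mul] at e6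
    exact e6
  have hk1 : k = 1 := hbot k ((hπ _).1 e7) hk
  -- so `y ∈ M ⊓ cj u M`
  have hyM : y ∈ M := by rw [hyk, hk1, mul_one]; exact ha'
  have hycj : y ∈ cj u M := by
    rw [mem_cj_iff, huinv, ← hxy]; exact hxM
  have hy1 : y = 1 := by
    by_contra hne
    apply huN
    apply mem_Nm_of_cj_eq
    apply h.ti u
    intro hbot'
    have : y ∈ M ⊓ cj u M := ⟨hyM, hycj⟩
    rw [hbot'] at this
    exact hne (Subgroup.mem_bot.1 this)
  rw [hxy, hy1, mul_one, huu]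

end Cfsg.Agent.Lib.Helper60.TIInv
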