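/-
helper60: S3043 (project of helper90): the action of `G` on `G ⧸ N`, `N = N_G(M)`; the conjugates of
`M` as point groups; module S3043-[A1t] `twoTrans`.
-/
import Mathlib
import Cfsg.Agent.Lib.Helper90.TIInvDefs
import Cfsg.Agent.Lib.Helper60.TIInvF6a

set_option autoImplicit false

open Cfsg.Agent.Lib.Helper90.TIInv

namespace Cfsg.Agent.Lib.Helper60.TIInv

section act

variable {G : Type*} [Group G] {M : Subgroup G} {z : G}

/-- `g • g₁N = g₂N` iff `(g g₁)⁻¹ g₂ ∈ N`. -/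
theorem smul_coset_eq_iff {K : Subgroup G} {g g₁ g₂ : G} :
    g • (g₁ : G ⧸ K) = (g₂ : G ⧸ K) ↔ (g * g₁)⁻¹ * g₂ ∈ K := by
  rw [MulAction.Quotient.smul_coe, smul_eq_mul, QuotientGroup.eq]

/-- `g₁N = g₂N` iff `g₁⁻¹ g₂ ∈ N`. -/
theorem coset_eq_iff {K : Subgroup G} {g₁ g₂ : G} :
    (g₁ : G ⧸ K) = (g₂ : G ⧸ K) ↔ g₁⁻¹ * g₂ ∈ K := QuotientGroup.eq

/-- `g` fixes `g₁ N` iff `g ∈ cj g₁ N`. -/
theorem smul_coset_self_iff {K : Subgroup G} {g g₁ : G} :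
    g • (g₁ : G ⧸ K) = (g₁ : G ⧸ K) ↔ g ∈ cj g₁ K := by
  rw [smul_coset_eq_iff, mem_cj_iff, ← inv_mem_iff (H := K)]
  have : ((g * g₁)⁻¹ * g₁)⁻¹ = g₁⁻¹ * g * g₁ := by group
  rw [this]

/-- `g` fixes the base point iff `g ∈ N`. -/
theorem smul_one_coset_iff {K : Subgroup G} {g : G} :
    g • ((1 : G) : G ⧸ K) = ((1 : G) : G ⧸ K) ↔ g ∈ K := by
  rw [smul_coset_eq_iff, mul_one, mul_one, inv_mem_iff]

/-- the point group `cj g M` fixes `gN`. -/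
theorem cjM_fix (g : G) : ∀ t ∈ cj g M, t • (g : G ⧸ Nm M) = (g : G ⧸ Nm M) := by
  intro t ht
  rw [smul_coset_self_iff, mem_cj_iff]
  exact M_le_Nm M (mem_cj_iff.1 ht)

/-- the stabilizer of `gN` normalizes `cj g M`. -/
theorem cjM_norm (g k : G) (hk : k • (g : G ⧸ Nm M) = (g : G ⧸ Nm M)) :
    ∀ t ∈ cj g M, k * t * k⁻¹ ∈ cj g M := by
  intro t ht
  rw [smul_coset_self_iff, mem_cj_iff] at hk
  rw [mem_cj_iff] at ht ⊢
  have := conj_mem_of_mem_Nm hk ht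
  have e : g⁻¹ * (k * t * k⁻¹) * g = g⁻¹ * k * g * (g⁻¹ * t * g) * (g⁻¹ * k * g)⁻¹ := by group
  rw [e]; exact this

/-- the point group `cj g M` is transitive off `gN`. -/
theorem cjM_trans (r : Reg M) (g : G) : ∀ ω₁ ω₂ : G ⧸ Nm M, ω₁ ≠ (g : G ⧸ Nm M) →
    ω₂ ≠ (g : G ⧸ Nm M) → ∃ s ∈ cj g M, s • ω₁ = ω₂ := by
  intro ω₁ ω₂
  induction ω₁ using QuotientGroup.induction_on with | H g₁ => ?_
  induction ω₂ using QuotientGroup.induction_on with | H g₂ => ?_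
  intro h1 h2
  have h1' : g⁻¹ * g₁ ∉ Nm M := fun hh => h1 (coset_eq_iff.2 hh).symm
  have h2' : g⁻¹ * g₂ ∉ Nm M := fun hh => h2 (coset_eq_iff.2 hh).symm
  obtain ⟨a, ha, haN⟩ := r _ _ h1' h2'
  refine ⟨g * a * g⁻¹, ?_, ?_⟩
  · rw [mem_cj_iff]
    have : g⁻¹ * (g * a * g⁻¹) * g = a := by group
    rwa [this]
  · rw [smul_coset_eq_iff]
    have : (g * a * g⁻¹ * g₁)⁻¹ * g₂ = (a * (g⁻¹ * g₁))⁻¹ * (g⁻¹ * g₂) := by group
    rwa [this]

/-- the point group `cj g M` is semiregular off `gN`. -/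
theorem cjM_semireg (s : Semi M) (g : G) : ∀ t ∈ cj g M, ∀ ω : G ⧸ Nm M,
    ω ≠ (g : G ⧸ Nm M) → t • ω = ω → t = 1 := by
  intro t ht ω
  induction ω using QuotientGroup.induction_on with | H g₁ => ?_
  intro h1 hfix
  have h1' : g⁻¹ * g₁ ∉ Nm M := fun hh => h1 (coset_eq_iff.2 hh).symm
  rw [smul_coset_self_iff, mem_cj_iff] at hfix
  rw [mem_cj_iff] at ht
  have hmem : g⁻¹ * t * g ∈ M ⊓ cj (g⁻¹ * g₁) (Nm M) := by
    refine Subgroup.mem_inf.2 ⟨ht, mem_cj_iff.2 ?_⟩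
    have : (g⁻¹ * g₁)⁻¹ * (g⁻¹ * t * g) * (g⁻¹ * g₁) = g₁⁻¹ * t * g₁ := by group
    rwa [this]
  rw [s _ h1', Subgroup.mem_bot] at hmem
  calc t = g * (g⁻¹ * t * g) * g⁻¹ := by group
    _ = 1 := by rw [hmem]; group

/-- the abstract swap lemma: three fixed points of `k`, two regular point groups. -/
theorem exists_swap {Ω : Type*} [MulAction G Ω] {α β γ : Ω} {k : G} (Mγ Mβ : Subgroup G)
    (hαβ : α ≠ β) (hαγ : α ≠ γ) (hβγ : β ≠ γ)
    (kα : k • α = α) (kβ : k • β = β)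
    (normγ : ∀ s ∈ Mγ, k * s * k⁻¹ ∈ Mγ)
    (trγ : ∀ ω₁ ω₂ : Ω, ω₁ ≠ γ → ω₂ ≠ γ → ∃ s ∈ Mγ, s • ω₁ = ω₂)
    (srγ : ∀ s ∈ Mγ, ∀ ω : Ω, ω ≠ γ → s • ω = ω → s = 1)
    (fixβ : ∀ s ∈ Mβ, s • β = β) (normβ : ∀ s ∈ Mβ, k * s * k⁻¹ ∈ Mβ)
    (trβ : ∀ ω₁ ω₂ : Ω, ω₁ ≠ β → ω₂ ≠ β → ∃ s ∈ Mβ, s • ω₁ = ω₂)
    (srβ : ∀ s ∈ Mβ, ∀ ω : Ω, ω ≠ β → s • ω = ω → s = 1) :
    ∃ g : G, g * k = k * g ∧ g • α = β ∧ g • β = α := by
  have kα' : k⁻¹ • α = α := by rw [inv_smul_eq_iff, kα]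
  obtain ⟨s, hs, hsα⟩ := trγ α β hαγ hβγ
  have hsα' : s⁻¹ • β = α := by rw [inv_smul_eq_iff, hsα]
  have hsk : s * k = k * s := by
    have h1 : s⁻¹ * (k * s * k⁻¹) = 1 := by
      apply srγ _ (Mγ.mul_mem (Mγ.inv_mem hs) (normγ s hs)) α hαγ
      rw [mul_smul, mul_smul, mul_smul, kα', hsα, kβ, hsα']
    have h2 : k * s * k⁻¹ = s := by
      calc k * s * k⁻¹ = s * (s⁻¹ * (k * s * k⁻¹)) := by group
        _ = s := by rw [h1, mul_one]
    calc s * k = (k * s * k⁻¹) * k := by rw [h2]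
      _ = k * s := by group
  have hδβ : s • β ≠ β := by
    intro hh
    have : s = 1 := srγ s hs β hβγ hh
    rw [this, one_smul] at hsα
    exact hαβ hsα
  have kδ : k • s • β = s • β := by
    rw [← mul_smul, ← hsk, mul_smul, kβ]
  by_cases hδα : s • β = α
  · exact ⟨s, hsk, hsα, hδα⟩
  · obtain ⟨r', hr', hr'δ⟩ := trβ (s • β) α hδβ hαβ
    have hr'δ' : r'⁻¹ • α = s • β := by rw [inv_smul_eq_iff, hr'δ]
    have kδ' : k⁻¹ • s • β = s • β := by rw [inv_smul_eq_iff, kδ]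
    have hrk : r' * k = k * r' := by
      have h1 : r'⁻¹ * (k * r' * k⁻¹) = 1 := by
        apply srβ _ (Mβ.mul_mem (Mβ.inv_mem hr') (normβ r' hr')) (s • β) hδβ
        rw [mul_smul, mul_smul, mul_smul, kδ', hr'δ, kα, hr'δ']
      have h2 : k * r' * k⁻¹ = r' := by
        calc k * r' * k⁻¹ = r' * (r'⁻¹ * (k * r' * k⁻¹)) := by group
          _ = r' := by rw [h1, mul_one]
      calc r' * k = (k * r' * k⁻¹) * k := by rw [h2]
        _ = k * r' := by group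
    refine ⟨r' * s, ?_, ?_, ?_⟩
    · calc r' * s * k = r' * (s * k) := by group
        _ = r' * (k * s) := by rw [hsk]
        _ = (r' * k) * s := by group
        _ = k * r' * s := by rw [hrk]
        _ = k * (r' * s) := by group
    · rw [mul_smul, hsα, fixβ r' hr']
    · rw [mul_smul, hr'δ]

end act

variable {G : Type*} [Group G] [Finite G] {M : Subgroup G} {z : G}

/-- [A1t] -/
theorem twoTrans (_h : Hyp M z) (r : Reg M) :
    MulAction.IsMultiplyPretransitive G (G ⧸ Nm M) 2 := by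
  rw [MulAction.is_two_pretransitive_iff]
  intro a b c d
  induction a using QuotientGroup.induction_on with | H ga => ?_
  induction b using QuotientGroup.induction_on with | H gb => ?_
  induction c using QuotientGroup.induction_on with | H gc => ?_
  induction d using QuotientGroup.induction_on with | H gd => ?_
  intro hab hcd
  have h1 : ga⁻¹ * gb ∉ Nm M := fun hh => hab (coset_eq_iff.2 hh)
  have h2 : gc⁻¹ * gd ∉ Nm M := fun hh => hcd (coset_eq_iff.2 hh)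
  obtain ⟨a, ha, haN⟩ := r _ _ h1 h2
  refine ⟨gc * a * ga⁻¹, ?_, ?_⟩
  · rw [smul_coset_eq_iff]
    have : (gc * a * ga⁻¹ * ga)⁻¹ * gc = a⁻¹ := by group
    rw [this]
    exact (Nm M).inv_mem (M_le_Nm M ha)
  · rw [smul_coset_eq_iff]
    have : (gc * a * ga⁻¹ * gb)⁻¹ * gd = (a * (ga⁻¹ * gb))⁻¹ * (gc⁻¹ * gd) := by group
    rwa [this]

end Cfsg.Agent.Lib.Helper60.TIInv
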