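import Mathlib
import Cfsg.Agent.Lib.Helper60.PFTwelveG1
import Cfsg.Agent.Lib.Helper54.PF12GOrb
import Cfsg.Agent.Lib.Helper54.PF12GBad
import Cfsg.Agent.Lib.Helper34.PF12GSyl
import Cfsg.Agent.Lib.Helper34.PF12GComm
import Cfsg.Agent.Lib.Helper62.PF12GFix
import Cfsg.Agent.Lib.Helper62.PF12GFw
import Cfsg.Agent.Lib.Helper62.PF12GSylc
import Cfsg.Agent.Lib.Helper51.PF12GTsub
import Cfsg.Agent.Lib.Helper51.PF12GCoset
import Cfsg.Agent.Lib.Helper51.PF12GIdx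

/-!
# Peterfalvi (12.8)-(12.10), group part: the abstract modules (helper60)

The modules were formalized by helper54, helper38, helper34, helper50, helper46, helper62, helper51;
this file collects them under one namespace.
-/

set_option autoImplicit false

namespace Cfsg.Agent.Lib.Helper60.PF12G

open Cfsg

variable {G : Type*} [Group G]

/-- **[ORB]** A subgroup `E` normalizing `V` and acting on it without fixed points has order dividing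
`|V| - 1`. -/
theorem card_dvd_card_sub_one_of_fpf [Finite G] (E V : Subgroup G)
    (hEV : ∀ e ∈ E, ∀ v ∈ V, e * v * e⁻¹ ∈ V)
    (hfpf : ∀ e ∈ E, e ≠ 1 → ∀ v ∈ V, e * v = v * e → v = 1) :
    Nat.card E ∣ Nat.card V - 1 :=
  Cfsg.Agent.Lib.Helper54.card_dvd_card_sub_one_of_fpf E V hEV hfpf

/-- **[U0Q]** every prime divisor of `|U|` is the order of an element of `U₀`. -/
theorem exists_mem_U₀_orderOf [Finite G] {M K U U₁ U₀ : Subgroup G} (hD : FData M K U U₁ U₀)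
    {q : ℕ} (hq : q.Prime) (hqU : q ∣ Nat.card U) : ∃ u₀ ∈ U₀, orderOf u₀ = q :=
  Cfsg.Agent.Lib.Helper54.exists_mem_U₀_orderOf hD hq hqU

/-- **[BAD]** If `M` (of Frobenius type, data `hD`) is not a Frobenius group with kernel `K`, there are a
prime `q ∤ |K|`, an element `u ∈ U` of order `q` centralizing a non-identity element of `K`, and an
element `u₀ ∈ U₀` of order `q`. -/
theorem exists_elts_of_not_frob [Finite G] {M K U U₁ U₀ : Subgroup G} (hD : FData M K U U₁ U₀)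
    {g h : G} (hg : g ∈ M) (hgK : g ∉ K) (hh : h ∈ K) (hh1 : h ≠ 1) (hgh : g * h = h * g) :
    ∃ q : ℕ, q.Prime ∧ ¬ q ∣ Nat.card K ∧
      ∃ u ∈ U, orderOf u = q ∧ (∃ k ∈ K, k ≠ 1 ∧ u * k = k * u) ∧ ∃ u₀ ∈ U₀, orderOf u₀ = q :=
  Cfsg.Agent.Lib.Helper54.exists_elts_of_not_frob hD hg hgK hh hh1 hgh

/-- **[RK2]** With abelian Sylow `q`-subgroups of `U`: two elements of order `q` of `U`, one with and one
without fixed points on `K`, give an elementary abelian subgroup of order `q²` of `U`. -/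
theorem exists_rank_two [Finite G] {M K U U₁ U₀ : Subgroup G} (hD : FData M K U U₁ U₀)
    {q : ℕ} (hq : q.Prime) (hSyl : ∀ P : Sylow q U, IsMulCommutative (P : Subgroup U))
    {u u₀ : G} (hu : u ∈ U) (huo : orderOf u = q) (huk : ∃ k ∈ K, k ≠ 1 ∧ u * k = k * u)
    (hu₀ : u₀ ∈ U₀) (hu₀o : orderOf u₀ = q) :
    ∃ A : Subgroup G, A ≤ U ∧ Nat.card A = q ^ 2 ∧ (∀ a ∈ A, ∀ b ∈ A, a * b = b * a) ∧
      ∀ a ∈ A, a ^ q = 1 :=
  Cfsg.Agent.Lib.Helper54.exists_rank_two hD hq hSyl hu huo huk hu₀ hu₀o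

/-- **[SYLC]** (Peterfalvi (12.9), Sylow part.)  `M` of Frobenius type with data `hD`, `p ∤ |K|` a prime
for which the Sylow `p`-subgroups of every complement `E` of `K` in `M` are abelian of rank at most 2,
and `A₀ ≤ M` elementary abelian of order `p²`.  Then there are a complement `E` and a Sylow
`p`-subgroup `P₀` of `M` with `A₀ ≤ P₀ ≤ E`, `P₀` abelian, `A₀ = Ω₁(P₀)`, and some `y₀ ∈ A₀^#` has no fixed
point on `K`. -/
theorem exists_sylow_cfg [Finite G] {M K U U₁ U₀ : Subgroup G} (hD : FData M K U U₁ U₀)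
    {p : ℕ} (hp : p.Prime) (hpK : ¬ p ∣ Nat.card K)
    (hSyl : ∀ E : Subgroup G, IsComplIn K E M → ∀ P : Sylow p E,
      IsMulCommutative (P : Subgroup E) ∧ PRankLE p 2 (P : Subgroup E))
    {A₀ : Subgroup G} (hA₀M : A₀ ≤ M) (hA₀c : Nat.card A₀ = p ^ 2)
    (hA₀comm : ∀ a ∈ A₀, ∀ b ∈ A₀, a * b = b * a) (hA₀exp : ∀ a ∈ A₀, a ^ p = 1) :
    ∃ (E P₀ : Subgroup G) (y₀ : G),
      IsComplIn K E M ∧ P₀ ≤ E ∧ IsPGroup p P₀ ∧
      (∀ Q : Subgroup G, Q ≤ M → IsPGroup p Q → P₀ ≤ Q → Q = P₀) ∧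
      (∀ a ∈ P₀, ∀ b ∈ P₀, a * b = b * a) ∧
      A₀ ≤ P₀ ∧ (∀ a ∈ P₀, a ^ p = 1 → a ∈ A₀) ∧
      y₀ ∈ A₀ ∧ y₀ ≠ 1 ∧ (∀ k ∈ K, y₀ * k = k * y₀ → k = 1) :=
  Cfsg.Agent.Lib.Helper62.PF12G.exists_sylow_cfg hD hp hpK hSyl hA₀M hA₀c hA₀comm hA₀exp

/-- **[FIX]** An elementary abelian group `A` of order `p²` acting coprimely on a nilpotent group
`K ≠ 1`: some `x ∈ A^#` has `C_K(x) ⊄ K'`. -/
theorem exists_cent_not_le_commutator [Finite G] (A K : Subgroup G) (p : ℕ) (hp : p.Prime)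
    (hAc : Nat.card A = p ^ 2) (hAcomm : ∀ a ∈ A, ∀ b ∈ A, a * b = b * a)
    (hAexp : ∀ a ∈ A, a ^ p = 1) (hAK : ∀ a ∈ A, ∀ k ∈ K, a * k * a⁻¹ ∈ K)
    (hcop : ¬ p ∣ Nat.card K) (hnil : Group.IsNilpotent K) (hK : K ≠ ⊥) :
    ∃ x ∈ A, x ≠ 1 ∧ ¬ (K ⊓ Subgroup.centralizer ({x} : Set G) ≤ ⁅K, K⁆) :=
  Cfsg.Agent.Lib.Helper62.PF12G.exists_cent_not_le_commutator A K p hp hAc hAcomm hAexp hAK hcop hnil hK

/-- **[TSUB]** The subgroup `T = K'[K, x]`: `K / T` is abelian, centralized by `x`, and of order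
`≡ 1 mod p`, at least `2p + 1`. -/
theorem exists_T [Finite G] (K : Subgroup G) (x y₀ : G) (p : ℕ) (hp : p.Prime) (hp2 : Odd p)
    (hodd : Odd (Nat.card K)) (hcop : ¬ p ∣ Nat.card K)
    (hxp : x ^ p = 1) (hy₀p : y₀ ^ p = 1) (hy₀1 : y₀ ≠ 1) (hxy : x * y₀ = y₀ * x)
    (hxK : ∀ k ∈ K, x * k * x⁻¹ ∈ K) (hyK : ∀ k ∈ K, y₀ * k * y₀⁻¹ ∈ K)
    (hfpf : ∀ k ∈ K, y₀ * k = k * y₀ → k = 1)
    (hx : ¬ (K ⊓ Subgroup.centralizer ({x} : Set G) ≤ ⁅K, K⁆)) :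
    ∃ T : Subgroup G, T ≤ K ∧ (∀ k ∈ K, ∀ t ∈ T, k * t * k⁻¹ ∈ T) ∧
      (∀ k₁ ∈ K, ∀ k₂ ∈ K, k₁ * k₂ * k₁⁻¹ * k₂⁻¹ ∈ T) ∧ (∀ k ∈ K, x * k * x⁻¹ * k⁻¹ ∈ T) ∧
      2 * p + 1 ≤ T.relIndex K :=
  Cfsg.Agent.Lib.Helper51.PF12G.exists_T K x y₀ p hp hp2 hodd hcop hxp hy₀p hy₀1 hxy hxK hyK hfpf hx

/-- **[COMM]** Two elements of a complement `E` of `K` in `M`, each centralizing a non-identity element
of `K`, commute (they lie in the conjugate of the abelian subgroup `U₁`). -/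
theorem commute_of_fix [Finite G] {M K U U₁ U₀ : Subgroup G} (hD : FData M K U U₁ U₀)
    {E : Subgroup G} (hE : IsComplIn K E M) {a b : G} (ha : a ∈ E) (hb : b ∈ E)
    (hak : ∃ k ∈ K, k ≠ 1 ∧ a * k = k * a) (hbk : ∃ k ∈ K, k ≠ 1 ∧ b * k = k * b) :
    a * b = b * a :=
  Cfsg.Agent.Lib.Helper34.PF12G.commute_of_fix hD hE ha hb hak hbk

/-- **[FW]** (Frobenius-Wielandt, from S1545.)  `A` normalized by `d` of prime order
`s`, `d` without fixed points on `A`; `A` and `d` normalize the solvable group `K` of order prime to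
`|A| s`; `C_K(A) = 1` and `K ≠ 1`.  Then `d` centralizes a non-identity element of `K`. -/
theorem exists_fix_of_frobenius_action [Finite G] (A K : Subgroup G) (d : G)
    (hA1 : A ≠ ⊥) (hd : (orderOf d).Prime)
    (hdA : ∀ a ∈ A, d * a * d⁻¹ ∈ A) (hfpf : ∀ a ∈ A, d * a = a * d → a = 1)
    (hAK : ∀ a ∈ A, ∀ k ∈ K, a * k * a⁻¹ ∈ K) (hdK : ∀ k ∈ K, d * k * d⁻¹ ∈ K)
    (hcopA : (Nat.card K).Coprime (Nat.card A)) (hcopd : (Nat.card K).Coprime (orderOf d))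
    (hcopAd : (Nat.card A).Coprime (orderOf d))
    (hsolv : Group.IsSolvable K) (hK1 : K ≠ ⊥)
    (hCA : ∀ k ∈ K, (∀ a ∈ A, a * k = k * a) → k = 1) :
    ∃ k ∈ K, k ≠ 1 ∧ d * k = k * d :=
  Cfsg.Agent.Lib.Helper62.PF12G.exists_fix_of_frobenius_action A K d hA1 hd hdA hfpf hAK hdK hcopA hcopd hcopAd hsolv hK1 hCA

/-- **[SYLN]** The unique Sylow `p`-subgroup of a nilpotent subgroup `H` normalized by `L`. -/
theorem exists_sylow_of_nilpotent [Finite G] (p : ℕ) [Fact p.Prime] (L H : Subgroup G)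
    (hnil : Group.IsNilpotent H) (hLH : ∀ l ∈ L, ∀ h ∈ H, l * h * l⁻¹ ∈ H) :
    ∃ S : Subgroup G, S ≤ H ∧ IsPGroup p S ∧ (∀ Q : Subgroup G, Q ≤ H → IsPGroup p Q → Q ≤ S) ∧
      ∀ l ∈ L, ∀ s ∈ S, l * s * l⁻¹ ∈ S :=
  Cfsg.Agent.Lib.Helper34.PF12G.exists_sylow_of_nilpotent p L H hnil hLH

/-- **[SYLG]** A Sylow `p`-subgroup `S₀` of a subgroup `L₀` whose normalizer in `G` lies in `L₀` is a
Sylow `p`-subgroup of `G`: every `p`-subgroup of `G` is conjugate into it. -/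
theorem exists_conj_le_of_normalizer_le [Finite G] (p : ℕ) [Fact p.Prime] (L₀ S₀ : Subgroup G)
    (hS₀L : S₀ ≤ L₀) (hS₀p : IsPGroup p S₀)
    (hmax : ∀ Q : Subgroup G, Q ≤ L₀ → IsPGroup p Q → S₀ ≤ Q → Q = S₀)
    (hN : Subgroup.normalizer (S₀ : Set G) ≤ L₀)
    (P : Subgroup G) (hP : IsPGroup p P) :
    ∃ g : G, ∀ x ∈ P, g * x * g⁻¹ ∈ S₀ :=
  Cfsg.Agent.Lib.Helper34.PF12G.exists_conj_le_of_normalizer_le p L₀ S₀ hS₀L hS₀p hmax hN P hP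

/-- **[PRM]** In a subgroup `L` with normal Hall subgroup `H`, an element outside `H` has a power of prime
order `s ∤ |H|`. -/
theorem exists_pow_prime_order [Finite G] (L H : Subgroup G) (hHL : H ≤ L)
    (hLH : ∀ l ∈ L, ∀ h ∈ H, l * h * l⁻¹ ∈ H) (hcop : (Nat.card H).Coprime (H.relIndex L))
    {d : G} (hd : d ∈ L) (hdH : d ∉ H) :
    ∃ n : ℕ, (orderOf (d ^ n)).Prime ∧ ¬ orderOf (d ^ n) ∣ Nat.card H :=
  Cfsg.Agent.Lib.Helper54.exists_pow_prime_order L H hHL hLH hcop hd hdH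

/-- **[HALLN]** A normal subgroup `N` of `L` of index prime to `p` contains every `p`-subgroup of `L`. -/
theorem le_of_isPGroup_of_not_dvd_relIndex [Finite G] (p : ℕ) (hp : p.Prime) (L N P : Subgroup G)
    (hNL : N ≤ L) (hLN : ∀ l ∈ L, ∀ n ∈ N, l * n * l⁻¹ ∈ N) (hidx : ¬ p ∣ N.relIndex L)
    (hPL : P ≤ L) (hP : IsPGroup p P) : P ≤ N :=
  Cfsg.Agent.Lib.Helper34.PF12G.le_of_isPGroup_of_not_dvd_relIndex p hp L N P hNL hLN hidx hPL hP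

/-- **[OMZ]** `Ω₁(Z(O_p(H)))` for a nilpotent subgroup `H` of order divisible by `p`: a non-identity
central subgroup of exponent `p`, invariant under everything that normalizes `H`. -/
theorem exists_omega_center [Finite G] (p : ℕ) (hp : p.Prime) (H : Subgroup G)
    (hnil : Group.IsNilpotent H) (hpH : p ∣ Nat.card H) :
    ∃ V : Subgroup G, V ≤ H ∧ V ≠ ⊥ ∧ (∀ v ∈ V, v ^ p = 1) ∧ (∀ v ∈ V, ∀ h ∈ H, v * h = h * v) ∧
      ∀ g : G, (∀ h ∈ H, g * h * g⁻¹ ∈ H) → ∀ v ∈ V, g * v * g⁻¹ ∈ V :=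
  Cfsg.Agent.Lib.Helper34.PF12G.exists_omega_center p hp H hnil hpH

/-- **[FRL]** In a group `L` of Frobenius type a normal subgroup `V ≤ H` of order `p` or `p²` forces every
prime divisor of `|L : H|` to be at most `p + 1`; so no prime `q > p` divides `|U|` (all orders odd). -/
theorem not_dvd_card_of_lt [Finite G] {L H U U₁ U₀ : Subgroup G} (hD : FData L H U U₁ U₀)
    {p q : ℕ} (hp : p.Prime) (hq : q.Prime) (hpq : p < q) (hqU : q ∣ Nat.card U)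
    (V : Subgroup G) (hVH : V ≤ H) (hV1 : V ≠ ⊥) (hVn : ∀ l ∈ L, ∀ v ∈ V, l * v * l⁻¹ ∈ V)
    (hVc : Nat.card V ∣ p ^ 2) : False :=
  Cfsg.Agent.Lib.Helper54.not_dvd_card_of_lt hD hp hq hpq hqU V hVH hV1 hVn hVc

/-- **[COSET]** The coset `x^i K`, `p ∤ i`, for `x` of prime order `p ∤ |K|` with `C_G(x) ≤ M` and
`C_K(x) ≠ 1`: every element has its centralizer in `M` and centralizes a non-identity element of `K`. -/
theorem coset_facts [Finite G] (M K : Subgroup G) (x : G) (p : ℕ) (hp : p.Prime) (hKM : K ≤ M)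
    (hKn : ∀ m ∈ M, ∀ k ∈ K, m * k * m⁻¹ ∈ K) (hnil : Group.IsNilpotent K) (hxM : x ∈ M)
    (hxo : orderOf x = p) (hcop : ¬ p ∣ Nat.card K)
    (hcent : Subgroup.centralizer ({x} : Set G) ≤ M)
    (hfix : K ⊓ Subgroup.centralizer ({x} : Set G) ≠ ⊥) (i : ℕ) (hi : ¬ p ∣ i) (h : G) (hh : h ∈ K) :
    Subgroup.centralizer ({x ^ i * h} : Set G) ≤ M ∧ x ^ i * h ≠ 1 ∧
      ∃ k ∈ K, k ≠ 1 ∧ (x ^ i * h) * k = k * (x ^ i * h) :=
  Cfsg.Agent.Lib.Helper51.PF12G.coset_facts M K x p hp hKM hKn hnil hxM hxo hcop hcent hfix i hi h hh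

/-- **[IDX]** (Peterfalvi (12.10), the bound on `e`.)  `L = H ⋊ E` a Frobenius group of odd order,
`A ≤ H` of order `p²`, `V ≤ A` a non-identity normal subgroup of `L`, `x ∈ A^#` of order `p` with
`N_G(⟨x⟩) ≤ M` and `M ∩ L ≤ H`.  Then `e = |E|` divides `p² - 1` and `e + 2 ≤ p`. -/
theorem index_bound_abstract [Finite G] (L H E A V M : Subgroup G) (x : G) (p : ℕ) (hp : p.Prime)
    (hodd : Odd (Nat.card L)) (hcompl : IsComplIn H E L)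
    (hfpf : ∀ u ∈ E, u ≠ 1 → ∀ h ∈ H, u * h = h * u → h = 1)
    (hAH : A ≤ H) (hAc : Nat.card A = p ^ 2)
    (hVA : V ≤ A) (hV1 : V ≠ ⊥) (hVn : ∀ l ∈ L, ∀ v ∈ V, l * v * l⁻¹ ∈ V)
    (hx : x ∈ A) (hx1 : x ≠ 1) (hxp : x ^ p = 1)
    (hN : ∀ g : G, g * x * g⁻¹ ∈ Subgroup.zpowers x → g ∈ M)
    (hML : M ⊓ L ≤ H) :
    Nat.card E ∣ p ^ 2 - 1 ∧ Nat.card E + 2 ≤ p :=
  Cfsg.Agent.Lib.Helper51.PF12G.index_bound_abstract L H E A V M x p hp hodd hcompl hfpf hAH hAc hVA hV1 hVn hx hx1 hxp hN hML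

end Cfsg.Agent.Lib.Helper60.PF12G
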