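import Mathlib
import Cfsg.Agent.Lib.Helper60.PFTwelveGM
import Cfsg.Agent.Lib.Helper4.PFTypes
import Cfsg.Agent.Lib.Helper26.PFBookC
import Cfsg.Agent.Lib.Helper26.BGTypesB
import Cfsg.Agent.Lib.Helper34.TildeEquiv
import Cfsg.Agent.S1350

/-!
# Peterfalvi (12.8)-(12.10), group part: the B&G context, part 1 (helper60)

`FData` of a subgroup of Frobenius type, bad pairs, and Peterfalvi (12.9).
-/

set_option autoImplicit false

namespace Cfsg.Agent.Lib.Helper60.PF12G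

open Cfsg Cfsg.Agent.Lib.Helper4.PF

universe u

variable {G : Type u} [Group G] [Finite G]

/-- `(p, M)` is a bad pair: `M` is a maximal subgroup of (book) Type I, `p` is a prime not dividing
`|M_F|`, and `M` has an elementary abelian subgroup of order `p²`. -/
def IsBad (p : ℕ) (M : Subgroup G) : Prop :=
  IsCoatom M ∧ LitTypeI M ∧ p.Prime ∧ ¬ p ∣ Nat.card (fittingHallOf M) ∧
    ∃ A : Subgroup G, A ≤ M ∧ Nat.card A = p ^ 2 ∧ (∀ a ∈ A, ∀ b ∈ A, a * b = b * a) ∧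
      ∀ a ∈ A, a ^ p = 1

omit [Finite G] in
theorem mem_map_subtype_iff {M : Subgroup G} (S : Subgroup M) (x : G) :
    x ∈ S.map M.subtype ↔ ∃ h : x ∈ M, (⟨x, h⟩ : M) ∈ S := by
  constructor
  · rintro ⟨y, hy, rfl⟩
    exact ⟨y.2, hy⟩
  · rintro ⟨h, hx⟩
    exact ⟨⟨x, h⟩, hx, rfl⟩

/-- `A(M)` for a subgroup of Frobenius type -/
theorem litA_eq_of_typeF' {M : Subgroup G} (hF : IsOfTypeF ↥M) :
    litA M = {a | a ∈ M ∧ a ≠ 1 ∧ ∃ x ∈ fittingHallOf M, x ≠ 1 ∧ a * x = x * a} := by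
  unfold litA
  rw [if_neg (Cfsg.Agent.Lib.Helper26.PFBook.not_isOfTypeP_of_typeF hF)]

/-- **[FD]** ambient form of the type-F data of `M`. -/
theorem exists_fdata {M : Subgroup G} (hF : IsOfTypeF ↥M) :
    ∃ U U₁ U₀ : Subgroup G, FData M (fittingHallOf M) U U₁ U₀ := by
  obtain ⟨hsolv, hodd, hK1, -, U, hU1, hcompl, ⟨U₁, hU₁U, hU₁n, hU₁c, hU₁cent⟩,
    ⟨U₀, hU₀U, hexp, hfpf⟩⟩ := hF
  have hinj := M.subtype_injective
  have hcomplIn : IsComplIn (fittingHallOf M) (U.map M.subtype) M := by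
    refine ⟨Cfsg.Agent.Lib.Helper26.PFEight.fittingHallOf_le M, Subgroup.map_subtype_le U, ?_, ?_⟩
    · unfold fittingHallOf
      rw [← Subgroup.map_inf _ _ _ hinj, hcompl.disjoint.eq_bot, Subgroup.map_bot]
    · intro m hm
      obtain ⟨⟨a, b⟩, hab⟩ := hcompl.2 ⟨m, hm⟩
      refine ⟨(a : M), ⟨(a : M), a.2, rfl⟩, (b : M), ⟨(b : M), b.2, rfl⟩, ?_⟩
      have := congrArg (Subtype.val : ↥M → G) hab
      exact this.symm
  refine ⟨U.map M.subtype, U₁.map M.subtype, U₀.map M.subtype, ?_⟩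
  constructor
  · intro m hm k hk
    exact Cfsg.Agent.Lib.Helper26.PFEight.conj_mem_fittingHallOf M hm hk
  · exact Cfsg.Agent.Lib.Helper26.BGTypes.isNilpotent_fittingHallOf M
  · intro h
    apply hK1
    unfold fittingHallOf at h
    exact (Subgroup.map_eq_bot_iff_of_injective _ hinj).1 h
  · intro h
    exact hU1 ((Subgroup.map_eq_bot_iff_of_injective _ hinj).1 h)
  · exact hsolv
  · exact hodd
  · exact hcomplIn
  · have h1 := Cfsg.Agent.Lib.Helper26.BGTypes.coprime_card_fittingHallOf_relIndex M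
    have h2 := Cfsg.Agent.Lib.Helper23.card_of_isComplIn hcomplIn
    have h3 := Cfsg.Agent.Lib.Helper23.card_mul_relIndex_of_le
      (Cfsg.Agent.Lib.Helper26.PFEight.fittingHallOf_le M)
    have hpos : 0 < Nat.card ↥(fittingHallOf M) := Nat.card_pos
    have h4 : (fittingHallOf M).relIndex M = Nat.card ↥(U.map M.subtype) := by
      apply Nat.eq_of_mul_eq_mul_left hpos
      rw [h3, h2]
    rwa [h4] at h1
  · exact Subgroup.map_mono hU₁U
  · rintro u ⟨u', hu', rfl⟩ v ⟨v', hv', rfl⟩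
    refine ⟨u' * v' * u'⁻¹, ?_, by simp⟩
    have := hU₁n hu'
    rw [Subgroup.mem_normalizer_iff] at this
    exact (this v').1 hv'
  · rintro a ⟨a', ha', rfl⟩ b ⟨b', hb', rfl⟩
    have h := hU₁c.is_comm.comm (⟨a', ha'⟩ : U₁) ⟨b', hb'⟩
    have h' := congrArg (fun t : U₁ => ((t : M) : G)) h
    simpa using h'
  · intro k hk hk1 u hu huk
    obtain ⟨k', hk', rfl⟩ := hk
    obtain ⟨u', hu', rfl⟩ := hu
    refine ⟨u', ?_, rfl⟩
    apply hU₁cent k' hk' (fun h => hk1 (by rw [h]; rfl))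
    refine ⟨hu', ?_⟩
    show u' ∈ Subgroup.centralizer ({k'} : Set M)
    rw [Subgroup.mem_centralizer_iff]
    intro z hz
    rw [Set.mem_singleton_iff] at hz
    subst hz
    apply Subtype.ext
    have : ((u' : M) : G) * (z : G) = (z : G) * (u' : G) := huk
    simpa using this.symm
  · exact Subgroup.map_mono hU₀U
  · have e0 : Monoid.exponent ↥(U₀.map M.subtype) = Monoid.exponent ↥U₀ :=
      Monoid.exponent_eq_of_mulEquiv (U₀.equivMapOfInjective M.subtype hinj).symm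
    have e1 : Monoid.exponent ↥(U.map M.subtype) = Monoid.exponent ↥U :=
      Monoid.exponent_eq_of_mulEquiv (U.equivMapOfInjective M.subtype hinj).symm
    rw [e0, e1, hexp]
  · intro u hu hu1 k hk huk
    obtain ⟨k', hk', rfl⟩ := hk
    obtain ⟨u', hu', rfl⟩ := hu
    have : k' = 1 := by
      apply hfpf u' hu' (fun h => hu1 (by rw [h]; rfl)) k' hk'
      apply Subtype.ext
      simpa using huk
    rw [this]; rfl

omit [Finite G] in
/-- for `M` of Frobenius type, with data `hD`: `|M| = |K| |U|` -/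
theorem FData.card_eq {M K U U₁ U₀ : Subgroup G} (hD : FData M K U U₁ U₀) :
    Nat.card M = Nat.card K * Nat.card U :=
  Cfsg.Agent.Lib.Helper23.card_of_isComplIn hD.compl

/-- Step (0): a Type I maximal subgroup that is not a Frobenius group with kernel `M_F` gives a bad
pair. -/
theorem exists_bad_of_not_frob (bg : BookBGData G) {M : Subgroup G}
    (hM : IsCoatom M) (hI : LitTypeI M) (hnf : ¬ IsFrobWithFittingHall M) : ∃ q : ℕ, IsBad q M := by
  obtain ⟨U, U₁, U₀, hD⟩ := exists_fdata hI.1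
  unfold IsFrobWithFittingHall at hnf
  simp only [not_forall] at hnf
  obtain ⟨h, hh, hh1, hnle⟩ := hnf
  rw [SetLike.not_le_iff_exists] at hnle
  obtain ⟨g, hg, hgK⟩ := hnle
  have hgh : g * h = h * g := by
    have := Subgroup.mem_centralizer_iff.mp hg.2 h (Set.mem_singleton h)
    exact this.symm
  obtain ⟨q, hq, hqK, u, hu, huo, huk, u₀, hu₀, hu₀o⟩ :=
    exists_elts_of_not_frob hD hg.1 hgK hh hh1 hgh
  have hS := (bg.compl M hM U (Or.inl ⟨hI, hD.compl⟩)).1 q hq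
  obtain ⟨A, hAU, hAc, hAcomm, hAexp⟩ :=
    exists_rank_two hD hq (fun P => (hS P).1) hu huo huk hu₀ hu₀o
  exact ⟨q, hM, hI, hq, hqK, A, hAU.trans hD.compl.2.1, hAc, hAcomm, hAexp⟩

/-- The output of Peterfalvi (12.9) for a bad pair `(p, M)`. -/
structure Cfg (p : ℕ) (M P₀ A : Subgroup G) (x y₀ : G) : Prop where
  hp : p.Prime
  hM : IsCoatom M
  hI : LitTypeI M
  hpK : ¬ p ∣ Nat.card (fittingHallOf M)
  P₀_le : P₀ ≤ M
  P₀_p : IsPGroup p P₀
  P₀_max : ∀ Q : Subgroup G, Q ≤ M → IsPGroup p Q → P₀ ≤ Q → Q = P₀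
  P₀_comm : ∀ a ∈ P₀, ∀ b ∈ P₀, a * b = b * a
  A_le : A ≤ P₀
  A_card : Nat.card A = p ^ 2
  A_omega : ∀ a ∈ P₀, a ^ p = 1 → a ∈ A
  A_exp : ∀ a ∈ A, a ^ p = 1
  y₀_mem : y₀ ∈ A
  y₀_ne : y₀ ≠ 1
  y₀_fpf : ∀ k ∈ fittingHallOf M, y₀ * k = k * y₀ → k = 1
  x_mem : x ∈ A
  x_ne : x ≠ 1
  x_der : ¬ (fittingHallOf M ⊓ Subgroup.centralizer ({x} : Set G) ≤
    ⁅fittingHallOf M, fittingHallOf M⁆)
  cent_le : Subgroup.centralizer ({x} : Set G) ≤ M
  cent_uniq : ∀ L : Subgroup G, IsCoatom L → Subgroup.centralizer ({x} : Set G) ≤ L → L = M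

omit [Finite G] in
theorem orderOf_eq_of_pow_eq_one {p : ℕ} (hp : p.Prime) {x : G} (hx : x ^ p = 1) (hx1 : x ≠ 1) :
    orderOf x = p := by
  have h1 : orderOf x ∣ p := orderOf_dvd_of_pow_eq_one hx
  rcases (Nat.dvd_prime hp).1 h1 with h | h
  · exact absurd (orderOf_eq_one_iff.1 h) hx1
  · exact h

/-- Peterfalvi (12.9). -/
theorem cfg_of_bad (hG : IsMinSimpleOddOrder G) (bg : BookBGData G) {p : ℕ} {M : Subgroup G}
    (hbad : IsBad p M) : ∃ (P₀ A : Subgroup G) (x y₀ : G), Cfg p M P₀ A x y₀ := by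
  obtain ⟨hM, hI, hp, hpK, A, hAM, hAc, hAcomm, hAexp⟩ := hbad
  obtain ⟨U, U₁, U₀, hD⟩ := exists_fdata hI.1
  have hSyl : ∀ E : Subgroup G, IsComplIn (fittingHallOf M) E M → ∀ P : Sylow p E,
      IsMulCommutative (P : Subgroup E) ∧ PRankLE p 2 (P : Subgroup E) := fun E hE =>
    (bg.compl M hM E (Or.inl ⟨hI, hE⟩)).1 p hp
  obtain ⟨E, P₀, y₀, hE, hP₀E, hP₀p, hP₀max, hP₀comm, hAP₀, hAom, hy₀A, hy₀1, hy₀fpf⟩ :=
    exists_sylow_cfg hD hp hpK hSyl hAM hAc hAcomm hAexp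
  have hAK : ∀ a ∈ A, ∀ k ∈ fittingHallOf M, a * k * a⁻¹ ∈ fittingHallOf M := fun a ha k hk =>
    hD.K_norm a (hAM ha) k hk
  obtain ⟨x, hxA, hx1, hxder⟩ :=
    exists_cent_not_le_commutator A (fittingHallOf M) p hp hAc hAcomm hAexp hAK hpK hD.K_nil hD.K_ne
  -- `x ∈ A(M)` of order prime to `|M_F|`
  have hxo : orderOf x = p := orderOf_eq_of_pow_eq_one hp (hAexp x hxA) hx1
  have hfix : ∃ k ∈ fittingHallOf M, k ≠ 1 ∧ x * k = k * x := by
    by_contra hcon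
    apply hxder
    intro k hk
    by_cases hk1 : k = 1
    · rw [hk1]; exact Subgroup.one_mem _
    · exfalso
      apply hcon
      refine ⟨k, hk.1, hk1, ?_⟩
      exact (Subgroup.mem_centralizer_iff.mp hk.2 x (Set.mem_singleton x))
  have hxlit : x ∈ litA M := by
    rw [litA_eq_of_typeF' hI.1]
    obtain ⟨k, hk, hk1, hxk⟩ := hfix
    exact ⟨hAM hxA, hx1, k, hk, hk1, hxk⟩
  have hcop : (orderOf x).Coprime (Nat.card (typeCore M)) := by
    rw [Cfsg.Agent.Lib.Helper26.PFBook.typeCore_eq_of_typeF hI.1, hxo]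
    exact (Nat.Prime.coprime_iff_not_dvd hp).2 hpK
  obtain ⟨-, -, hcle, hcuniq⟩ :=
    Cfsg.Agent.Lib.Helper26.PFBook.centralizer_le_of_mem_litA hG bg hM hxlit hcop
  exact ⟨P₀, A, x, y₀, hp, hM, hI, hpK, hP₀E.trans hE.2.1, hP₀p, hP₀max, hP₀comm, hAP₀, hAc,
    hAom, hAexp, hy₀A, hy₀1, hy₀fpf, hxA, hx1, hxder, hcle, hcuniq⟩

end Cfsg.Agent.Lib.Helper60.PF12G
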