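import Mathlib
import Cfsg.Agent.Lib.Helper60.PFTwelveG2

/-!
# Peterfalvi (12.8)-(12.10), group part: the B&G context, part 2 (helper60)

The maximal subgroup `L` with `P₀ ≤ L_F`, and Peterfalvi (12.10).
-/

set_option autoImplicit false

namespace Cfsg.Agent.Lib.Helper60.PF12G

open Cfsg Cfsg.Agent.Lib.Helper4.PF
open Cfsg.Agent.Lib.Helper26.PFBook (mem_conjSub isCoatom_conjSub)
open Cfsg.Agent.Lib.Helper26.PFEight (fittingHallOf_le conj_mem_fittingHallOf)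

universe u

variable {G : Type u} [Group G] [Finite G]

omit [Finite G] in
theorem mem_centralizer_singleton {x y : G} (h : x * y = y * x) :
    y ∈ Subgroup.centralizer ({x} : Set G) := by
  rw [Subgroup.mem_centralizer_iff]
  intro z hz
  rw [Set.mem_singleton_iff] at hz
  subst hz
  exact h

omit [Finite G] in
theorem comm_of_mem_centralizer_singleton {x y : G}
    (h : y ∈ Subgroup.centralizer ({x} : Set G)) : x * y = y * x :=
  Subgroup.mem_centralizer_iff.mp h x (Set.mem_singleton x)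

namespace Cfg

variable {p : ℕ} {M P₀ A : Subgroup G} {x y₀ : G}

theorem x_P₀ (c : Cfg p M P₀ A x y₀) : x ∈ P₀ := c.A_le c.x_mem

theorem x_M (c : Cfg p M P₀ A x y₀) : x ∈ M := c.P₀_le c.x_P₀

theorem A_M (c : Cfg p M P₀ A x y₀) : A ≤ M := c.A_le.trans c.P₀_le

theorem x_ord (c : Cfg p M P₀ A x y₀) : orderOf x = p :=
  orderOf_eq_of_pow_eq_one c.hp (c.A_exp x c.x_mem) c.x_ne

theorem exists_fix (c : Cfg p M P₀ A x y₀) : ∃ k ∈ fittingHallOf M, k ≠ 1 ∧ x * k = k * x := by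
  by_contra hcon
  apply c.x_der
  intro k hk
  by_cases hk1 : k = 1
  · rw [hk1]; exact Subgroup.one_mem _
  · exfalso
    apply hcon
    exact ⟨k, hk.1, hk1, comm_of_mem_centralizer_singleton hk.2⟩

theorem p_dvd_of_A_le (c : Cfg p M P₀ A x y₀) {H : Subgroup G} (hAH : A ≤ H) :
    p ∣ Nat.card H := by
  have h1 : Nat.card A ∣ Nat.card H := Subgroup.card_dvd_of_le hAH
  rw [c.A_card] at h1
  exact (dvd_pow_self p two_ne_zero).trans h1

theorem A_ne_bot (c : Cfg p M P₀ A x y₀) : A ≠ ⊥ := by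
  intro h
  apply c.x_ne
  have := c.x_mem
  rw [h] at this
  exact Subgroup.mem_bot.1 this

end Cfg

/-- The maximal subgroup `L` with `P₀ ≤ L_F`. -/
theorem exists_L (hG : IsMinSimpleOddOrder G) (bg : BookBGData G)
    (hσ : ∀ M : Subgroup G, IsCoatom M → LitTypeI M → sigmaCore M = fittingHallOf M)
    (hLI : ∀ (L : Subgroup G) (x : G), IsCoatom L → x ∈ sigmaCore L → x ≠ 1 →
      ¬ Subgroup.centralizer ({x} : Set G) ≤ L → LitTypeI L)
    {p : ℕ} {M P₀ A : Subgroup G} {x y₀ : G} (c : Cfg p M P₀ A x y₀) :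
    ∃ L : Subgroup G, IsCoatom L ∧ LitTypeI L ∧ P₀ ≤ fittingHallOf L ∧ L ≠ M ∧
      IsComplIn (fittingHallOf M) (L ⊓ M) M := by
  have : Fact p.Prime := ⟨c.hp⟩
  have hpG : p ∣ Nat.card G := by
    have h := c.p_dvd_of_A_le (le_top : A ≤ ⊤)
    rwa [Subgroup.card_top] at h
  obtain ⟨L₀, hL₀, hpσ⟩ := bg.sigmaPrimes.1 p c.hp hpG
  obtain ⟨-, hpL₀, S, hS⟩ := hpσ
  have hS₀L : (S : Subgroup L₀).map L₀.subtype ≤ L₀ := Subgroup.map_subtype_le _
  have hS₀p : IsPGroup p ((S : Subgroup L₀).map L₀.subtype) := S.isPGroup'.map _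
  have hmax : ∀ Q : Subgroup G, Q ≤ L₀ → IsPGroup p Q → (S : Subgroup L₀).map L₀.subtype ≤ Q →
      Q = (S : Subgroup L₀).map L₀.subtype := by
    intro Q hQL hQp hSQ
    have h1 : IsPGroup p (Q.subgroupOf L₀) := hQp.comap_subtype
    have h2 : (S : Subgroup L₀) ≤ Q.subgroupOf L₀ := by
      intro y hy
      rw [Subgroup.mem_subgroupOf]
      exact hSQ ⟨y, hy, rfl⟩
    have h3 := S.is_maximal' h1 h2
    rw [← h3, Subgroup.map_subgroupOf_eq_of_le hQL]
  obtain ⟨g, hg⟩ := exists_conj_le_of_normalizer_le p L₀ _ hS₀L hS₀p hmax hS P₀ c.P₀_p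
  have hL : IsCoatom (conjSub g⁻¹ L₀) := isCoatom_conjSub hL₀ g⁻¹
  have hP₀L : P₀ ≤ conjSub g⁻¹ L₀ := by
    intro y hy
    rw [mem_conjSub]
    simpa using hS₀L (hg y hy)
  have hpσL : p ∈ sigma (conjSub g⁻¹ L₀) := by
    rw [Cfsg.Agent.Lib.Helper34.TildeEquiv.sigma_map_conj]
    exact ⟨c.hp, hpL₀, S, hS⟩
  have hidx := (Cfsg.Agent.S1350.result hG _ hL).1.2.2 p c.hp hpσL
  have hP₀σ : P₀ ≤ sigmaCore (conjSub g⁻¹ L₀) :=
    le_of_isPGroup_of_not_dvd_relIndex p c.hp _ _ P₀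
      (Cfsg.Agent.Lib.Helper26.BGTypes.sigmaCore_le _)
      (fun l hl n hn => Cfsg.Agent.Lib.Helper26.BGTypes.conj_mem_sigmaCore _ hl hn) hidx hP₀L c.P₀_p
  have hLM : conjSub g⁻¹ L₀ ≠ M := by
    intro h
    rw [h, hσ M c.hM c.hI] at hP₀σ
    exact c.hpK (c.p_dvd_of_A_le (c.A_le.trans hP₀σ))
  have hnc : ¬ Subgroup.centralizer ({x} : Set G) ≤ conjSub g⁻¹ L₀ := fun h =>
    hLM (c.cent_uniq _ hL h)
  have hLtype : LitTypeI (conjSub g⁻¹ L₀) := hLI _ x hL (hP₀σ c.x_P₀) c.x_ne hnc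
  have hPH : P₀ ≤ fittingHallOf (conjSub g⁻¹ L₀) := by
    rw [← hσ _ hL hLtype]; exact hP₀σ
  have hxlit : x ∈ litA (conjSub g⁻¹ L₀) := by
    rw [litA_eq_of_typeF' hLtype.1]
    exact ⟨hP₀L c.x_P₀, c.x_ne, x, hPH c.x_P₀, c.x_ne, rfl⟩
  have h3 := (bg.tame _ hL (litA _) (Or.inl rfl)).2.2 x hxlit hnc M c.hM c.cent_le
  exact ⟨_, hL, hLtype, hPH, hLM, h3.1⟩

/-- the normal subgroup `V = Ω₁(Z(O_p(L_F)))` of `L`, contained in `A`. -/
theorem exists_V {p : ℕ} {M P₀ A : Subgroup G} {x y₀ : G} (c : Cfg p M P₀ A x y₀)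
    {L : Subgroup G} (hPL : P₀ ≤ fittingHallOf L) :
    ∃ V : Subgroup G, V ≤ A ∧ V ≠ ⊥ ∧ ∀ l ∈ L, ∀ v ∈ V, l * v * l⁻¹ ∈ V := by
  have hpH : p ∣ Nat.card (fittingHallOf L) := c.p_dvd_of_A_le (c.A_le.trans hPL)
  obtain ⟨V, hVH, hV1, hVexp, hVcent, hVinv⟩ := exists_omega_center p c.hp (fittingHallOf L)
    (Cfsg.Agent.Lib.Helper26.BGTypes.isNilpotent_fittingHallOf L) hpH
  refine ⟨V, ?_, hV1, fun l hl v hv => hVinv l (fun h hh => conj_mem_fittingHallOf L hl hh) v hv⟩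
  have hVM : V ≤ M := by
    intro v hv
    apply c.cent_le
    exact mem_centralizer_singleton (hVcent v hv x (hPL c.x_P₀)).symm
  have hVp : IsPGroup p V := by
    intro v
    refine ⟨1, ?_⟩
    apply Subtype.ext
    simpa using hVexp v v.2
  have hnorm : P₀ ≤ Subgroup.normalizer (V : Set G) := by
    intro a ha
    rw [Subgroup.mem_normalizer_iff]
    intro v
    have e : ∀ w ∈ V, a * w * a⁻¹ = w := by
      intro w hw
      rw [← hVcent w hw a (hPL ha), mul_inv_cancel_right]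
    constructor
    · intro hv; rw [e v hv]; exact hv
    · intro hv
      have := e _ hv
      have h2 : a * v * a⁻¹ = v := by
        have h3 := congrArg (fun t => a⁻¹ * t * a) this
        simp only [mul_assoc] at h3
        simpa [mul_assoc] using h3
      rw [← h2]; exact hv
  have hsup : IsPGroup p (P₀ ⊔ V : Subgroup G) := c.P₀_p.to_sup_of_normal_right' hVp hnorm
  have hVP₀ : V ≤ P₀ := by
    have := c.P₀_max (P₀ ⊔ V) (sup_le c.P₀_le hVM) hsup le_sup_left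
    rw [← this]; exact le_sup_right
  intro v hv
  exact c.A_omega v (hVP₀ hv) (hVexp v hv)

/-- Peterfalvi (12.10), first part: `L` is a Frobenius group with kernel `L_F`. -/
theorem frob_L (bg : BookBGData G)
    {p : ℕ} {M P₀ A : Subgroup G} {x y₀ : G} (c : Cfg p M P₀ A x y₀)
    (hmin : ∀ q : ℕ, q < p → ∀ M' : Subgroup G, ¬ IsBad q M')
    {L : Subgroup G} (hL : IsCoatom L) (hLI : LitTypeI L) (hPL : P₀ ≤ fittingHallOf L) :
    IsFrobWithFittingHall L := by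
  by_contra hnf
  obtain ⟨q, hqbad⟩ := exists_bad_of_not_frob bg hL hLI hnf
  obtain ⟨-, -, hq, hqH, Aq, hAqL, hAqc, -, -⟩ := id hqbad
  have hpH : p ∣ Nat.card (fittingHallOf L) := c.p_dvd_of_A_le (c.A_le.trans hPL)
  have hpq : p < q := by
    rcases lt_trichotomy q p with h | h | h
    · exact absurd hqbad (hmin q h L)
    · exact absurd (h ▸ hpH) hqH
    · exact h
  obtain ⟨U, U₁, U₀, hD⟩ := exists_fdata hLI.1
  have hqU : q ∣ Nat.card U := by
    have h1 : Nat.card Aq ∣ Nat.card L := Subgroup.card_dvd_of_le hAqL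
    rw [hAqc, hD.card_eq] at h1
    have h2 : q ∣ Nat.card (fittingHallOf L) * Nat.card U := (dvd_pow_self q two_ne_zero).trans h1
    rcases (Nat.Prime.dvd_mul hq).1 h2 with h | h
    · exact absurd h hqH
    · exact h
  obtain ⟨V, hVA, hV1, hVn⟩ := exists_V c hPL
  have hVc : Nat.card V ∣ p ^ 2 := by
    rw [← c.A_card]; exact Subgroup.card_dvd_of_le hVA
  exact not_dvd_card_of_lt hD c.hp hq hpq hqU V (hVA.trans (c.A_le.trans hPL)) hV1 hVn hVc

end Cfsg.Agent.Lib.Helper60.PF12G
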