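import Mathlib
import Cfsg.Agent.Lib.Helper60.PFTwelveG3

/-!
# Peterfalvi (12.8)-(12.10), group part: the B&G context, part 3 (helper60)

`M ∩ L ≤ L_F`, the bounds on `e = |L : L_F|`, and the assembly `group_part`.
-/

set_option autoImplicit false

namespace Cfsg.Agent.Lib.Helper60.PF12G

open Cfsg Cfsg.Agent.Lib.Helper4.PF
open Cfsg.Agent.Lib.Helper26.PFBook (mem_conjSub isCoatom_conjSub)
open Cfsg.Agent.Lib.Helper26.PFEight (fittingHallOf_le conj_mem_fittingHallOf)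

universe u

variable {G : Type u} [Group G] [Finite G]

/-- `|M : K| = |U|` -/
theorem FData.relIndex_eq {M K U U₁ U₀ : Subgroup G} (hD : FData M K U U₁ U₀) :
    K.relIndex M = Nat.card U := by
  have h2 := hD.card_eq
  have h3 := Cfsg.Agent.Lib.Helper23.card_mul_relIndex_of_le hD.compl.1
  have hpos : 0 < Nat.card ↥K := Nat.card_pos
  apply Nat.eq_of_mul_eq_mul_left hpos
  rw [h3, h2]

/-- Peterfalvi (12.10), second part: `M ∩ L ≤ L_F`. -/
theorem inf_le_fittingHallOf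
    {p : ℕ} {M P₀ A : Subgroup G} {x y₀ : G} (c : Cfg p M P₀ A x y₀)
    {L : Subgroup G} (hPL : P₀ ≤ fittingHallOf L)
    (hfrob : IsFrobWithFittingHall L) (hcompl : IsComplIn (fittingHallOf M) (L ⊓ M) M) :
    M ⊓ L ≤ fittingHallOf L := by
  intro d₀ hd₀
  by_contra hd₀H
  have : Fact p.Prime := ⟨c.hp⟩
  have hLH : ∀ l ∈ L, ∀ h ∈ fittingHallOf L, l * h * l⁻¹ ∈ fittingHallOf L :=
    fun l hl h hh => conj_mem_fittingHallOf L hl hh
  have hcopH := Cfsg.Agent.Lib.Helper26.BGTypes.coprime_card_fittingHallOf_relIndex L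
  obtain ⟨n, hs, hsH⟩ := exists_pow_prime_order L (fittingHallOf L) (fittingHallOf_le L) hLH hcopH
    hd₀.2 hd₀H
  have hdL : d₀ ^ n ∈ L := L.pow_mem hd₀.2 n
  have hdM : d₀ ^ n ∈ M := M.pow_mem hd₀.1 n
  have hd1 : d₀ ^ n ≠ 1 := by
    intro h
    rw [h, orderOf_one] at hs
    exact Nat.not_prime_one hs
  have hdH : d₀ ^ n ∉ fittingHallOf L := fun h => hsH (Subgroup.orderOf_dvd_natCard _ h)
  have hdfpf : ∀ h ∈ fittingHallOf L, d₀ ^ n * h = h * d₀ ^ n → h = 1 := by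
    intro h hh hdh
    by_contra hh1
    exact hdH (hfrob h hh hh1 ⟨hdL, mem_centralizer_singleton hdh.symm⟩)
  obtain ⟨S, hSH, hSp, hSmax, hSn⟩ := exists_sylow_of_nilpotent p L (fittingHallOf L)
    (Cfsg.Agent.Lib.Helper26.BGTypes.isNilpotent_fittingHallOf L) hLH
  have hP₀S : P₀ ≤ S := hSmax P₀ hPL c.P₀_p
  have hSM : S ⊓ M = P₀ :=
    c.P₀_max (S ⊓ M) inf_le_right (hSp.to_le inf_le_left) (le_inf hP₀S c.P₀_le)
  have hdP₀ : ∀ a ∈ P₀, d₀ ^ n * a * (d₀ ^ n)⁻¹ ∈ P₀ := by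
    intro a ha
    rw [← hSM]
    exact ⟨hSn _ hdL a (hP₀S ha), M.mul_mem (M.mul_mem hdM (c.P₀_le ha)) (M.inv_mem hdM)⟩
  have hdA : ∀ a ∈ A, d₀ ^ n * a * (d₀ ^ n)⁻¹ ∈ A := by
    intro a ha
    apply c.A_omega _ (hdP₀ a (c.A_le ha))
    rw [conj_pow, c.A_exp a ha]
    simp
  have hfpfA : ∀ a ∈ A, d₀ ^ n * a = a * d₀ ^ n → a = 1 := fun a ha =>
    hdfpf a (hPL (c.A_le ha))
  have hAK : ∀ a ∈ A, ∀ k ∈ fittingHallOf M, a * k * a⁻¹ ∈ fittingHallOf M := fun a ha k hk =>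
    conj_mem_fittingHallOf M (c.A_M ha) hk
  have hdK : ∀ k ∈ fittingHallOf M, d₀ ^ n * k * (d₀ ^ n)⁻¹ ∈ fittingHallOf M := fun k hk =>
    conj_mem_fittingHallOf M hdM hk
  have hpK : (Nat.card (fittingHallOf M)).Coprime p :=
    ((Nat.Prime.coprime_iff_not_dvd c.hp).2 c.hpK).symm
  have hcopA : (Nat.card (fittingHallOf M)).Coprime (Nat.card A) := by
    rw [c.A_card]; exact hpK.pow_right 2
  have hcopM := Cfsg.Agent.Lib.Helper26.BGTypes.coprime_card_fittingHallOf_relIndex M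
  have hcopd : (Nat.card (fittingHallOf M)).Coprime (orderOf (d₀ ^ n)) := by
    rw [Nat.coprime_comm, Nat.Prime.coprime_iff_not_dvd hs]
    intro hsK
    have hidx : ¬ orderOf (d₀ ^ n) ∣ (fittingHallOf M).relIndex M := by
      intro h2
      have h3 : orderOf (d₀ ^ n) ∣ Nat.gcd (Nat.card (fittingHallOf M)) ((fittingHallOf M).relIndex M) :=
        Nat.dvd_gcd hsK h2
      rw [Nat.Coprime.gcd_eq_one hcopM] at h3
      exact hs.one_lt.ne' (Nat.dvd_one.1 h3)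
    have hz : IsPGroup (orderOf (d₀ ^ n)) (Subgroup.zpowers (d₀ ^ n)) := by
      apply IsPGroup.of_card (n := 1)
      rw [Nat.card_zpowers, pow_one]
    have hle := le_of_isPGroup_of_not_dvd_relIndex _ hs M (fittingHallOf M) _ (fittingHallOf_le M)
      (fun m hm k hk => conj_mem_fittingHallOf M hm hk) hidx
      ((Subgroup.zpowers_le).2 hdM) hz
    have hdK' : d₀ ^ n ∈ fittingHallOf M := hle (Subgroup.mem_zpowers _)
    have : d₀ ^ n ∈ fittingHallOf M ⊓ (L ⊓ M) := ⟨hdK', hdL, hdM⟩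
    rw [hcompl.2.2.1] at this
    exact hd1 (Subgroup.mem_bot.1 this)
  have hpH : p ∣ Nat.card (fittingHallOf L) := c.p_dvd_of_A_le (c.A_le.trans hPL)
  have hcopAd : (Nat.card A).Coprime (orderOf (d₀ ^ n)) := by
    rw [c.A_card]
    apply Nat.Coprime.pow_left
    rw [Nat.coprime_primes c.hp hs]
    intro h
    exact hsH (h ▸ hpH)
  obtain ⟨U, U₁, U₀, hD⟩ := exists_fdata c.hI.1
  have hsolv : Group.IsSolvable (fittingHallOf M) := by
    have := hD.K_nil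
    infer_instance
  obtain ⟨k, hk, hk1, hdk⟩ := exists_fix_of_frobenius_action A (fittingHallOf M) (d₀ ^ n)
    c.A_ne_bot hs hdA hfpfA hAK hdK hcopA hcopd hcopAd hsolv hD.K_ne
    (fun k hk h => c.y₀_fpf k hk (h y₀ c.y₀_mem))
  have hxE : x ∈ L ⊓ M := ⟨fittingHallOf_le L (hPL c.x_P₀), c.x_M⟩
  have hcomm := commute_of_fix hD hcompl hxE ⟨hdL, hdM⟩ c.exists_fix ⟨k, hk, hk1, hdk⟩
  exact c.x_ne (hdfpf x (hPL c.x_P₀) hcomm.symm)

/-- `N_G(⟨x⟩) ≤ M` -/
theorem mem_of_conj_mem_zpowers (hG : IsMinSimpleOddOrder G)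
    {p : ℕ} {M P₀ A : Subgroup G} {x y₀ : G} (c : Cfg p M P₀ A x y₀) (g : G)
    (hg : g * x * g⁻¹ ∈ Subgroup.zpowers x) : g ∈ M := by
  have hsimple : IsSimpleGroup G := hG.2.1
  obtain ⟨j, hj⟩ := Subgroup.mem_zpowers_iff.1 hg
  have hle : Subgroup.centralizer ({x} : Set G) ≤ conjSub g M := by
    intro z hz
    rw [mem_conjSub]
    apply c.cent_le
    apply mem_centralizer_singleton
    have hzx : x * z = z * x := comm_of_mem_centralizer_singleton hz
    have hzj : (x ^ j) * z = z * (x ^ j) := ((Commute.zpow_left (show Commute x z from hzx) j)).eq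
    rw [hj] at hzj
    have h3 := congrArg (fun t => g⁻¹ * t * g) hzj
    simp only [mul_assoc] at h3
    simpa [mul_assoc] using h3
  have hcon : conjSub g M = M := c.cent_uniq _ (isCoatom_conjSub c.hM g) hle
  have hN : Subgroup.normalizer ((M : Subgroup G) : Set G) = M :=
    Cfsg.Agent.Lib.Helper26.PFEight.normalizer_eq_of_isCoatom c.hM (le_refl _)
      ⟨x, c.x_M, c.x_ne⟩ (fun m hm a ha => M.mul_mem (M.mul_mem hm ha) (M.inv_mem hm))
  rw [← hN, Subgroup.mem_normalizer_iff]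
  intro m
  constructor
  · intro hm
    rw [← hcon]
    exact ⟨m, hm, rfl⟩
  · intro hm
    rw [← hcon, mem_conjSub] at hm
    simpa [mul_assoc] using hm

/-- Peterfalvi (12.10), third part: the bounds on `e = |L : L_F|`. -/
theorem index_bounds (hG : IsMinSimpleOddOrder G)
    {p : ℕ} {M P₀ A : Subgroup G} {x y₀ : G} (c : Cfg p M P₀ A x y₀)
    {L : Subgroup G} (hLI : LitTypeI L) (hPL : P₀ ≤ fittingHallOf L)
    (hfrob : IsFrobWithFittingHall L) (hML : M ⊓ L ≤ fittingHallOf L) :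
    (fittingHallOf L).relIndex L ∣ p ^ 2 - 1 ∧ (fittingHallOf L).relIndex L + 2 ≤ p ∧
      3 ≤ (fittingHallOf L).relIndex L := by
  obtain ⟨U, U₁, U₀, hD⟩ := exists_fdata hLI.1
  obtain ⟨V, hVA, hV1, hVn⟩ := exists_V c hPL
  have hfpf : ∀ u ∈ U, u ≠ 1 → ∀ h ∈ fittingHallOf L, u * h = h * u → h = 1 := by
    intro u hu hu1 h hh huh
    by_contra hh1
    have h1 : u ∈ fittingHallOf L :=
      hfrob h hh hh1 ⟨hD.compl.2.1 hu, mem_centralizer_singleton huh.symm⟩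
    have h2 : u ∈ fittingHallOf L ⊓ U := ⟨h1, hu⟩
    rw [hD.compl.2.2.1] at h2
    exact hu1 (Subgroup.mem_bot.1 h2)
  have h := index_bound_abstract L (fittingHallOf L) U A V M x p c.hp hD.M_odd hD.compl hfpf
    (c.A_le.trans hPL) c.A_card hVA hV1 hVn c.x_mem c.x_ne (c.A_exp x c.x_mem)
    (mem_of_conj_mem_zpowers hG c) hML
  rw [hD.relIndex_eq]
  refine ⟨h.1, h.2, ?_⟩
  have hodd : Odd (Nat.card U) := by
    have h1 := hD.M_odd
    rw [hD.card_eq] at h1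
    exact (Nat.odd_mul.1 h1).2
  have hne1 : Nat.card U ≠ 1 := fun h1 => hD.U_ne (Subgroup.eq_bot_of_card_eq U h1)
  rcases hodd with ⟨t, ht⟩
  omega

/-- The output of the group part of Peterfalvi (12.7): the configuration to be refuted by characters. -/
structure Out (p : ℕ) (M L T : Subgroup G) (x : G) : Prop where
  hp : p.Prime
  hM : IsCoatom M
  hMI : LitTypeI M
  hL : IsCoatom L
  hLI : LitTypeI L
  L_ne : L ≠ M
  hfrob : IsFrobWithFittingHall L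
  x_M : x ∈ M
  x_ord : orderOf x = p
  x_H : x ∈ fittingHallOf L
  hpK : ¬ p ∣ Nat.card (fittingHallOf M)
  x_der : ¬ (fittingHallOf M ⊓ Subgroup.centralizer ({x} : Set G) ≤
    ⁅fittingHallOf M, fittingHallOf M⁆)
  cent_le : Subgroup.centralizer ({x} : Set G) ≤ M
  cent_uniq : ∀ L' : Subgroup G, IsCoatom L' → Subgroup.centralizer ({x} : Set G) ≤ L' → L' = M
  inf_le : M ⊓ L ≤ fittingHallOf L
  compl : IsComplIn (fittingHallOf M) (M ⊓ L) M
  e_dvd : (fittingHallOf L).relIndex L ∣ p ^ 2 - 1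
  e_le : (fittingHallOf L).relIndex L + 2 ≤ p
  e_ge : 3 ≤ (fittingHallOf L).relIndex L
  card_H : p ^ 2 ≤ Nat.card (fittingHallOf L)
  card_M_le : Nat.card M ≤ Nat.card (fittingHallOf M) * Nat.card (fittingHallOf L)
  card_L : Nat.card L = (fittingHallOf L).relIndex L * Nat.card (fittingHallOf L)
  T_le : T ≤ fittingHallOf M
  T_norm : ∀ k ∈ fittingHallOf M, ∀ t ∈ T, k * t * k⁻¹ ∈ T
  T_comm : ∀ k₁ ∈ fittingHallOf M, ∀ k₂ ∈ fittingHallOf M, k₁ * k₂ * k₁⁻¹ * k₂⁻¹ ∈ T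
  T_x : ∀ k ∈ fittingHallOf M, x * k * x⁻¹ * k⁻¹ ∈ T
  T_idx : 2 * p + 1 ≤ T.relIndex (fittingHallOf M)
  coset_cent : ∀ i : ℕ, ¬ p ∣ i → ∀ h ∈ fittingHallOf M,
    Subgroup.centralizer ({x ^ i * h} : Set G) ≤ M
  coset_litA : ∀ i : ℕ, ¬ p ∣ i → ∀ h ∈ fittingHallOf M, x ^ i * h ∈ litA M

/-- **Peterfalvi (12.8)-(12.10), group part.**  If some maximal subgroup of (book) Type I is not a
Frobenius group with kernel `M_F`, the configuration `Out` exists. -/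
theorem group_part (hG : IsMinSimpleOddOrder G) (bg : BookBGData G)
    (hσ : ∀ M : Subgroup G, IsCoatom M → LitTypeI M → sigmaCore M = fittingHallOf M)
    (hLI : ∀ (L : Subgroup G) (x : G), IsCoatom L → x ∈ sigmaCore L → x ≠ 1 →
      ¬ Subgroup.centralizer ({x} : Set G) ≤ L → LitTypeI L)
    (hbad : ∃ M : Subgroup G, IsCoatom M ∧ LitTypeI M ∧ ¬ IsFrobWithFittingHall M) :
    ∃ (p : ℕ) (M L T : Subgroup G) (x : G), Out p M L T x := by
  classical
  obtain ⟨M₀, hM₀, hI₀, hnf₀⟩ := hbad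
  obtain ⟨q₀, hq₀⟩ := exists_bad_of_not_frob bg hM₀ hI₀ hnf₀
  -- the least bad prime
  have hex : ∃ q : ℕ, ∃ M' : Subgroup G, IsBad q M' := ⟨q₀, M₀, hq₀⟩
  obtain ⟨M, hpM⟩ := Nat.find_spec hex
  have hmin : ∀ q : ℕ, q < Nat.find hex → ∀ M' : Subgroup G, ¬ IsBad q M' := by
    intro q hq M' hqM'
    exact Nat.find_min hex hq ⟨M', hqM'⟩
  obtain ⟨P₀, A, x, y₀, c⟩ := cfg_of_bad hG bg hpM
  obtain ⟨L, hL, hLtype, hPL, hLM, hcompl⟩ := exists_L hG bg hσ hLI c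
  have hfrob := frob_L bg c hmin hL hLtype hPL
  have hML := inf_le_fittingHallOf c hPL hfrob hcompl
  obtain ⟨he1, he2, he3⟩ := index_bounds hG c hLtype hPL hfrob hML
  have hAH : A ≤ fittingHallOf L := c.A_le.trans hPL
  have hcompl' : IsComplIn (fittingHallOf M) (M ⊓ L) M := by rwa [inf_comm] at hcompl
  obtain ⟨U, U₁, U₀, hD⟩ := exists_fdata c.hI.1
  -- parities
  have hoddM : Odd (Nat.card M) := hD.M_odd
  have hoddK : Odd (Nat.card (fittingHallOf M)) := by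
    have h1 := hoddM
    rw [hD.card_eq] at h1
    exact (Nat.odd_mul.1 h1).1
  have hoddp : Odd (Nat.find hex) := by
    have h1 := c.p_dvd_of_A_le c.A_M
    obtain ⟨t, ht⟩ := h1
    rw [ht] at hoddM
    exact (Nat.odd_mul.1 hoddM).1
  have hy₀p : y₀ ^ (Nat.find hex) = 1 := c.A_exp y₀ c.y₀_mem
  have hxp : x ^ (Nat.find hex) = 1 := c.A_exp x c.x_mem
  have hxy : x * y₀ = y₀ * x := c.P₀_comm x c.x_P₀ y₀ (c.A_le c.y₀_mem)
  obtain ⟨T, hT1, hT2, hT3, hT4, hT5⟩ := exists_T (fittingHallOf M) x y₀ (Nat.find hex) c.hp hoddp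
    hoddK c.hpK hxp hy₀p c.y₀_ne hxy
    (fun k hk => conj_mem_fittingHallOf M c.x_M hk)
    (fun k hk => conj_mem_fittingHallOf M (c.A_M c.y₀_mem) hk) c.y₀_fpf c.x_der
  have hfixne : fittingHallOf M ⊓ Subgroup.centralizer ({x} : Set G) ≠ ⊥ := by
    obtain ⟨k, hk, hk1, hxk⟩ := c.exists_fix
    intro h
    have : k ∈ fittingHallOf M ⊓ Subgroup.centralizer ({x} : Set G) :=
      ⟨hk, mem_centralizer_singleton hxk⟩
    rw [h] at this
    exact hk1 (Subgroup.mem_bot.1 this)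
  have hcos := fun (i : ℕ) (hi : ¬ Nat.find hex ∣ i) (h : G) (hh : h ∈ fittingHallOf M) =>
    coset_facts M (fittingHallOf M) x (Nat.find hex) c.hp (fittingHallOf_le M)
      (fun m hm k hk => conj_mem_fittingHallOf M hm hk) hD.K_nil c.x_M c.x_ord c.hpK c.cent_le
      hfixne i hi h hh
  obtain ⟨UL, UL₁, UL₀, hDL⟩ := exists_fdata hLtype.1
  refine ⟨Nat.find hex, M, L, T, x, ?_⟩
  refine
    { hp := c.hp, hM := c.hM, hMI := c.hI, hL := hL, hLI := hLtype, L_ne := hLM, hfrob := hfrob,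
      x_M := c.x_M, x_ord := c.x_ord, x_H := hPL c.x_P₀, hpK := c.hpK, x_der := c.x_der,
      cent_le := c.cent_le, cent_uniq := c.cent_uniq, inf_le := hML, compl := hcompl',
      e_dvd := he1, e_le := he2, e_ge := he3, card_H := ?_, card_M_le := ?_, card_L := ?_,
      T_le := hT1, T_norm := hT2, T_comm := hT3, T_x := hT4, T_idx := hT5,
      coset_cent := fun i hi h hh => (hcos i hi h hh).1, coset_litA := ?_ }
  · rw [← c.A_card]
    exact Subgroup.card_le_of_le hAH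
  · rw [Cfsg.Agent.Lib.Helper23.card_of_isComplIn hcompl']
    exact Nat.mul_le_mul_left _ (Subgroup.card_le_of_le hML)
  · rw [← Cfsg.Agent.Lib.Helper23.card_mul_relIndex_of_le (fittingHallOf_le L), mul_comm]
  · intro i hi h hh
    obtain ⟨-, hne, k, hk, hk1, hcomm⟩ := hcos i hi h hh
    rw [litA_eq_of_typeF' c.hI.1]
    exact ⟨M.mul_mem (M.pow_mem c.x_M i) (fittingHallOf_le M hh), hne, k, hk, hk1, hcomm⟩

end Cfsg.Agent.Lib.Helper60.PF12G
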