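import Mathlib

set_option autoImplicit false

/-!
Decidable facts about `2 × 2` matrices over `ZMod 3` (the group `GL(2,3)` and its `2`-elements),
used for Passman's theorem on transitive `p`-groups (S3370).  By helper60.
-/

namespace Cfsg.Agent.Lib.Helper60

/-- `2 × 2` matrices over the field with three elements. -/
abbrev M3 := Matrix (Fin 2) (Fin 2) (ZMod 3)
/-- The plane over the field with three elements. -/
abbrev W3 := Fin 2 → ZMod 3

set_option maxRecDepth 100000 in
theorem D1 : ∀ A : M3, A ^ 16 = 1 → A ^ 8 = 1 := by decide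

set_option maxRecDepth 100000 in
set_option synthInstance.maxSize 1000 in
set_option synthInstance.maxHeartbeats 200000 in
theorem D2 : ∀ A B : M3, A ^ 8 = 1 → A ≠ 1 → B ^ 8 = 1 → B ≠ 1 →
    (∃ x : W3, x ≠ 0 ∧ A.mulVec x = x ∧ B.mulVec x = x) → (A * B) ^ 8 = 1 → A = B := by decide

set_option maxRecDepth 100000 in
theorem D3 : ∀ A : M3, A * A = 1 → A = 1 ∨ A = -1 ∨ ∃ x : W3, x ≠ 0 ∧ A.mulVec x = x := by decide

set_option maxRecDepth 100000 in
set_option synthInstance.maxSize 1000 in
set_option synthInstance.maxHeartbeats 200000 in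
theorem D4 : ((Finset.univ : Finset M3).filter
    (fun A => A ^ 4 = 1 ∧ ∀ x : W3, x ≠ 0 → A.mulVec x ≠ x)).card = 7 := by decide

set_option maxRecDepth 100000 in
set_option synthInstance.maxSize 1000 in
set_option synthInstance.maxHeartbeats 200000 in
theorem D5 : ∀ A B : M3, A ^ 8 = 1 → A ^ 4 ≠ 1 → B * B = 1 → B ≠ 1 → B ≠ -1 →
    ∀ i : Fin 8, B * A * B = A ^ i.val → i = 3 := by decide

/-- Representatives of the four lines of the plane. -/
def R4 : Finset W3 := {![1, 0], ![0, 1], ![1, 1], ![1, 2]}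

set_option maxRecDepth 100000 in
theorem D6 : ∀ x : W3, x ≠ 0 → x ∈ R4 ∨ -x ∈ R4 := by decide

theorem R4_ne : ∀ r ∈ R4, r ≠ 0 := by decide

theorem R4_card : R4.card = 4 := by decide

theorem card_nonzero : Nat.card {y : W3 | y ≠ 0} = 8 := by
  rw [Nat.card_eq_fintype_card]
  decide

theorem neg_one_mulVec_ne : ∀ x : W3, x ≠ 0 → (-1 : M3).mulVec x ≠ x := by decide

theorem pow8_of_pow (A : M3) : ∀ k : ℕ, A ^ (2 ^ k) = 1 → A ^ 8 = 1 := by
  intro k
  induction k with
  | zero => intro h; rw [pow_zero, pow_one] at h; rw [h, one_pow]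
  | succ k ih =>
    intro h
    by_cases hk : k + 1 ≤ 3
    · have : 8 = 2 ^ (k + 1) * 2 ^ (3 - (k + 1)) := by
        rw [← pow_add]
        have : k + 1 + (3 - (k + 1)) = 3 := by omega
        rw [this]
        norm_num
      rw [this, pow_mul, h, one_pow]
    · apply ih
      have h16 : (A ^ (2 ^ (k - 3))) ^ 16 = 1 := by
        rw [← pow_mul]
        have : 2 ^ (k - 3) * 16 = 2 ^ (k + 1) := by
          have : (16 : ℕ) = 2 ^ 4 := by norm_num
          rw [this, ← pow_add]
          congr 1; omega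
        rw [this, h]
      have h8 := D1 _ h16
      rw [← pow_mul] at h8
      have : 2 ^ (k - 3) * 8 = 2 ^ k := by
        have : (8 : ℕ) = 2 ^ 3 := by norm_num
        rw [this, ← pow_add]
        congr 1; omega
      rwa [this] at h8

theorem mat_ext {A B : M3} (h : ∀ x : W3, A.mulVec x = B.mulVec x) : A = B := by
  apply Matrix.toLin'.injective
  apply LinearMap.ext
  intro x
  rw [Matrix.toLin'_apply, Matrix.toLin'_apply]
  exact h x

end Cfsg.Agent.Lib.Helper60
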