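import Mathlib

/-!
# Module M2 of #2718 (helper93, S1625): `Z(G/Z(G)) = 1` for a perfect group `G`.
-/

namespace Cfsg.Agent.Lib.Helper60

private theorem cqp_aux1 {G : Type*} [Group G] (g a b : G) :
    g * (a * b) * g⁻¹ * (a * b)⁻¹ = g * a * g⁻¹ * ((g * b * g⁻¹ * b⁻¹) * a⁻¹) := by
  group

private theorem cqp_aux2 {G : Type*} [Group G] (g a b : G) :
    g * a * g⁻¹ * (a⁻¹ * (g * b * g⁻¹ * b⁻¹)) = (g * a * g⁻¹ * a⁻¹) * (g * b * g⁻¹ * b⁻¹) := by
  group

private theorem cqp_aux3 {G : Type*} [Group G] (g h : G) :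
    g * h * g⁻¹ * h⁻¹ = (g * h) * (h * g)⁻¹ := by
  group

private theorem cqp_aux4 {G : Type*} [Group G] (g h : G) :
    h * g = (g * h * g⁻¹ * h⁻¹)⁻¹ * (g * h) := by
  group

/-- Grün's lemma: the central quotient of a perfect group has trivial centre. -/
theorem center_quotient_center_eq_bot {G : Type*} [Group G] (hperf : commutator G = ⊤) :
    Subgroup.center (G ⧸ Subgroup.center G) = ⊥ := by
  rw [eq_bot_iff]
  intro q hq
  obtain ⟨g, rfl⟩ := QuotientGroup.mk_surjective q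
  rw [Subgroup.mem_bot, QuotientGroup.eq_one_iff]
  -- `⁅g, h⁆` is central for every `h`
  have hc : ∀ h : G, g * h * g⁻¹ * h⁻¹ ∈ Subgroup.center G := by
    intro h
    have h1 := (Subgroup.mem_center_iff.mp hq) (QuotientGroup.mk h : G ⧸ Subgroup.center G)
    have h2 : ((g * h * g⁻¹ * h⁻¹ : G) : G ⧸ Subgroup.center G) = 1 := by
      have h3 : ((g * h : G) : G ⧸ Subgroup.center G) = ((h * g : G) : G ⧸ Subgroup.center G) := by
        rw [QuotientGroup.mk_mul, QuotientGroup.mk_mul]; exact h1.symm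
      rw [cqp_aux3, QuotientGroup.mk_mul, QuotientGroup.mk_inv, h3, mul_inv_cancel]
    exact (QuotientGroup.eq_one_iff _).mp h2
  -- the map `h ↦ ⁅g, h⁆` is a homomorphism into the centre
  have hmul : ∀ a b : G, (⟨g * (a * b) * g⁻¹ * (a * b)⁻¹, hc (a * b)⟩ : Subgroup.center G) =
      ⟨g * a * g⁻¹ * a⁻¹, hc a⟩ * ⟨g * b * g⁻¹ * b⁻¹, hc b⟩ := by
    intro a b
    apply Subtype.ext
    have hb := (Subgroup.mem_center_iff.mp (hc b)) a⁻¹
    show g * (a * b) * g⁻¹ * (a * b)⁻¹ = (g * a * g⁻¹ * a⁻¹) * (g * b * g⁻¹ * b⁻¹)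
    rw [cqp_aux1, ← hb, cqp_aux2]
  let φ : G →* Subgroup.center G := MonoidHom.mk' (fun h => ⟨g * h * g⁻¹ * h⁻¹, hc h⟩) hmul
  have hker : commutator G ≤ φ.ker := by
    rw [commutator_eq_closure, Subgroup.closure_le]
    rintro x ⟨a, b, rfl⟩
    rw [SetLike.mem_coe, MonoidHom.mem_ker, map_commutatorElement,
      commutatorElement_eq_one_iff_commute]
    apply Subtype.ext
    exact (Subgroup.mem_center_iff.mp (φ b).2) (φ a).1
  rw [hperf] at hker
  rw [Subgroup.mem_center_iff]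
  intro h
  have h1 : φ h = 1 := MonoidHom.mem_ker.mp (hker (Subgroup.mem_top h))
  have h2 : g * h * g⁻¹ * h⁻¹ = 1 := congrArg Subtype.val h1
  rw [cqp_aux4 g h, h2, inv_one, one_mul]

end Cfsg.Agent.Lib.Helper60
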