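import Mathlib

set_option autoImplicit false
set_option linter.unusedSectionVars false
set_option linter.style.haveILetI false
open Equiv MulAction

namespace Cfsg.Agent.Helper60.Miller

variable {α : Type*} [Fintype α] [DecidableEq α]
/-- A `p`-group of permutations moving fewer than `p²` points has all orbits of size at most `p`. -/
theorem pgroup_orbit_le (R : Subgroup (Perm α)) (p : ℕ) [Fact p.Prime] (hR : IsPGroup p R)
    (S : Finset α) (hS : ∀ ω, ω ∉ S → ∀ g ∈ R, g ω = ω) (hcard : S.card < p ^ 2) (ω : α) :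
    (orbit R ω).ncard ≤ p := by
  have hp := (Fact.out : p.Prime)
  obtain ⟨n, hn⟩ := hR.card_orbit ω
  rw [Nat.card_coe_set_eq] at hn
  rw [hn]
  by_cases h1 : n ≤ 1
  · calc p ^ n ≤ p ^ 1 := Nat.pow_le_pow_right hp.pos h1
      _ = p := pow_one p
  · exfalso
    push Not at h1
    have h2 : p ^ 2 ≤ (orbit R ω).ncard := by
      rw [hn]; exact Nat.pow_le_pow_right hp.pos h1
    by_cases hω : ω ∈ S
    · have hsub : orbit R ω ⊆ (S : Set α) := by
        rintro _ ⟨g, rfl⟩
        show g • ω ∈ (S : Set α)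
        by_contra hg
        have h3 : (g⁻¹ : R) • (g • ω) = g • ω := by
          have := hS (g • ω) (by simpa using hg) (g⁻¹ : R).1 (g⁻¹ : R).2
          exact this
        rw [inv_smul_smul] at h3
        apply hg
        rw [← h3]
        exact hω
      have := Set.ncard_le_ncard hsub (Finset.finite_toSet S)
      rw [Set.ncard_coe_finset] at this
      omega
    · have hsub : orbit R ω ⊆ {ω} := by
        rintro _ ⟨g, rfl⟩
        have : g • ω = ω := hS ω hω g.1 g.2
        simpa using this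
      have := Set.ncard_le_ncard hsub (Set.finite_singleton ω)
      rw [Set.ncard_singleton] at this
      have : 1 < p ^ 2 := Nat.one_lt_pow (by norm_num) hp.one_lt
      omega

/-- A `p`-group of permutations all of whose orbits have size at most `p` is abelian. -/
theorem pgroup_comm (R : Subgroup (Perm α)) (p : ℕ) [Fact p.Prime] (hR : IsPGroup p R)
    (horb : ∀ ω : α, (orbit R ω).ncard ≤ p) (a b : Perm α) (ha : a ∈ R) (hb : b ∈ R) :
    a * b = b * a := by
  have hp := (Fact.out : p.Prime)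
  ext ω
  set S := stabilizer R ω with hS
  have hidx : S.index = (orbit R ω).ncard := index_stabilizer R ω
  obtain ⟨n, hn⟩ := hR.card_orbit ω
  rw [Nat.card_coe_set_eq] at hn
  have key : (⟨b * a, R.mul_mem hb ha⟩ : R)⁻¹ * ⟨a * b, R.mul_mem ha hb⟩ ∈ S := by
    have hle := horb ω
    rw [hn] at hle
    have hn1 : n ≤ 1 := by
      by_contra h
      push Not at h
      have : p ^ 2 ≤ p ^ n := Nat.pow_le_pow_right hp.pos h
      have : p < p ^ 2 := by
        calc p = p ^ 1 := (pow_one p).symm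
          _ < p ^ 2 := Nat.pow_lt_pow_right hp.one_lt (by norm_num)
      omega
    interval_cases n
    · have : S = ⊤ := by rw [← Subgroup.index_eq_one, hidx, hn, pow_zero]
      rw [this]; trivial
    · rw [pow_one] at hn
      have hidxp : S.index = p := by rw [hidx, hn]
      obtain ⟨m, hm⟩ := IsPGroup.iff_card.mp hR
      have hm0 : m ≠ 0 := by
        rintro rfl
        have h1 := Subgroup.index_dvd_card S
        rw [hidxp, hm, pow_zero] at h1
        exact hp.one_lt.ne' (Nat.dvd_one.mp h1)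
      haveI : S.Normal := by
        apply Subgroup.normal_of_index_eq_minFac_card
        rw [hidxp, hm, Nat.pow_minFac hm0, hp.minFac_eq]
      have hq : Nat.card (R ⧸ S) = p := hidxp
      haveI : IsCyclic (R ⧸ S) := isCyclic_of_prime_card hq
      rw [← QuotientGroup.eq]
      have := (IsCyclic.isMulCommutative (α := R ⧸ S)).is_comm.comm
        (QuotientGroup.mk (⟨b, hb⟩ : R)) (QuotientGroup.mk (⟨a, ha⟩ : R))
      exact this
  rw [hS, mem_stabilizer_iff] at key
  have h2 : ((⟨b * a, R.mul_mem hb ha⟩ : R)⁻¹ * ⟨a * b, R.mul_mem ha hb⟩ : R) • ω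
      = (b * a)⁻¹ ((a * b) ω) := rfl
  rw [h2] at key
  have := congrArg (b * a) key
  simpa using this

/-- If `z` commutes with the cycle `t`, then `z` acts on the support of `t` as a power of `t`. -/
theorem commute_cycle_exists_zpow {z t : Perm α} (ht : t.IsCycle) (hz : Commute z t) :
    ∃ i : ℤ, ∀ ω ∈ t.support, z ω = (t ^ i) ω := by
  obtain ⟨ω₀, hω₀, hcyc⟩ := ht
  have hz0 : t (z ω₀) ≠ z ω₀ := by
    have : t (z ω₀) = z (t ω₀) := by
      have := congrArg (fun f : Perm α => f ω₀) hz.eq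
      simpa [Perm.mul_apply] using this.symm
    rw [this]
    exact fun h => hω₀ (z.injective h)
  obtain ⟨i, hi⟩ := hcyc hz0
  refine ⟨i, fun ω hω => ?_⟩
  obtain ⟨j, hj⟩ := hcyc (Perm.mem_support.mp hω)
  have hzj : Commute z (t ^ j) := hz.zpow_right j
  have h1 : z ((t ^ j) ω₀) = (t ^ j) (z ω₀) := by
    have := congrArg (fun f : Perm α => f ω₀) hzj.eq
    simpa [Perm.mul_apply] using this
  rw [← hj, h1, ← hi, ← Perm.mul_apply, ← Perm.mul_apply, ← zpow_add, ← zpow_add, add_comm]

/-- Elements commuting with every cycle of `x` commute with each other on the support of `x`. -/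
theorem ker_comm_on_support (x e₁ e₂ : Perm α)
    (h₁ : ∀ t ∈ x.cycleFactorsFinset, Commute e₁ t)
    (h₂ : ∀ t ∈ x.cycleFactorsFinset, Commute e₂ t) (ω : α) (hω : ω ∈ x.support) :
    e₁ (e₂ ω) = e₂ (e₁ ω) := by
  have htm : x.cycleOf ω ∈ x.cycleFactorsFinset := Perm.cycleOf_mem_cycleFactorsFinset_iff.mpr hω
  have htc : (x.cycleOf ω).IsCycle := (Perm.mem_cycleFactorsFinset_iff.mp htm).1
  have hωt : ω ∈ (x.cycleOf ω).support := by
    rw [Perm.mem_support_cycleOf_iff]
    exact ⟨Perm.SameCycle.refl _ _, hω⟩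
  obtain ⟨i₁, hi₁⟩ := commute_cycle_exists_zpow htc (h₁ _ htm)
  obtain ⟨i₂, hi₂⟩ := commute_cycle_exists_zpow htc (h₂ _ htm)
  have hmem : ∀ i : ℤ, ((x.cycleOf ω) ^ i) ω ∈ (x.cycleOf ω).support := fun i =>
    Perm.zpow_apply_mem_support.mpr hωt
  rw [hi₂ ω hωt, hi₁ _ (hmem i₂), hi₁ ω hωt, hi₂ _ (hmem i₁), ← Perm.mul_apply, ← Perm.mul_apply,
    ← zpow_add, ← zpow_add, add_comm]

/-- If `x` has prime order `p`, then the `p`-th power of an element commuting with every cycle of
`x` fixes the support of `x` pointwise. -/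
theorem ker_pow_on_support (x e : Perm α) {p : ℕ} (hp : p.Prime) (hx : orderOf x = p)
    (h : ∀ t ∈ x.cycleFactorsFinset, Commute e t) (ω : α) (hω : ω ∈ x.support) :
    (e ^ p) ω = ω := by
  have htm : x.cycleOf ω ∈ x.cycleFactorsFinset := Perm.cycleOf_mem_cycleFactorsFinset_iff.mpr hω
  have htc : (x.cycleOf ω).IsCycle := (Perm.mem_cycleFactorsFinset_iff.mp htm).1
  have hωt : ω ∈ (x.cycleOf ω).support := by
    rw [Perm.mem_support_cycleOf_iff]
    exact ⟨Perm.SameCycle.refl _ _, hω⟩
  set t := x.cycleOf ω with ht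
  obtain ⟨i, hi⟩ := commute_cycle_exists_zpow htc (h _ htm)
  have hmem : ∀ j : ℤ, (t ^ j) ω ∈ t.support := fun j => Perm.zpow_apply_mem_support.mpr hωt
  have hpow : ∀ n : ℕ, (e ^ n) ω = (t ^ (i * n)) ω := by
    intro n
    induction n with
    | zero => simp
    | succ n ih =>
      rw [pow_succ', Perm.mul_apply, ih, hi _ (hmem _), ← Perm.mul_apply, ← zpow_add]
      congr 2
      push_cast
      ring
  have hord : orderOf t = p := by
    rw [htc.orderOf]
    obtain ⟨n, hn⟩ := Perm.cycleType_prime_order (σ := x) (by rw [hx]; exact hp)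
    have : t.support.card ∈ x.cycleType := by
      rw [Perm.cycleType_def]
      exact Multiset.mem_map.mpr ⟨t, htm, rfl⟩
    rw [hn, hx] at this
    exact Multiset.eq_of_mem_replicate this
  rw [hpow p, mul_comm, zpow_mul, zpow_natCast, ← hord, pow_orderOf_eq_one, one_zpow,
    Perm.one_apply]

/-- A suitable power of an element of finite order is a `p`-element, with exponent `≡ 1 mod p`. -/
theorem exists_pow_pelement {G : Type*} [Group G] (g : G) (hg : IsOfFinOrder g) {p : ℕ}
    (hp : p.Prime) : ∃ e a : ℕ, e % p = 1 ∧ (g ^ e) ^ (p ^ a) = 1 := by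
  have ho : orderOf g ≠ 0 := (orderOf_pos_iff.mpr hg).ne'
  obtain ⟨a, m, hm, hom⟩ := Nat.exists_eq_pow_mul_and_not_dvd ho p hp.ne_one
  have hcop : Nat.Coprime m p := (Nat.Coprime.symm ((Nat.Prime.coprime_iff_not_dvd hp).mpr hm))
  obtain ⟨m', -, hm'⟩ := Nat.exists_mul_mod_eq_one_of_coprime hcop hp.one_lt
  refine ⟨m * m', a, hm', ?_⟩
  rw [← pow_mul]
  have : m * m' * p ^ a = orderOf g * m' := by rw [hom]; ring
  rw [this, pow_mul, pow_orderOf_eq_one, one_pow]

end Cfsg.Agent.Helper60.Miller
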