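import Mathlib
import Cfsg.Agent.Lib.Helper60.MillerAux

set_option autoImplicit false
set_option linter.unusedSectionVars false
set_option linter.style.haveILetI false
open Equiv MulAction
open scoped commutatorElement

namespace Cfsg.Agent.Helper60.Miller

variable {α : Type*} [Fintype α] [DecidableEq α]

/-- Lifting is compatible with powers. -/
theorem lift_pow {r : ℕ} (xΔ : Fin r ↪ α) (e : Perm α) (τ : Perm (Fin r))
    (hL : ∀ i, e (xΔ i) = xΔ (τ i)) (n : ℕ) : ∀ i, (e ^ n) (xΔ i) = xΔ ((τ ^ n) i) := by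
  induction n with
  | zero => intro i; simp
  | succ n ih =>
    intro i
    rw [pow_succ, pow_succ, Perm.mul_apply, Perm.mul_apply, hL, ih]

theorem lift_mul {r : ℕ} (xΔ : Fin r ↪ α) (e₁ e₂ : Perm α) (τ₁ τ₂ : Perm (Fin r))
    (h₁ : ∀ i, e₁ (xΔ i) = xΔ (τ₁ i)) (h₂ : ∀ i, e₂ (xΔ i) = xΔ (τ₂ i)) :
    ∀ i, (e₁ * e₂) (xΔ i) = xΔ ((τ₁ * τ₂) i) := by
  intro i
  rw [Perm.mul_apply, Perm.mul_apply, h₂, h₁]

theorem lift_inv {r : ℕ} (xΔ : Fin r ↪ α) (e : Perm α) (τ : Perm (Fin r))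
    (h : ∀ i, e (xΔ i) = xΔ (τ i)) : ∀ i, e⁻¹ (xΔ i) = xΔ (τ⁻¹ i) := by
  intro i
  rw [Perm.inv_eq_iff_eq, h]; simp

/-- The finishing step of Case A: an element of `G` commuting with every cycle of `x`,
inducing on `Δ` a permutation whose `p`-th power is nontrivial. -/
theorem finish_of_ker (G : Subgroup (Perm α)) {p r : ℕ} (hp : p.Prime)
    (xΔ : Fin r ↪ α) (x : Perm α) (hxord : orderOf x = p)
    (hsupp : ∀ ω, ω ∈ x.support ↔ ω ∉ Set.range xΔ)
    (e : Perm α) (heG : e ∈ G) (hker : ∀ t ∈ x.cycleFactorsFinset, Commute e t)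
    (τ : Perm (Fin r)) (hL : ∀ i, e (xΔ i) = xΔ (τ i)) (hτ : τ ^ p ≠ 1) :
    ∃ w ∈ G, w ≠ 1 ∧ w.support.card ≤ r := by
  refine ⟨e ^ p, G.pow_mem heG p, ?_, ?_⟩
  · intro h1
    apply hτ
    ext i
    have := lift_pow xΔ e τ hL p i
    rw [h1, Perm.one_apply] at this
    have := xΔ.injective this
    rw [← this]; simp
  · have hsub : (e ^ p).support ⊆ Finset.univ.map xΔ := by
      intro ω hω
      by_contra hcon
      have : ω ∈ x.support := by
        rw [hsupp]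
        rintro ⟨i, rfl⟩
        exact hcon (Finset.mem_map.mpr ⟨i, Finset.mem_univ _, rfl⟩)
      exact (Perm.mem_support.mp hω) (ker_pow_on_support x e hp hxord hker ω this)
    calc (e ^ p).support.card ≤ (Finset.univ.map xΔ).card := Finset.card_le_card hsub
      _ = r := by rw [Finset.card_map, Finset.card_univ, Fintype.card_fin]

/-- A power of a centralizing element lies in the kernel of the action on cycles. -/
theorem pow_mem_ker (x c : Perm α) (hc : c ∈ Subgroup.centralizer {x}) (m : ℕ)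
    (hm : (Perm.OnCycleFactors.toPermHom x ⟨c, hc⟩) ^ m = 1) :
    ∀ t ∈ x.cycleFactorsFinset, Commute (c ^ m) t := by
  have h : (⟨c, hc⟩ : Subgroup.centralizer {x}) ^ m ∈ (Perm.OnCycleFactors.toPermHom x).ker := by
    rw [MonoidHom.mem_ker, map_pow, hm]
  have := (Perm.OnCycleFactors.mem_ker_toPermHom_iff x _).mp h
  simpa using this

theorem caseA_r3 (G : Subgroup (Perm α)) {p : ℕ} (hp : p.Prime) (hp3 : p ≠ 3)
    (xΔ : Fin 3 ↪ α) (x : Perm α) (hxord : orderOf x = p)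
    (hsupp : ∀ ω, ω ∈ x.support ↔ ω ∉ Set.range xΔ) (hcyc : x.cycleFactorsFinset.card = 2)
    (hcomm : ∀ σ τ : Perm (Fin 3), ∃ c ∈ G, Commute c x ∧ ∀ i, c (xΔ i) = xΔ (⁅σ, τ⁆ i)) :
    ∃ w ∈ G, w ≠ 1 ∧ w.support.card ≤ 3 := by
  set θ : Perm (Fin 3) := ⁅(swap 0 1 : Perm (Fin 3)), (swap 1 2 : Perm (Fin 3))⁆ with hθ
  obtain ⟨c, hcG, hcx, hcL⟩ := hcomm (swap 0 1) (swap 1 2)
  have hc : c ∈ Subgroup.centralizer {x} := Subgroup.mem_centralizer_singleton_iff.mpr hcx.eq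
  have hcardP : Fintype.card (Perm x.cycleFactorsFinset) = 2 := by
    rw [Fintype.card_perm, Fintype.card_coe, hcyc]; rfl
  have hm : (Perm.OnCycleFactors.toPermHom x ⟨c, hc⟩) ^ 2 = 1 := by
    rw [← hcardP]; exact pow_card_eq_one
  have hker := pow_mem_ker x c hc 2 hm
  have hθ3 : θ ^ 3 = 1 := by decide
  have hθ1 : θ ≠ 1 := by decide
  haveI : Fact (Nat.Prime 3) := ⟨by norm_num⟩
  have hθord : orderOf θ = 3 := orderOf_eq_prime hθ3 hθ1
  refine finish_of_ker G hp xΔ x hxord hsupp (c ^ 2) (G.pow_mem hcG 2) hker (θ ^ 2)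
    (lift_pow xΔ c θ hcL 2) ?_
  rw [← pow_mul, Ne, ← orderOf_dvd_iff_pow_eq_one, hθord]
  intro hdvd
  have h3p : 3 ∣ p := by
    have : Nat.Coprime 3 2 := by norm_num
    exact this.dvd_of_dvd_mul_left hdvd
  exact hp3 ((Nat.prime_dvd_prime_iff_eq (by norm_num) hp).mp h3p).symm

/-- Even permutations of a set with at most three elements have order dividing 3. -/
theorem pow_three_of_sign {X : Type*} [Fintype X] [DecidableEq X] (hX : Fintype.card X ≤ 3)
    (g : Perm X) (hg : Perm.sign g = 1) : g ^ 3 = 1 := by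
  by_cases h1 : Fintype.card X ≤ 1
  · haveI : Subsingleton X := Fintype.card_le_one_iff_subsingleton.mp h1
    exact Subsingleton.elim _ _
  · push Not at h1
    haveI : Nontrivial X := Fintype.one_lt_card_iff_nontrivial.mp h1
    have h2 := two_mul_card_alternatingGroup (α := X)
    rw [Fintype.card_perm] at h2
    have hdvd : Fintype.card (alternatingGroup X) ∣ 3 := by
      have : Fintype.card X = 2 ∨ Fintype.card X = 3 := by omega
      rcases this with h | h
      · rw [h] at h2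
        have : Fintype.card (alternatingGroup X) = 1 := by
          have : (2 : ℕ).factorial = 2 := rfl
          omega
        rw [this]; norm_num
      · rw [h] at h2
        have : Fintype.card (alternatingGroup X) = 3 := by
          have : (3 : ℕ).factorial = 6 := rfl
          omega
        rw [this]
    have hmem : g ∈ alternatingGroup X := Perm.mem_alternatingGroup.mpr hg
    have h3 : (⟨g, hmem⟩ : alternatingGroup X) ^ 3 = 1 := by
      rw [← orderOf_dvd_iff_pow_eq_one]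
      exact (orderOf_dvd_card).trans hdvd
    have := congrArg (fun z : alternatingGroup X => (z : Perm X)) h3
    simpa using this

theorem caseA_r4 (G : Subgroup (Perm α)) {k p : ℕ} (hp : p.Prime) (hp2 : p ≠ 2) (hk : k ≤ 3)
    (xΔ : Fin 4 ↪ α) (x : Perm α) (hxord : orderOf x = p)
    (hsupp : ∀ ω, ω ∈ x.support ↔ ω ∉ Set.range xΔ) (hcyc : x.cycleFactorsFinset.card = k)
    (hcomm : ∀ σ τ : Perm (Fin 4), ∃ c ∈ G, Commute c x ∧ ∀ i, c (xΔ i) = xΔ (⁅σ, τ⁆ i)) :
    ∃ w ∈ G, w ≠ 1 ∧ w.support.card ≤ 4 := by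
  set α₁ : Perm (Fin 4) := ⁅(swap 0 1 : Perm (Fin 4)), (swap 1 2 : Perm (Fin 4))⁆ with hα₁
  set α₂ : Perm (Fin 4) := ⁅(swap 0 1 : Perm (Fin 4)), (swap 1 3 : Perm (Fin 4))⁆ with hα₂
  set δ : Perm (Fin 4) := ⁅α₁, α₂⁆ with hδ
  obtain ⟨a, haG, hax, haL⟩ := hcomm (swap 0 1) (swap 1 2)
  obtain ⟨b, hbG, hbx, hbL⟩ := hcomm (swap 0 1) (swap 1 3)
  have ha : a ∈ Subgroup.centralizer {x} := Subgroup.mem_centralizer_singleton_iff.mpr hax.eq
  have hb : b ∈ Subgroup.centralizer {x} := Subgroup.mem_centralizer_singleton_iff.mpr hbx.eq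
  have hv : ⁅a, b⁆ ∈ Subgroup.centralizer {x} := by
    rw [commutatorElement_def]
    exact mul_mem (mul_mem (mul_mem ha hb) (inv_mem ha)) (inv_mem hb)
  have hvG : ⁅a, b⁆ ∈ G := by
    rw [commutatorElement_def]
    exact G.mul_mem (G.mul_mem (G.mul_mem haG hbG) (G.inv_mem haG)) (G.inv_mem hbG)
  have hvL : ∀ i, ⁅a, b⁆ (xΔ i) = xΔ (δ i) := by
    rw [commutatorElement_def, hδ, commutatorElement_def]
    exact lift_mul xΔ _ _ _ _ (lift_mul xΔ _ _ _ _ (lift_mul xΔ _ _ _ _ haL hbL)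
      (lift_inv xΔ _ _ haL)) (lift_inv xΔ _ _ hbL)
  have hm : (Perm.OnCycleFactors.toPermHom x ⟨⁅a, b⁆, hv⟩) ^ 3 = 1 := by
    have e1 : (⟨⁅a, b⁆, hv⟩ : Subgroup.centralizer {x}) =
        ⁅(⟨a, ha⟩ : Subgroup.centralizer {x}), (⟨b, hb⟩ : Subgroup.centralizer {x})⁆ := by
      apply Subtype.ext
      simp [commutatorElement_def]
    rw [e1, map_commutatorElement]
    apply pow_three_of_sign
    · rw [Fintype.card_coe, hcyc]; exact hk
    · rw [map_commutatorElement, commutatorElement_eq_one_iff_commute]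
      exact Commute.all _ _
  have hker := pow_mem_ker x _ hv 3 hm
  have hδ2 : δ ^ 2 = 1 := by decide +kernel
  have hδ1 : δ ≠ 1 := by decide +kernel
  haveI : Fact (Nat.Prime 2) := ⟨by norm_num⟩
  have hδord : orderOf δ = 2 := orderOf_eq_prime hδ2 hδ1
  refine finish_of_ker G hp xΔ x hxord hsupp (⁅a, b⁆ ^ 3) (G.pow_mem hvG 3) hker (δ ^ 3)
    (lift_pow xΔ _ δ hvL 3) ?_
  rw [← pow_mul, Ne, ← orderOf_dvd_iff_pow_eq_one, hδord]
  intro hdvd
  have hodd := hp.eq_two_or_odd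
  omega

end Cfsg.Agent.Helper60.Miller
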