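import Mathlib
import Cfsg.Agent.S4219

set_option autoImplicit false
open Equiv MulAction

namespace Cfsg.Agent.Helper60.Miller

variable {α : Type*} [Fintype α]

/-- Order of a `t`-transitive group: `|G| = n(n-1)⋯(n-t+1) · |G_x|`. -/
theorem card_eq_descFactorial_mul {G : Type*} [Group G] [Finite G] [MulAction G α] {t : ℕ}
    (hG : IsMultiplyPretransitive G α t) (y : Fin t ↪ α) :
    Nat.card G = (Fintype.card α).descFactorial t * Nat.card (stabilizer G y) := by
  have : IsPretransitive G (Fin t ↪ α) := hG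
  rw [← Subgroup.card_mul_index (stabilizer G y), index_stabilizer_of_transitive,
     Nat.card_eq_fintype_card (α := Fin t ↪ α), Fintype.card_embedding_eq, Fintype.card_fin,
     mul_comm]

/-- The same for subgroups of `Perm α` (with the instance path obtained by elaborating
`stabilizer G y` directly). -/
theorem card_eq_descFactorial_mul' (G : Subgroup (Perm α)) {t : ℕ}
    (hG : IsMultiplyPretransitive G α t) (y : Fin t ↪ α) :
    Nat.card G = (Fintype.card α).descFactorial t * Nat.card (stabilizer G y) :=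
  card_eq_descFactorial_mul hG y

/-- Witt's lemma, packaged for subgroups of `Perm α`. -/
theorem witt_perm (G : Subgroup (Perm α)) {t : ℕ} (hG : IsMultiplyPretransitive G α t)
    (x : Fin t ↪ α) (p : ℕ) [Fact p.Prime] :
    ∃ Q : Subgroup (Perm α), Q ≤ G ∧ IsPGroup p Q ∧ (∀ q ∈ Q, ∀ i, q (x i) = x i) ∧
      Nat.card Q = p ^ (Nat.card (stabilizer G x)).factorization p ∧
      ∀ a b : Fin t ↪ α, (∀ i, ∀ q ∈ Q, q (a i) = a i) → (∀ i, ∀ q ∈ Q, q (b i) = b i) →
        ∃ g ∈ G, g ∈ Subgroup.normalizer (Q : Set (Perm α)) ∧ ∀ i, g (a i) = b i := by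
  obtain ⟨P⟩ : Nonempty (Sylow p (stabilizer G x)) := inferInstance
  set Q₁ : Subgroup G := (P : Subgroup (stabilizer G x)).map (stabilizer G x).subtype with hQ₁
  refine ⟨Q₁.map G.subtype, ?_, ?_, ?_, ?_, ?_⟩
  · rintro _ ⟨q, _, rfl⟩
    exact q.2
  · exact (P.isPGroup'.map _).map _
  · rintro _ ⟨q, ⟨s, _, rfl⟩, rfl⟩ i
    have h := s.2
    rw [mem_stabilizer_iff] at h
    have := congrArg (fun e : Fin t ↪ α => e i) h
    exact this
  · rw [Subgroup.card_map_of_injective (Subgroup.subtype_injective _), hQ₁,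
      Subgroup.card_map_of_injective (Subgroup.subtype_injective _)]
    exact P.card_eq_multiplicity
  · intro a b ha hb
    have ha' : ∀ i, a i ∈ fixedPoints Q₁ α := by
      intro i
      rw [mem_fixedPoints]
      intro q
      exact ha i _ ⟨q.1, q.2, rfl⟩
    have hb' : ∀ i, b i ∈ fixedPoints Q₁ α := by
      intro i
      rw [mem_fixedPoints]
      intro q
      exact hb i _ ⟨q.1, q.2, rfl⟩
    obtain ⟨g, hgN, hg⟩ := Cfsg.Agent.S4219.result hG x P a b ha' hb'
    refine ⟨g.1, g.2, ?_, ?_⟩
    · apply Subgroup.mem_normalizer_fintype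
      rintro _ ⟨q, hq, rfl⟩
      rw [Subgroup.mem_normalizer_iff] at hgN
      exact ⟨g * q * g⁻¹, (hgN q).mp hq, rfl⟩
    · intro i
      have := congrArg (fun e : Fin t ↪ α => e i) hg
      exact this

end Cfsg.Agent.Helper60.Miller
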