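import Mathlib
import Cfsg.Agent.Lib.Helper60.MillerWitt
import Cfsg.Agent.Lib.Helper60.MillerAux
import Cfsg.Agent.Lib.Helper60.MillerA1

set_option autoImplicit false
set_option linter.unusedSectionVars false
set_option linter.unusedVariables false
set_option linter.style.haveILetI false
open Equiv MulAction
open scoped commutatorElement

namespace Cfsg.Agent.Helper60.Miller

variable {α : Type*} [Fintype α] [DecidableEq α]

theorem caseA_setup (G : Subgroup (Perm α)) {k p r : ℕ} (hp : p.Prime)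
    (hn : Fintype.card α = k * p + r) (hk : 1 ≤ k) (hpk : k < p)
    (hG : IsMultiplyPretransitive G α (r + 1))
    (hA : ∀ g ∈ G, orderOf g = p → k * p ≤ g.support.card) :
    ∃ (xΔ : Fin r ↪ α) (x : Perm α), x ∈ G ∧ orderOf x = p ∧
      (∀ ω, ω ∈ x.support ↔ ω ∉ Set.range xΔ) ∧ x.cycleFactorsFinset.card = k ∧
      (∀ σ τ : Perm (Fin r), ∃ c ∈ G, Commute c x ∧ ∀ i, c (xΔ i) = xΔ (⁅σ, τ⁆ i)) := by
  classical
  haveI : Fact p.Prime := ⟨hp⟩
  have hkp : 1 ≤ k * p := Nat.mul_pos hk hp.pos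
  have hcard : Nat.card α = k * p + r := by rw [Nat.card_eq_fintype_card, hn]
  have hGr : IsMultiplyPretransitive G α r :=
    isMultiplyPretransitive_of_le (n := r + 1) (by omega) (by rw [hcard]; omega)
  obtain ⟨xP⟩ : Nonempty (Fin (r + 1) ↪ α) :=
    Function.Embedding.nonempty_of_card_le (by rw [Fintype.card_fin, hn]; omega)
  set xΔ : Fin r ↪ α := Fin.castSuccEmb.trans xP with hxΔ
  -- orders
  have h1 := card_eq_descFactorial_mul' G hG xP
  have h2 := card_eq_descFactorial_mul' G hGr xΔ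
  have hH : Nat.card (stabilizer G xΔ) = k * p * Nat.card (stabilizer G xP) := by
    rw [Nat.descFactorial_succ, hn] at h1
    have h3 : (k * p + r) - r = k * p := by omega
    rw [h3] at h1
    have hpos : 0 < (k * p + r).descFactorial r :=
      Nat.pos_of_ne_zero (by rw [Ne, Nat.descFactorial_eq_zero_iff_lt]; omega)
    rw [hn] at h2
    have : (k * p + r).descFactorial r * Nat.card (stabilizer G xΔ) =
        (k * p + r).descFactorial r * (k * p * Nat.card (stabilizer G xP)) := by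
      exact h2.symm.trans (h1.trans (by ring))
    exact Nat.eq_of_mul_eq_mul_left hpos this
  have hU : ¬ p ∣ Nat.card (stabilizer G xP) := by
    intro hdvd
    obtain ⟨y, hy⟩ := exists_prime_orderOf_dvd_card' p hdvd
    have hyG : ((y : G) : Perm α) ∈ G := (y : G).2
    have hord : orderOf ((y : G) : Perm α) = p := by
      rw [Subgroup.orderOf_coe, Subgroup.orderOf_coe, hy]
    have hsupp := hA _ hyG hord
    have hfix : ∀ i, ((y : G) : Perm α) (xP i) = xP i := by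
      intro i
      have h := y.2
      rw [mem_stabilizer_iff] at h
      exact congrArg (fun e : Fin (r + 1) ↪ α => e i) h
    have hsub : ((y : G) : Perm α).support ⊆ (Finset.univ.map xP)ᶜ := by
      intro ω hω
      rw [Finset.mem_compl, Finset.mem_map]
      rintro ⟨i, -, rfl⟩
      exact (Perm.mem_support.mp hω) (hfix i)
    have := Finset.card_le_card hsub
    rw [Finset.card_compl, Finset.card_map, Finset.card_univ, Fintype.card_fin, hn] at this
    omega
  obtain ⟨Q, hQG, hQp, hQfix, hQcard, hW⟩ := witt_perm G hGr xΔ p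
  have hfac : (Nat.card (stabilizer G xΔ)).factorization p = 1 := by
    have hk0 : k ≠ 0 := by omega
    have hu0 : Nat.card (stabilizer G xP) ≠ 0 := Nat.card_pos.ne'
    rw [hH, Nat.factorization_mul (Nat.mul_ne_zero hk0 hp.ne_zero) hu0,
      Nat.factorization_mul hk0 hp.ne_zero]
    simp only [Finsupp.coe_add, Pi.add_apply]
    rw [hp.factorization_self, Nat.factorization_eq_zero_of_not_dvd hU,
      Nat.factorization_eq_zero_of_not_dvd (Nat.not_dvd_of_pos_of_lt (by omega) hpk)]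
  rw [hfac, pow_one] at hQcard
  -- generator
  haveI : IsCyclic Q := isCyclic_of_prime_card hQcard
  obtain ⟨g₀, hg₀⟩ := IsCyclic.exists_generator (α := Q)
  have hg₀ord : orderOf g₀ = p := by rw [orderOf_eq_card_of_forall_mem_zpowers hg₀, hQcard]
  set x : Perm α := (g₀ : Perm α) with hx
  have hxQ : x ∈ Q := g₀.2
  have hxG : x ∈ G := hQG hxQ
  have hxord : orderOf x = p := by rw [hx, Subgroup.orderOf_coe, hg₀ord]
  have hQz : ∀ q ∈ Q, ∃ i : ℤ, x ^ i = q := by
    intro q hq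
    obtain ⟨i, hi⟩ := Subgroup.mem_zpowers_iff.mp (hg₀ ⟨q, hq⟩)
    refine ⟨i, ?_⟩
    have := congrArg (fun z : Q => (z : Perm α)) hi
    simpa using this
  have hxfix : ∀ i, x (xΔ i) = xΔ i := fun i => hQfix x hxQ i
  have hsub : x.support ⊆ (Finset.univ.map xΔ)ᶜ := by
    intro ω hω
    rw [Finset.mem_compl, Finset.mem_map]
    rintro ⟨i, -, rfl⟩
    exact (Perm.mem_support.mp hω) (hxfix i)
  have hsuppeq : x.support = (Finset.univ.map xΔ)ᶜ := by
    apply Finset.eq_of_subset_of_card_le hsub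
    rw [Finset.card_compl, Finset.card_map, Finset.card_univ, Fintype.card_fin, hn]
    have := hA x hxG hxord
    omega
  have hsupp : ∀ ω, ω ∈ x.support ↔ ω ∉ Set.range xΔ := by
    intro ω
    rw [hsuppeq, Finset.mem_compl, Finset.mem_map]
    simp [Set.mem_range]
  have hsuppcard : x.support.card = k * p := by
    rw [hsuppeq, Finset.card_compl, Finset.card_map, Finset.card_univ, Fintype.card_fin, hn]
    omega
  have hcyc : x.cycleFactorsFinset.card = k := by
    obtain ⟨m, hm⟩ := Perm.cycleType_prime_order (σ := x) (by rw [hxord]; exact hp)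
    have hs := x.sum_cycleType
    rw [hm, Multiset.sum_replicate, hxord, hsuppcard, smul_eq_mul] at hs
    have hmk : m + 1 = k := Nat.eq_of_mul_eq_mul_right hp.pos hs
    have hc : Multiset.card x.cycleType = x.cycleFactorsFinset.card := by
      rw [Perm.cycleType_def, Multiset.card_map]; rfl
    rw [← hc, hm, Multiset.card_replicate, hmk]
  -- lifting
  have hlift : ∀ σ : Perm (Fin r), ∃ g ∈ G, g ∈ Subgroup.normalizer (Q : Set (Perm α)) ∧
      ∀ i, g (xΔ i) = xΔ (σ i) := by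
    intro σ
    have := hW xΔ (σ.toEmbedding.trans xΔ) (fun i q hq => hQfix q hq i)
      (fun i q hq => hQfix q hq _)
    simpa using this
  have hconj : ∀ g ∈ Subgroup.normalizer (Q : Set (Perm α)), ∃ i : ℤ, g * x * g⁻¹ = x ^ i := by
    intro g hg
    rw [Subgroup.mem_normalizer_iff] at hg
    obtain ⟨i, hi⟩ := hQz _ ((hg x).mp hxQ)
    exact ⟨i, hi.symm⟩
  refine ⟨xΔ, x, hxG, hxord, hsupp, hcyc, ?_⟩
  intro σ τ
  obtain ⟨g₁, hg₁G, hg₁N, hg₁⟩ := hlift σ⁻¹
  obtain ⟨g₂, hg₂G, hg₂N, hg₂⟩ := hlift τ⁻¹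
  obtain ⟨a, ha⟩ := hconj g₁ hg₁N
  obtain ⟨b, hb⟩ := hconj g₂ hg₂N
  have hinv : ∀ (g : Perm α) (ρ : Perm (Fin r)), (∀ i, g (xΔ i) = xΔ (ρ i)) →
      ∀ i, g⁻¹ (xΔ i) = xΔ (ρ⁻¹ i) := by
    intro g ρ h i
    rw [Perm.inv_eq_iff_eq, h]; simp
  refine ⟨g₁⁻¹ * g₂⁻¹ * g₁ * g₂, ?_, ?_, ?_⟩
  · exact G.mul_mem (G.mul_mem (G.mul_mem (G.inv_mem hg₁G) (G.inv_mem hg₂G)) hg₁G) hg₂G
  · have e1 : (g₁ * g₂) * x * (g₁ * g₂)⁻¹ = x ^ (a * b) := by
      calc (g₁ * g₂) * x * (g₁ * g₂)⁻¹ = g₁ * (g₂ * x * g₂⁻¹) * g₁⁻¹ := by group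
        _ = g₁ * x ^ b * g₁⁻¹ := by rw [hb]
        _ = (g₁ * x * g₁⁻¹) ^ b := conj_zpow.symm
        _ = x ^ (a * b) := by rw [ha, zpow_mul]
    have e2 : (g₂ * g₁) * x * (g₂ * g₁)⁻¹ = x ^ (a * b) := by
      calc (g₂ * g₁) * x * (g₂ * g₁)⁻¹ = g₂ * (g₁ * x * g₁⁻¹) * g₂⁻¹ := by group
        _ = g₂ * x ^ a * g₂⁻¹ := by rw [ha]
        _ = (g₂ * x * g₂⁻¹) ^ a := conj_zpow.symm
        _ = x ^ (a * b) := by rw [hb, ← zpow_mul, mul_comm]
    have e3 : (g₁ * g₂) * x * (g₁ * g₂)⁻¹ = (g₂ * g₁) * x * (g₂ * g₁)⁻¹ := e1.trans e2.symm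
    rw [commute_iff_eq]
    have : g₁⁻¹ * g₂⁻¹ * g₁ * g₂ * x = (g₂ * g₁)⁻¹ * ((g₁ * g₂) * x * (g₁ * g₂)⁻¹) * (g₁ * g₂) := by
      group
    rw [this, e3]
    group
  · intro i
    simp only [Perm.mul_apply]
    rw [hg₂, hg₁, hinv g₂ _ hg₂, hinv g₁ _ hg₁]
    simp [commutatorElement_def, Perm.mul_apply]

theorem pow_odd_apply_of_swap {X : Type*} (f : Perm X) {u v : X} (huv : f u = v) (hvu : f v = u)
    (m : ℕ) : (f ^ (2 * m + 1)) u = v := by
  induction m with
  | zero => simpa using huv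
  | succ m ih =>
    have : 2 * (m + 1) + 1 = (2 * m + 1) + 2 := by ring
    rw [this, pow_add, Perm.mul_apply, pow_two, Perm.mul_apply, huv, hvu, ih]

theorem caseA_r5 (G : Subgroup (Perm α)) {k p r : ℕ} (hp : p.Prime) (hp2 : p ≠ 2) (hk : 2 ≤ k)
    (hrk : k < r) (hr : 5 ≤ r)
    (xΔ : Fin r ↪ α) (x : Perm α) (hxord : orderOf x = p)
    (hsupp : ∀ ω, ω ∈ x.support ↔ ω ∉ Set.range xΔ) (hcyc : x.cycleFactorsFinset.card = k)
    (hcomm : ∀ σ τ : Perm (Fin r), ∃ c ∈ G, Commute c x ∧ ∀ i, c (xΔ i) = xΔ (⁅σ, τ⁆ i)) :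
    ∃ w ∈ G, w ≠ 1 ∧ w.support.card ≤ r := by
  classical
  -- the subgroup of permutations of `Δ` induced by the centralizer of `x` in `G`
  let Sx : Subgroup (Perm (Fin r)) :=
    { carrier := {σ | ∃ c ∈ G, Commute c x ∧ ∀ i, c (xΔ i) = xΔ (σ i)}
      one_mem' := ⟨1, G.one_mem, Commute.one_left x, fun i => by simp⟩
      mul_mem' := by
        rintro σ τ ⟨c, hcG, hcx, hcL⟩ ⟨d, hdG, hdx, hdL⟩
        exact ⟨c * d, G.mul_mem hcG hdG, hcx.mul_left hdx, lift_mul xΔ _ _ _ _ hcL hdL⟩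
      inv_mem' := by
        rintro σ ⟨c, hcG, hcx, hcL⟩
        exact ⟨c⁻¹, G.inv_mem hcG, hcx.inv_left, lift_inv xΔ _ _ hcL⟩ }
  have hSx : alternatingGroup (Fin r) ≤ Sx := by
    rw [← alternatingGroup.commutator_perm_eq (by simpa using hr), commutator_eq_closure,
      Subgroup.closure_le]
    rintro _ ⟨σ, τ, rfl⟩
    exact hcomm σ τ
  -- the subgroup induced by the kernel of the action on the cycles
  let ES : Subgroup (Perm (Fin r)) :=
    { carrier := {σ | ∃ e ∈ G, (∀ t ∈ x.cycleFactorsFinset, Commute e t) ∧ Commute e x ∧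
        ∀ i, e (xΔ i) = xΔ (σ i)}
      one_mem' := ⟨1, G.one_mem, fun t _ => Commute.one_left t, Commute.one_left x, fun i => by simp⟩
      mul_mem' := by
        rintro σ τ ⟨c, hcG, hct, hcx, hcL⟩ ⟨d, hdG, hdt, hdx, hdL⟩
        exact ⟨c * d, G.mul_mem hcG hdG, fun t ht => (hct t ht).mul_left (hdt t ht),
          hcx.mul_left hdx, lift_mul xΔ _ _ _ _ hcL hdL⟩
      inv_mem' := by
        rintro σ ⟨c, hcG, hct, hcx, hcL⟩
        exact ⟨c⁻¹, G.inv_mem hcG, fun t ht => (hct t ht).inv_left, hcx.inv_left,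
          lift_inv xΔ _ _ hcL⟩ }
  have hconjES : ∀ σ ∈ ES, ∀ τ ∈ Sx, τ * σ * τ⁻¹ ∈ ES := by
    rintro σ ⟨e, heG, het, hex, heL⟩ τ ⟨c, hcG, hcx, hcL⟩
    have hc : c ∈ Subgroup.centralizer {x} := Subgroup.mem_centralizer_singleton_iff.mpr hcx.eq
    have he : e ∈ Subgroup.centralizer {x} := Subgroup.mem_centralizer_singleton_iff.mpr hex.eq
    have hek : (⟨e, he⟩ : Subgroup.centralizer {x}) ∈ (Perm.OnCycleFactors.toPermHom x).ker :=
      (Perm.OnCycleFactors.mem_ker_toPermHom_iff x _).mpr het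
    have hnk := (MonoidHom.normal_ker (Perm.OnCycleFactors.toPermHom x)).conj_mem _ hek ⟨c, hc⟩
    have := (Perm.OnCycleFactors.mem_ker_toPermHom_iff x _).mp hnk
    refine ⟨c * e * c⁻¹, G.mul_mem (G.mul_mem hcG heG) (G.inv_mem hcG), ?_,
      (hcx.mul_left hex).mul_left hcx.inv_left, ?_⟩
    · simpa using this
    · exact lift_mul xΔ _ _ _ _ (lift_mul xΔ _ _ _ _ hcL heL) (lift_inv xΔ _ _ hcL)
  -- pigeonhole
  have hAlt : ∀ σ : alternatingGroup (Fin r), ∃ c, c ∈ G ∧ Commute c x ∧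
      ∀ i, c (xΔ i) = xΔ (σ.1 i) := fun σ => by
    obtain ⟨c, h1, h2, h3⟩ := hSx σ.2
    exact ⟨c, h1, h2, h3⟩
  choose cσ hcσG hcσx hcσL using hAlt
  have hcσc : ∀ σ, cσ σ ∈ Subgroup.centralizer {x} := fun σ =>
    Subgroup.mem_centralizer_singleton_iff.mpr (hcσx σ).eq
  have hcards : Fintype.card (Perm x.cycleFactorsFinset) < Fintype.card (alternatingGroup (Fin r)) := by
    haveI : Nontrivial (Fin r) := Fin.nontrivial_iff_two_le.mpr (by omega)
    have h2 := two_mul_card_alternatingGroup (α := Fin r)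
    rw [Fintype.card_perm, Fintype.card_fin] at h2
    rw [Fintype.card_perm, Fintype.card_coe, hcyc]
    have h3 : (k + 1).factorial ≤ r.factorial := Nat.factorial_le (by omega)
    rw [Nat.factorial_succ] at h3
    have h4 : 3 * k.factorial ≤ (k + 1) * k.factorial := Nat.mul_le_mul_right _ (by omega)
    have h5 := Nat.factorial_pos k
    omega
  obtain ⟨σ, σ', hne, heq⟩ := Fintype.exists_ne_map_eq_of_card_lt
    (fun σ : alternatingGroup (Fin r) => Perm.OnCycleFactors.toPermHom x ⟨cσ σ, hcσc σ⟩) hcards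
  have hmemES : σ.1 * σ'.1⁻¹ ∈ ES := by
    have hk : (⟨cσ σ, hcσc σ⟩ * ⟨cσ σ', hcσc σ'⟩⁻¹ : Subgroup.centralizer {x}) ∈
        (Perm.OnCycleFactors.toPermHom x).ker := by
      rw [MonoidHom.mem_ker, map_mul, map_inv]
      have heq' : Perm.OnCycleFactors.toPermHom x ⟨cσ σ, hcσc σ⟩ =
          Perm.OnCycleFactors.toPermHom x ⟨cσ σ', hcσc σ'⟩ := heq
      rw [heq', mul_inv_cancel]
    have := (Perm.OnCycleFactors.mem_ker_toPermHom_iff x _).mp hk
    refine ⟨cσ σ * (cσ σ')⁻¹, G.mul_mem (hcσG σ) (G.inv_mem (hcσG σ')), ?_,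
      (hcσx σ).mul_left (hcσx σ').inv_left, ?_⟩
    · simpa using this
    · exact lift_mul xΔ _ _ _ _ (hcσL σ) (lift_inv xΔ _ _ (hcσL σ'))
  -- the normal subgroup of the alternating group
  let R : Subgroup (alternatingGroup (Fin r)) := ES.subgroupOf (alternatingGroup (Fin r))
  have hRn : R.Normal := by
    refine ⟨fun n hn g => ?_⟩
    rw [Subgroup.mem_subgroupOf] at hn ⊢
    have := hconjES _ hn g.1 (hSx g.2)
    simpa using this
  haveI := alternatingGroup.isSimpleGroup (α := Fin r) (by simpa using hr)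
  have hRtop : R = ⊤ := by
    rcases hRn.eq_bot_or_eq_top with h | h
    · exfalso
      have hmem : σ * σ'⁻¹ ∈ R := by
        rw [Subgroup.mem_subgroupOf]
        simpa using hmemES
      rw [h, Subgroup.mem_bot, mul_inv_eq_one] at hmem
      exact hne hmem
    · exact h
  -- a double transposition
  let a0 : Fin r := ⟨0, by omega⟩
  let a1 : Fin r := ⟨1, by omega⟩
  let a2 : Fin r := ⟨2, by omega⟩
  let a3 : Fin r := ⟨3, by omega⟩
  have h01 : a0 ≠ a1 := by simp [a0, a1, Fin.ext_iff]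
  have h02 : a0 ≠ a2 := by simp [a0, a2, Fin.ext_iff]
  have h03 : a0 ≠ a3 := by simp [a0, a3, Fin.ext_iff]
  have h12 : a1 ≠ a2 := by simp [a1, a2, Fin.ext_iff]
  have h13 : a1 ≠ a3 := by simp [a1, a3, Fin.ext_iff]
  have h23 : a2 ≠ a3 := by simp [a2, a3, Fin.ext_iff]
  set σ₀ : Perm (Fin r) := swap a0 a1 * swap a2 a3 with hσ₀
  have hσ₀A : σ₀ ∈ alternatingGroup (Fin r) := by
    rw [Perm.mem_alternatingGroup, hσ₀, map_mul, Perm.sign_swap h01, Perm.sign_swap h23]
    rfl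
  have hσ₀ES : σ₀ ∈ ES := by
    have : (⟨σ₀, hσ₀A⟩ : alternatingGroup (Fin r)) ∈ R := by rw [hRtop]; trivial
    rw [Subgroup.mem_subgroupOf] at this
    exact this
  obtain ⟨e, heG, het, -, heL⟩ := hσ₀ES
  refine finish_of_ker G hp xΔ x hxord hsupp e heG het σ₀ heL ?_
  have h0 : σ₀ a0 = a1 := by
    rw [hσ₀, Perm.mul_apply, swap_apply_of_ne_of_ne h02 h03, swap_apply_left]
  have h1 : σ₀ a1 = a0 := by
    rw [hσ₀, Perm.mul_apply, swap_apply_of_ne_of_ne h12 h13, swap_apply_right]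
  obtain ⟨m, hm⟩ : ∃ m, p = 2 * m + 1 := by
    rcases hp.eq_two_or_odd with h | h
    · exact absurd h hp2
    · exact ⟨p / 2, by omega⟩
  intro hcon
  have := pow_odd_apply_of_swap σ₀ h0 h1 m
  rw [← hm, hcon, Perm.one_apply] at this
  exact h01 this

/-- Case A of Miller's theorem: no element of order `p` of `G` fixes more than `r` points. -/
theorem caseA (G : Subgroup (Perm α)) {k p r : ℕ} (hp : p.Prime)
    (hn : Fintype.card α = k * p + r) (hk : 2 ≤ k) (hpk : k < p) (hrk : k < r)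
    (hG : IsMultiplyPretransitive G α (r + 1))
    (hA : ∀ g ∈ G, orderOf g = p → k * p ≤ g.support.card)
    (hex : ¬ (r = 3 ∧ p = 3)) :
    ∃ w ∈ G, w ≠ 1 ∧ w.support.card ≤ r := by
  obtain ⟨xΔ, x, hxG, hxord, hsupp, hcyc, hcomm⟩ := caseA_setup G hp hn (by omega) hpk hG hA
  have hp2 : p ≠ 2 := by omega
  rcases (show r = 3 ∨ r = 4 ∨ 5 ≤ r by omega) with h | h | h
  · subst h
    have : k = 2 := by omega
    subst this
    exact caseA_r3 G hp (fun h => hex ⟨rfl, h⟩) xΔ x hxord hsupp hcyc hcomm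
  · subst h
    exact caseA_r4 G hp hp2 (by omega) xΔ x hxord hsupp hcyc hcomm
  · exact caseA_r5 G hp hp2 hk hrk h xΔ x hxord hsupp hcyc hcomm

/-- The case `k = 1`: `G` contains a `p`-cycle. -/
theorem case_k1 (G : Subgroup (Perm α)) {p r : ℕ} (hp : p.Prime)
    (hn : Fintype.card α = 1 * p + r)
    (hG : IsMultiplyPretransitive G α (r + 1)) :
    ∃ x ∈ G, x.IsCycle ∧ x.support.card = p := by
  have hA : ∀ g ∈ G, orderOf g = p → 1 * p ≤ g.support.card := by
    intro g _ hg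
    obtain ⟨m, hm⟩ := Perm.cycleType_prime_order (σ := g) (by rw [hg]; exact hp)
    have hs := g.sum_cycleType
    rw [hm, Multiset.sum_replicate, hg, smul_eq_mul] at hs
    rw [← hs, one_mul]
    exact Nat.le_mul_of_pos_left p (Nat.succ_pos m)
  obtain ⟨xΔ, x, hxG, hxord, hsupp, hcyc, -⟩ :=
    caseA_setup G hp hn le_rfl hp.one_lt hG hA
  have hc : x.IsCycle := by
    rw [← Perm.card_cycleType_eq_one, Perm.cycleType_def, Multiset.card_map]
    exact hcyc
  exact ⟨x, hxG, hc, by rw [← hc.orderOf, hxord]⟩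

end Cfsg.Agent.Helper60.Miller
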