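import Mathlib
import Cfsg.Agent.Lib.Helper60.MillerAux

set_option autoImplicit false
set_option linter.unusedSectionVars false
set_option linter.unusedVariables false
set_option linter.style.haveILetI false
open Equiv MulAction
open scoped commutatorElement

namespace Cfsg.Agent.Helper60.Miller

/-- The commutator of a permutation `c` with its conjugate by a transposition `(u v)`, where
`c` fixes `v`, is a double transposition. -/
theorem commutator_conj_swap {X : Type*} [DecidableEq X] (c : Perm X) {u v : X}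
    (hv : c v = v) (hu : c u ≠ u) (hu2 : c (c u) ≠ u) :
    c * (swap u v * c * (swap u v)⁻¹) * c⁻¹ * (swap u v * c * (swap u v)⁻¹)⁻¹ =
      swap (c u) (c (c u)) * swap u v := by
  have huv : u ≠ v := by rintro rfl; exact hu hv
  have hcuv : c u ≠ v := by
    intro h; rw [← hv] at h; exact huv (c.injective h)
  have hccuv : c (c u) ≠ v := by
    intro h; rw [← hv] at h; exact hcuv (c.injective h)
  have hccu : c (c u) ≠ c u := fun h => hu (c.injective h)
  set τ := swap u v with hτ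
  have hτinv : τ⁻¹ = τ := swap_inv u v
  have e1 : c * τ * c⁻¹ = swap (c u) v := by
    rw [hτ, ← swap_apply_apply, hv]
  have e2 : c * c * τ * (c * c)⁻¹ = swap (c (c u)) v := by
    rw [hτ, ← swap_apply_apply, Perm.mul_apply, Perm.mul_apply, hv, hv]
  have e3 : swap (c u) v * swap (c (c u)) v * (swap (c u) v)⁻¹ = swap (c (c u)) (c u) := by
    rw [← swap_apply_apply, swap_apply_of_ne_of_ne hccu hccuv, swap_apply_right]
  have key : c * (τ * c * τ⁻¹) * c⁻¹ * (τ * c * τ⁻¹)⁻¹ =
      (c * τ * c⁻¹) * (c * c * τ * (c * c)⁻¹) * (c * τ * c⁻¹)⁻¹ * τ := by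
    rw [hτinv]
    have : (c * τ * c⁻¹)⁻¹ = c * τ * c⁻¹ := by
      rw [mul_inv_rev, mul_inv_rev, inv_inv, hτinv, mul_assoc]
    rw [this]
    have h2 : (τ * c * τ)⁻¹ = τ * c⁻¹ * τ := by
      rw [mul_inv_rev, mul_inv_rev, hτinv, mul_assoc]
    rw [h2]
    group
  rw [key, e1, e2, e3, swap_comm (c (c u)) (c u)]

theorem commutator_conj_swap_ne_one {X : Type*} [DecidableEq X] (c : Perm X) {u v : X}
    (hv : c v = v) (hu : c u ≠ u) (hu2 : c (c u) ≠ u) :
    swap (c u) (c (c u)) * swap u v ≠ 1 := by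
  have huv : u ≠ v := by rintro rfl; exact hu hv
  intro h
  have := congrArg (fun f : Perm X => f v) h
  simp only [Perm.mul_apply, swap_apply_right, Perm.one_apply] at this
  rw [swap_apply_of_ne_of_ne (Ne.symm hu) (Ne.symm hu2)] at this
  exact huv this

theorem commutator_conj_swap_support {X : Type*} [DecidableEq X] [Fintype X] (c : Perm X)
    (u v : X) : (swap (c u) (c (c u)) * swap u v).support.card ≤ 4 := by
  calc (swap (c u) (c (c u)) * swap u v).support.card
      ≤ ((swap (c u) (c (c u))).support ∪ (swap u v).support).card :=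
        Finset.card_le_card (Perm.support_mul_le _ _)
    _ ≤ (swap (c u) (c (c u))).support.card + (swap u v).support.card := Finset.card_union_le _ _
    _ ≤ 2 + 2 := by
        apply Nat.add_le_add
        · by_cases h : c u = c (c u)
          · rw [← h, swap_self]; simp
          · rw [Perm.support_swap h]; exact Finset.card_le_two
        · by_cases h : u = v
          · rw [h, swap_self]; simp
          · rw [Perm.support_swap h]; exact Finset.card_le_two

variable {α : Type*} [Fintype α] [DecidableEq α]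

/-- `Q` a `p`-group of permutations, `g` a `p`-element normalizing `Q`, and both act trivially
outside a set `S` with fewer than `p²` points.  Then `g` centralizes `Q`, `Q` is abelian, and on
every point moved by `Q` the element `g` acts like some element of `Q`. -/
theorem pelement_normalizing (Q : Subgroup (Perm α)) (p : ℕ) [Fact p.Prime] (hQ : IsPGroup p Q)
    (g : Perm α) (a : ℕ) (hg : g ^ (p ^ a) = 1)
    (hgN : g ∈ Subgroup.normalizer (Q : Set (Perm α))) (S : Finset α) (hScard : S.card < p ^ 2)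
    (hSQ : ∀ ω, ω ∉ S → ∀ q ∈ Q, q ω = ω) (hSg : ∀ ω, ω ∉ S → g ω = ω) :
    (∀ q ∈ Q, g * q = q * g) ∧ (∀ q₁ ∈ Q, ∀ q₂ ∈ Q, q₁ * q₂ = q₂ * q₁) ∧
    (∀ ω, (∃ q ∈ Q, q ω ≠ ω) → ∃ q ∈ Q, g ω = q ω) := by
  have hp := (Fact.out : p.Prime)
  have hZ : IsPGroup p (Subgroup.zpowers g) := by
    rintro ⟨h, hh⟩
    obtain ⟨i, rfl⟩ := Subgroup.mem_zpowers_iff.mp hh
    refine ⟨a, ?_⟩
    apply Subtype.ext
    show (g ^ i) ^ (p ^ a) = 1
    rw [← zpow_natCast, ← zpow_mul, mul_comm, zpow_mul, zpow_natCast, hg, one_zpow]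
  have hZN : Subgroup.zpowers g ≤ Subgroup.normalizer (Q : Set (Perm α)) :=
    (Subgroup.zpowers_le).mpr hgN
  set R : Subgroup (Perm α) := Q ⊔ Subgroup.zpowers g with hRdef
  have hR : IsPGroup p R := hQ.to_sup_of_normal_left' hZ hZN
  have hQR : Q ≤ R := le_sup_left
  have hgR : g ∈ R := (le_sup_right : Subgroup.zpowers g ≤ R) (Subgroup.mem_zpowers g)
  have hSR : ∀ ω, ω ∉ S → ∀ h ∈ R, h ω = ω := by
    intro ω hω h hh
    have hle : R ≤ stabilizer (Perm α) ω := by
      apply sup_le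
      · intro q hq; exact hSQ ω hω q hq
      · rw [Subgroup.zpowers_le]; exact hSg ω hω
    exact hle hh
  have horb := pgroup_orbit_le R p hR S hSR hScard
  have hcomm := pgroup_comm R p hR horb
  refine ⟨fun q hq => hcomm g q hgR (hQR hq), fun q₁ h₁ q₂ h₂ => hcomm q₁ q₂ (hQR h₁) (hQR h₂), ?_⟩
  rintro ω ⟨q₀, hq₀, hq₀ω⟩
  have hsub : orbit Q ω ⊆ orbit R ω := by
    rintro _ ⟨q, rfl⟩
    exact ⟨⟨q.1, hQR q.2⟩, rfl⟩
  obtain ⟨m, hm⟩ := hQ.card_orbit ω
  rw [Nat.card_coe_set_eq] at hm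
  have hm1 : m ≠ 0 := by
    rintro rfl
    rw [pow_zero, Set.ncard_eq_one] at hm
    obtain ⟨b, hb⟩ := hm
    have h1 : ω ∈ orbit Q ω := mem_orbit_self ω
    have h2 : q₀ ω ∈ orbit Q ω := ⟨⟨q₀, hq₀⟩, rfl⟩
    rw [hb, Set.mem_singleton_iff] at h1 h2
    exact hq₀ω (h2.trans h1.symm)
  have hge : (orbit R ω).ncard ≤ (orbit Q ω).ncard := by
    rw [hm]
    calc (orbit R ω).ncard ≤ p := horb ω
      _ = p ^ 1 := (pow_one p).symm
      _ ≤ p ^ m := Nat.pow_le_pow_right hp.pos (Nat.one_le_iff_ne_zero.mpr hm1)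
  have heq : orbit Q ω = orbit R ω :=
    Set.eq_of_subset_of_ncard_le hsub hge (Set.toFinite _)
  have hgω : g ω ∈ orbit R ω := ⟨⟨g, hgR⟩, rfl⟩
  rw [← heq] at hgω
  obtain ⟨q, hq⟩ := hgω
  exact ⟨q.1, q.2, hq.symm⟩

end Cfsg.Agent.Helper60.Miller
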