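import Mathlib
import Cfsg.Agent.Lib.Helper60.MillerWitt
import Cfsg.Agent.Lib.Helper60.MillerAux
import Cfsg.Agent.Lib.Helper60.MillerB1

set_option autoImplicit false
set_option linter.unusedSectionVars false
set_option linter.unusedVariables false
set_option linter.style.haveILetI false
open Equiv MulAction
open scoped commutatorElement

namespace Cfsg.Agent.Helper60.Miller

universe u

variable {α : Type u} [Fintype α] [DecidableEq α]

/-- The subgroup of `Perm F` (`F` the fixed points of `Q`) induced by `N_G(Q)`. -/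
def resSub (G Q : Subgroup (Perm α)) : Subgroup (Perm {ω : α // ∀ q ∈ Q, q ω = ω}) where
  carrier := {σ | ∃ g ∈ G, g ∈ Subgroup.normalizer (Q : Set (Perm α)) ∧
    ∀ ω : {ω : α // ∀ q ∈ Q, q ω = ω}, ((σ ω : {ω : α // ∀ q ∈ Q, q ω = ω}) : α) = g ω}
  one_mem' := ⟨1, G.one_mem, Subgroup.one_mem _, fun ω => rfl⟩
  mul_mem' := by
    rintro σ τ ⟨g, hgG, hgN, hg⟩ ⟨h, hhG, hhN, hh⟩
    refine ⟨g * h, G.mul_mem hgG hhG, Subgroup.mul_mem _ hgN hhN, fun ω => ?_⟩
    rw [Perm.mul_apply, Perm.mul_apply, hg, hh]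
  inv_mem' := by
    rintro σ ⟨g, hgG, hgN, hg⟩
    refine ⟨g⁻¹, G.inv_mem hgG, Subgroup.inv_mem _ hgN, fun ω => ?_⟩
    rw [Perm.eq_inv_iff_eq, ← hg]; simp

theorem normalizer_preserves_fix (Q : Subgroup (Perm α)) (g : Perm α)
    (hg : g ∈ Subgroup.normalizer (Q : Set (Perm α))) (ω : α) :
    (∀ q ∈ Q, q (g ω) = g ω) ↔ (∀ q ∈ Q, q ω = ω) := by
  constructor
  · intro h q hq
    have h1 : g * q * g⁻¹ ∈ Q := (Subgroup.mem_normalizer_iff.mp hg q).mp hq
    have := h _ h1
    simpa using this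
  · intro h q hq
    have h1 : g⁻¹ * q * g ∈ Q := (Subgroup.mem_normalizer_iff''.mp hg q).mp hq
    have := h _ h1
    rw [Perm.mul_apply, Perm.mul_apply, Perm.inv_eq_iff_eq] at this
    exact this


/-- Lifting a `p`-element of the induced group to a `p`-element of the normalizer. -/
theorem lift_p (G Q : Subgroup (Perm α)) {p : ℕ} (hp : p.Prime)
    (σ : Perm {ω : α // ∀ q ∈ Q, q ω = ω}) (hσ : σ ∈ resSub G Q) (hσp : σ ^ p = 1) :
    ∃ g ∈ G, g ∈ Subgroup.normalizer (Q : Set (Perm α)) ∧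
      (∀ ω : {ω : α // ∀ q ∈ Q, q ω = ω},
        ((σ ω : {ω : α // ∀ q ∈ Q, q ω = ω}) : α) = g ω) ∧ ∃ a : ℕ, g ^ (p ^ a) = 1 := by
  obtain ⟨g₀, hg₀G, hg₀N, hg₀⟩ := hσ
  obtain ⟨e, a, he, hea⟩ := exists_pow_pelement g₀ (isOfFinOrder_of_finite g₀) hp
  refine ⟨g₀ ^ e, G.pow_mem hg₀G e, Subgroup.pow_mem _ hg₀N e, ?_, a, hea⟩
  have hσe : σ ^ e = σ := by
    conv_lhs => rw [← Nat.div_add_mod e p, he, pow_add, pow_mul, hσp, one_pow, one_mul, pow_one]
  have hres : ∀ n : ℕ, ∀ ω : {ω : α // ∀ q ∈ Q, q ω = ω},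
      (((σ ^ n) ω : {ω : α // ∀ q ∈ Q, q ω = ω}) : α) = (g₀ ^ n) ω := by
    intro n
    induction n with
    | zero => intro ω; simp
    | succ n ih =>
      intro ω
      rw [pow_succ, pow_succ, Perm.mul_apply, Perm.mul_apply, ih, hg₀]
  intro ω
  rw [← hres e ω, hσe]

/-- Case B of Miller's theorem: some element of order `p` fixes at least `r + 1` points. -/
theorem caseB (G : Subgroup (Perm α)) {k p r : ℕ} (hp : p.Prime)
    (hn : Fintype.card α = k * p + r) (hk : 2 ≤ k) (hpk : k < p) (hrk : k < r)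
    (hG : IsMultiplyPretransitive G α (r + 1))
    (hB : ∃ g ∈ G, orderOf g = p ∧ g.support.card < k * p)
    (IH : ∀ (β : Type u) [Fintype β] [DecidableEq β] (M : Subgroup (Perm β)) (j : ℕ),
        Fintype.card β < Fintype.card α → Fintype.card β = j * p + r → 1 ≤ j → j < p → j < r →
        IsMultiplyPretransitive M β (r + 1) → alternatingGroup β ≤ M) :
    ∃ w ∈ G, w ≠ 1 ∧ w.support.card ≤ 4 := by
  classical
  haveI : Fact p.Prime := ⟨hp⟩
  have hp3 : 3 ≤ p := by omega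
  obtain ⟨y, hyG, hyord, hysupp⟩ := hB
  -- an (r+1)-tuple of fixed points of y
  have hfixcard : r + 1 ≤ (y.supportᶜ).card := by rw [Finset.card_compl, hn]; omega
  obtain ⟨xP, hxP⟩ : ∃ xP : Fin (r + 1) ↪ α, ∀ i, y (xP i) = xP i := by
    have : Fintype.card (Fin (r + 1)) ≤ Fintype.card {ω // ω ∈ y.supportᶜ} := by
      rw [Fintype.card_fin, Fintype.card_coe]; exact hfixcard
    obtain ⟨e⟩ := Function.Embedding.nonempty_of_card_le this
    refine ⟨e.trans (Function.Embedding.subtype _), fun i => ?_⟩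
    have := (e i).2
    rw [Finset.mem_compl, Perm.notMem_support] at this
    exact this
  obtain ⟨Q, hQG, hQp, hQfix, hQcard, hW⟩ := witt_perm G hG xP p
  have hQne : ∃ q ∈ Q, q ≠ 1 := by
    have hy' : (⟨y, hyG⟩ : G) ∈ stabilizer G xP := by
      rw [mem_stabilizer_iff]
      ext i
      exact hxP i
    have hdvd : p ∣ Nat.card (stabilizer G xP) := by
      have := orderOf_dvd_natCard (⟨⟨y, hyG⟩, hy'⟩ : stabilizer G xP)
      rw [← Subgroup.orderOf_coe, ← Subgroup.orderOf_coe] at this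
      rw [← hyord]
      exact this
    have hfac : 0 < (Nat.card (stabilizer G xP)).factorization p :=
      hp.factorization_pos_of_dvd Nat.card_pos.ne' hdvd
    have h1 : 1 < Nat.card Q := by
      rw [hQcard]; exact Nat.one_lt_pow (by omega) hp.one_lt
    rw [Subgroup.one_lt_card_iff_ne_bot, Subgroup.ne_bot_iff_exists_ne_one] at h1
    obtain ⟨q, hq⟩ := h1
    exact ⟨q.1, q.2, fun h => hq (Subtype.ext h)⟩
  -- the fixed point set
  have hmod : Fintype.card α ≡ Fintype.card {ω : α // ∀ q ∈ Q, q ω = ω} [MOD p] := by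
    have h := hQp.card_modEq_card_fixedPoints (α := α)
    rw [Nat.card_eq_fintype_card] at h
    have e : (fixedPoints Q α) ≃ {ω : α // ∀ q ∈ Q, q ω = ω} :=
      Equiv.subtypeEquivRight (fun ω => by
        rw [mem_fixedPoints]
        exact ⟨fun h q hq => h ⟨q, hq⟩, fun h q => h q.1 q.2⟩)
    rw [Nat.card_congr e, Nat.card_eq_fintype_card] at h
    exact h
  have hFge : r + 1 ≤ Fintype.card {ω : α // ∀ q ∈ Q, q ω = ω} := by
    have e : Fin (r + 1) ↪ {ω : α // ∀ q ∈ Q, q ω = ω} :=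
      ⟨fun i => ⟨xP i, fun q hq => hQfix q hq i⟩, fun i j h => xP.injective (Subtype.ext_iff.mp h)⟩
    have := Fintype.card_le_of_embedding e
    rwa [Fintype.card_fin] at this
  have hFlt : Fintype.card {ω : α // ∀ q ∈ Q, q ω = ω} < Fintype.card α := by
    obtain ⟨q, hq, hq1⟩ := hQne
    obtain ⟨ω, hω⟩ : ∃ ω, q ω ≠ ω := by
      by_contra hcon
      push Not at hcon
      exact hq1 (Perm.ext hcon)
    exact Fintype.card_subtype_lt (x := ω) (fun h => hω (h q hq))
  set f := Fintype.card {ω : α // ∀ q ∈ Q, q ω = ω} with hf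
  obtain ⟨j, hj⟩ : ∃ j, f = j * p + r := by
    have h1 : r ≡ f [MOD p] := by
      have : k * p + r ≡ r [MOD p] := by
        simp [Nat.ModEq, Nat.add_mod]
      rw [hn] at hmod
      exact this.symm.trans hmod
    have h2 := (Nat.modEq_iff_dvd' (by omega : r ≤ f)).mp h1
    obtain ⟨j, hj⟩ := h2
    exact ⟨j, by rw [mul_comm]; omega⟩
  have hj1 : 1 ≤ j := by
    rcases Nat.eq_zero_or_pos j with h | h
    · subst h; omega
    · exact h
  have hjk : j < k := by
    have : j * p < k * p := by omega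
    exact lt_of_mul_lt_mul_right this (Nat.zero_le p)
  -- the induced group
  have hM : IsMultiplyPretransitive (resSub G Q) {ω : α // ∀ q ∈ Q, q ω = ω} (r + 1) := by
    refine ⟨fun a b => ?_⟩
    obtain ⟨g, hgG, hgN, hg⟩ := hW (a.trans (Function.Embedding.subtype _))
      (b.trans (Function.Embedding.subtype _)) (fun i q hq => (a i).2 q hq)
      (fun i q hq => (b i).2 q hq)
    refine ⟨⟨Perm.subtypePerm g (fun ω => normalizer_preserves_fix Q g hgN ω), g, hgG, hgN,
      fun ω => rfl⟩, ?_⟩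
    ext i
    exact hg i
  have hAlt : alternatingGroup {ω : α // ∀ q ∈ Q, q ω = ω} ≤ resSub G Q :=
    IH _ (resSub G Q) j hFlt hj hj1 (by omega) (by omega) hM
  -- a p-cycle on F
  obtain ⟨c, hc⟩ := (Equiv.Perm.exists_with_cycleType_iff {ω : α // ∀ q ∈ Q, q ω = ω}
    (m := {p})).mpr ⟨by
      simp only [Multiset.sum_singleton]
      have : p ≤ j * p := Nat.le_mul_of_pos_left p hj1
      omega, fun a ha => by
      rw [Multiset.mem_singleton] at ha; omega⟩
  have hcc : c.IsCycle := by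
    rw [← Perm.card_cycleType_eq_one, hc]; rfl
  have hcsupp : c.support.card = p := by
    rw [← Perm.sum_cycleType, hc]; rfl
  have hcord : orderOf c = p := by rw [hcc.orderOf, hcsupp]
  have hcp : c ^ p = 1 := by rw [← hcord]; exact pow_orderOf_eq_one c
  obtain ⟨u, hu⟩ : ∃ u, u ∈ c.support := by
    apply Finset.card_pos.mp; omega
  obtain ⟨v, hv⟩ : ∃ v, v ∉ c.support := by
    by_contra hcon
    push Not at hcon
    have : c.support = Finset.univ := Finset.eq_univ_iff_forall.mpr hcon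
    rw [this, Finset.card_univ] at hcsupp
    have : p ≤ j * p := Nat.le_mul_of_pos_left p hj1
    omega
  rw [Perm.mem_support] at hu
  rw [Perm.notMem_support] at hv
  have hu2 : c (c u) ≠ u := by
    intro h
    have h1 : c ^ 2 = 1 := by
      rw [hcc.pow_eq_one_iff]
      exact ⟨u, hu, by rw [pow_two, Perm.mul_apply, h]⟩
    have := orderOf_dvd_of_pow_eq_one h1
    rw [hcord] at this
    have := Nat.le_of_dvd (by norm_num) this
    omega
  set c₂ := swap u v * c * (swap u v)⁻¹ with hc₂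
  have hcA : c ∈ alternatingGroup {ω : α // ∀ q ∈ Q, q ω = ω} := by
    rw [Perm.mem_alternatingGroup, hcc.sign, hcsupp]
    rcases hp.eq_two_or_odd' with h | h
    · omega
    · rw [h.neg_one_pow]; simp
  have hc₂A : c₂ ∈ alternatingGroup {ω : α // ∀ q ∈ Q, q ω = ω} :=
    (alternatingGroup.normal).conj_mem c hcA (swap u v)
  have hc₂p : c₂ ^ p = 1 := by
    rw [hc₂, conj_pow, hcp]; simp
  have hc₂supp : c₂.support.card = p := by rw [hc₂, Perm.card_support_conj, hcsupp]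
  obtain ⟨g₁, hg₁G, hg₁N, hg₁, a₁, hg₁p⟩ := lift_p G Q hp c (hAlt hcA) hcp
  obtain ⟨g₂, hg₂G, hg₂N, hg₂, a₂, hg₂p⟩ := lift_p G Q hp c₂ (hAlt hc₂A) hc₂p
  -- the structure of `Q⟨g_i⟩`
  have hstruct : ∀ (σ : Perm {ω : α // ∀ q ∈ Q, q ω = ω}) (g : Perm α) (a : ℕ),
      σ.support.card = p → g ∈ Subgroup.normalizer (Q : Set (Perm α)) →
      (∀ ω : {ω : α // ∀ q ∈ Q, q ω = ω}, ((σ ω : {ω : α // ∀ q ∈ Q, q ω = ω}) : α) = g ω) →
      g ^ (p ^ a) = 1 →
      (∀ q ∈ Q, g * q = q * g) ∧ (∀ q₁ ∈ Q, ∀ q₂ ∈ Q, q₁ * q₂ = q₂ * q₁) ∧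
      (∀ ω, (∃ q ∈ Q, q ω ≠ ω) → ∃ q ∈ Q, g ω = q ω) := by
    intro σ g a hσsupp hgN hgσ hga
    set FS : Finset α := Finset.univ.filter (fun ω => ∀ q ∈ Q, q ω = ω) with hFS
    set S : Finset α := FSᶜ ∪ σ.support.map (Function.Embedding.subtype _) with hS
    have hFScard : FS.card = f := by
      rw [hFS, hf, Fintype.card_subtype]
    have hScard : S.card < p ^ 2 := by
      have h1 : S.card ≤ FSᶜ.card + (σ.support.map (Function.Embedding.subtype _)).card :=
        Finset.card_union_le _ _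
      rw [Finset.card_compl, Finset.card_map, hFScard, hσsupp, hn, hj] at h1
      have h2 : (k * p + r) - (j * p + r) + p = (k - j + 1) * p := by
        have : k * p = (k - j) * p + j * p := by
          rw [← Nat.add_mul, Nat.sub_add_cancel hjk.le]
        rw [Nat.add_mul, one_mul]
        omega
      rw [h2] at h1
      have h3 : (k - j + 1) * p ≤ k * p := Nat.mul_le_mul_right p (by omega)
      have h4 : k * p < p * p := Nat.mul_lt_mul_of_pos_right hpk hp.pos
      rw [pow_two]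
      omega
    have hSQ : ∀ ω, ω ∉ S → ∀ q ∈ Q, q ω = ω := by
      intro ω hω q hq
      rw [hS, Finset.mem_union, not_or, Finset.mem_compl, not_not, hFS, Finset.mem_filter] at hω
      exact hω.1.2 q hq
    have hSg : ∀ ω, ω ∉ S → g ω = ω := by
      intro ω hω
      rw [hS, Finset.mem_union, not_or, Finset.mem_compl, not_not, hFS, Finset.mem_filter] at hω
      have hωF := hω.1.2
      have h2 : (⟨ω, hωF⟩ : {ω : α // ∀ q ∈ Q, q ω = ω}) ∉ σ.support := by
        intro hmem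
        exact hω.2 (Finset.mem_map.mpr ⟨⟨ω, hωF⟩, hmem, rfl⟩)
      rw [Perm.notMem_support] at h2
      have := hgσ ⟨ω, hωF⟩
      rw [h2] at this
      exact this.symm
    exact pelement_normalizing Q p hQp g a hga hgN S hScard hSQ hSg
  obtain ⟨hcomm₁, habel, hact₁⟩ := hstruct c g₁ a₁ hcsupp hg₁N hg₁ hg₁p
  obtain ⟨hcomm₂, -, hact₂⟩ := hstruct c₂ g₂ a₂ hc₂supp hg₂N hg₂ hg₂p
  -- g₁ and g₂ commute outside F
  have hout : ∀ ω, (∃ q ∈ Q, q ω ≠ ω) → g₁ (g₂ ω) = g₂ (g₁ ω) := by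
    intro ω hω
    obtain ⟨q₁, hq₁, h1⟩ := hact₁ ω hω
    obtain ⟨q₂, hq₂, h2⟩ := hact₂ ω hω
    have e1 : g₁ (q₂ ω) = q₂ (g₁ ω) := by
      have := congrArg (fun f : Perm α => f ω) (hcomm₁ q₂ hq₂)
      simpa [Perm.mul_apply] using this
    have e2 : g₂ (q₁ ω) = q₁ (g₂ ω) := by
      have := congrArg (fun f : Perm α => f ω) (hcomm₂ q₁ hq₁)
      simpa [Perm.mul_apply] using this
    have e3 : q₂ (q₁ ω) = q₁ (q₂ ω) := by
      have := congrArg (fun f : Perm α => f ω) (habel q₂ hq₂ q₁ hq₁)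
      simpa [Perm.mul_apply] using this
    rw [h2, e1, h1, e2, h2, e3]
  -- the commutator
  set w := g₁ * g₂ * g₁⁻¹ * g₂⁻¹ with hw
  set wbar := c * c₂ * c⁻¹ * c₂⁻¹ with hwbar
  have hwG : w ∈ G :=
    G.mul_mem (G.mul_mem (G.mul_mem hg₁G hg₂G) (G.inv_mem hg₁G)) (G.inv_mem hg₂G)
  have hinvres : ∀ (σ : Perm {ω : α // ∀ q ∈ Q, q ω = ω}) (g : Perm α),
      (∀ ω : {ω : α // ∀ q ∈ Q, q ω = ω}, ((σ ω : {ω : α // ∀ q ∈ Q, q ω = ω}) : α) = g ω) →
      ∀ ω : {ω : α // ∀ q ∈ Q, q ω = ω}, ((σ⁻¹ ω : {ω : α // ∀ q ∈ Q, q ω = ω}) : α) = g⁻¹ ω := by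
    intro σ g h ω
    rw [Perm.eq_inv_iff_eq, ← h]; simp
  have hwres : ∀ ω : {ω : α // ∀ q ∈ Q, q ω = ω},
      ((wbar ω : {ω : α // ∀ q ∈ Q, q ω = ω}) : α) = w ω := by
    intro ω
    rw [hwbar, hw]
    simp only [Perm.mul_apply]
    rw [hg₁, hg₂, hinvres c g₁ hg₁, hinvres c₂ g₂ hg₂]
  have hwbar_eq : wbar = swap (c u) (c (c u)) * swap u v := by
    rw [hwbar, hc₂]
    exact commutator_conj_swap c hv hu hu2
  have hwout : ∀ ω, (∃ q ∈ Q, q ω ≠ ω) → w ω = ω := by
    intro ω hω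
    have hpres : ∀ (g : Perm α), g ∈ Subgroup.normalizer (Q : Set (Perm α)) → ∀ ω',
        (∃ q ∈ Q, q ω' ≠ ω') → ∃ q ∈ Q, q (g⁻¹ ω') ≠ g⁻¹ ω' := by
      intro g hgN ω' hω'
      by_contra hcon
      push Not at hcon
      have := (normalizer_preserves_fix Q g hgN (g⁻¹ ω')).mpr hcon
      simp only [Perm.coe_inv, Equiv.apply_symm_apply] at this
      obtain ⟨q, hq, hqω⟩ := hω'
      exact hqω (this q hq)
    have h1 := hpres g₂ hg₂N ω hω
    have h2 := hpres g₁ hg₁N _ h1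
    have := hout _ h2
    rw [hw]
    simp only [Perm.mul_apply]
    rw [this]
    simp
  refine ⟨w, hwG, ?_, ?_⟩
  · intro h1
    apply commutator_conj_swap_ne_one c hv hu hu2
    rw [← hwbar_eq]
    ext ω
    have := hwres ω
    rw [h1, Perm.one_apply] at this
    rw [Perm.one_apply]
    exact this
  · have hsub : w.support ⊆ wbar.support.map (Function.Embedding.subtype _) := by
      intro ω hω
      rw [Perm.mem_support] at hω
      have hωF : ∀ q ∈ Q, q ω = ω := by
        by_contra hcon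
        push Not at hcon
        exact hω (hwout ω hcon)
      refine Finset.mem_map.mpr ⟨⟨ω, hωF⟩, ?_, rfl⟩
      rw [Perm.mem_support]
      intro h
      apply hω
      have := hwres ⟨ω, hωF⟩
      rw [h] at this
      exact this.symm
    calc w.support.card ≤ (wbar.support.map (Function.Embedding.subtype _)).card :=
          Finset.card_le_card hsub
      _ = wbar.support.card := Finset.card_map _
      _ ≤ 4 := by rw [hwbar_eq]; exact commutator_conj_swap_support c u v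

end Cfsg.Agent.Helper60.Miller
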