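import Mathlib
import Cfsg.Agent.Lib.Helper60.MillerWitt
import Cfsg.Agent.Lib.Helper60.MillerAux

set_option autoImplicit false
set_option linter.unusedSectionVars false
set_option linter.unusedVariables false
set_option linter.style.haveILetI false
open Equiv MulAction

namespace Cfsg.Agent.Helper60.Miller

variable {α : Type*} [Fintype α] [DecidableEq α]

/-- Four pairwise distinct points as an embedding of `Fin 4`. -/
def emb4 (a b c d : α) (h : a ≠ b ∧ a ≠ c ∧ a ≠ d ∧ b ≠ c ∧ b ≠ d ∧ c ≠ d) : Fin 4 ↪ α :=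
  ⟨![a, b, c, d], by
    obtain ⟨h1, h2, h3, h4, h5, h6⟩ := h
    intro i j hij
    fin_cases i <;> fin_cases j <;> simp_all [eq_comm]⟩

theorem exists_map4 (G : Subgroup (Perm α)) (hG : IsMultiplyPretransitive G α 4)
    (a b c d a' b' c' d' : α) (h : a ≠ b ∧ a ≠ c ∧ a ≠ d ∧ b ≠ c ∧ b ≠ d ∧ c ≠ d)
    (h' : a' ≠ b' ∧ a' ≠ c' ∧ a' ≠ d' ∧ b' ≠ c' ∧ b' ≠ d' ∧ c' ≠ d') :
    ∃ g ∈ G, g a = a' ∧ g b = b' ∧ g c = c' ∧ g d = d' := by
  obtain ⟨g, hg⟩ := hG.exists_smul_eq (emb4 a b c d h) (emb4 a' b' c' d' h')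
  refine ⟨g.1, g.2, ?_, ?_, ?_, ?_⟩
  · exact congrArg (fun f : Fin 4 ↪ α => f 0) hg
  · exact congrArg (fun f : Fin 4 ↪ α => f 1) hg
  · exact congrArg (fun f : Fin 4 ↪ α => f 2) hg
  · exact congrArg (fun f : Fin 4 ↪ α => f 3) hg

theorem pow_odd_apply_of_swap' {X : Type*} (f : Perm X) {u v : X} (huv : f u = v) (hvu : f v = u)
    (m : ℕ) : (f ^ (2 * m + 1)) u = v := by
  induction m with
  | zero => simpa using huv
  | succ m ih =>
    have : 2 * (m + 1) + 1 = (2 * m + 1) + 2 := by ring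
    rw [this, pow_add, Perm.mul_apply, pow_two, Perm.mul_apply, huv, hvu, ih]

/-- A 4-transitive group of degree 9 contains a nonidentity element moving at most 5 points. -/
theorem deg9 (G : Subgroup (Perm α)) (hn : Fintype.card α = 9)
    (hG : IsMultiplyPretransitive G α 4) : ∃ w ∈ G, w ≠ 1 ∧ w.support.card ≤ 5 := by
  classical
  by_contra hcon
  push Not at hcon
  have hsmall : ∀ g ∈ G, g.support.card ≤ 5 → g = 1 := fun g hg h => by
    by_contra h1
    have := hcon g hg h1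
    omega
  haveI : Fact (Nat.Prime 7) := ⟨by norm_num⟩
  obtain ⟨x4⟩ : Nonempty (Fin 4 ↪ α) :=
    Function.Embedding.nonempty_of_card_le (by simp [hn])
  have hcardG := card_eq_descFactorial_mul' G hG x4
  have h7 : 7 ∣ Nat.card G := by
    rw [hcardG, hn]
    exact Dvd.dvd.mul_right (by decide : 7 ∣ Nat.descFactorial 9 4) _
  obtain ⟨y', hy'⟩ := exists_prime_orderOf_dvd_card' 7 h7
  set y : Perm α := (y' : Perm α) with hy
  have hyG : y ∈ G := y'.2
  have hyord : orderOf y = 7 := by rw [hy, Subgroup.orderOf_coe, hy']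
  have hyc : y.IsCycle :=
    Perm.isCycle_of_prime_order' (by rw [hyord]; norm_num) (by rw [hyord, hn]; norm_num)
  have hysupp : y.support.card = 7 := by rw [← hyc.orderOf, hyord]
  have hcompl : (y.supportᶜ).card = 2 := by rw [Finset.card_compl, hn, hysupp]
  obtain ⟨a, b, hab, hcab⟩ := Finset.card_eq_two.mp hcompl
  have hmemsupp : ∀ ω, ω ∈ y.support ↔ ω ≠ a ∧ ω ≠ b := by
    intro ω
    have : ω ∈ y.supportᶜ ↔ ω = a ∨ ω = b := by rw [hcab]; simp
    rw [Finset.mem_compl] at this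
    tauto
  have hya : y a = a := by
    have := (hmemsupp a).not.mpr (by simp)
    rwa [Perm.notMem_support] at this
  have hyb : y b = b := by
    have := (hmemsupp b).not.mpr (by simp)
    rwa [Perm.notMem_support] at this
  obtain ⟨c, hc⟩ : ∃ c, c ∈ y.support := Finset.card_pos.mp (by omega)
  have hc' : y c ∈ y.support := Perm.apply_mem_support.mpr hc
  have hcc' : c ≠ y c := fun h => (Perm.mem_support.mp hc) h.symm
  have hca := ((hmemsupp c).mp hc).1
  have hcb := ((hmemsupp c).mp hc).2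
  have hyca := ((hmemsupp _).mp hc').1
  have hycb := ((hmemsupp _).mp hc').2
  -- elements of order 7 fixing a and b are powers of y
  have hclaim : ∀ z ∈ G, orderOf z = 7 → z a = a → z b = b → ∃ n : ℕ, y ^ n = z := by
    intro z hzG hzord hza hzb
    have hfix : ∀ i j : ℕ, (y ^ i * z ^ j) a = a ∧ (y ^ i * z ^ j) b = b := by
      intro i j
      rw [Perm.mul_apply, Perm.mul_apply, Perm.pow_apply_eq_self_of_apply_eq_self hza,
        Perm.pow_apply_eq_self_of_apply_eq_self hzb, Perm.pow_apply_eq_self_of_apply_eq_self hya,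
        Perm.pow_apply_eq_self_of_apply_eq_self hyb]
      exact ⟨rfl, rfl⟩
    have hmemG : ∀ i j : ℕ, y ^ i * z ^ j ∈ G := fun i j =>
      G.mul_mem (G.pow_mem hyG i) (G.pow_mem hzG j)
    let φ : Fin 7 × Fin 7 → α × α := fun ij =>
      ((y ^ (ij.1 : ℕ) * z ^ (ij.2 : ℕ)) c, (y ^ (ij.1 : ℕ) * z ^ (ij.2 : ℕ)) (y c))
    have hmaps : ∀ ij ∈ (Finset.univ : Finset (Fin 7 × Fin 7)), φ ij ∈ y.support.offDiag := by
      intro ij _
      rw [Finset.mem_offDiag]
      obtain ⟨hga, hgb⟩ := hfix ij.1 ij.2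
      refine ⟨?_, ?_, ?_⟩
      · rw [hmemsupp]
        constructor
        · intro h
          exact hca ((y ^ (ij.1 : ℕ) * z ^ (ij.2 : ℕ)).injective (h.trans hga.symm))
        · intro h
          exact hcb ((y ^ (ij.1 : ℕ) * z ^ (ij.2 : ℕ)).injective (h.trans hgb.symm))
      · rw [hmemsupp]
        constructor
        · intro h
          exact hyca ((y ^ (ij.1 : ℕ) * z ^ (ij.2 : ℕ)).injective (h.trans hga.symm))
        · intro h
          exact hycb ((y ^ (ij.1 : ℕ) * z ^ (ij.2 : ℕ)).injective (h.trans hgb.symm))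
      · intro h
        exact hcc' ((y ^ (ij.1 : ℕ) * z ^ (ij.2 : ℕ)).injective h)
    have hlt : (y.support.offDiag).card < (Finset.univ : Finset (Fin 7 × Fin 7)).card := by
      rw [Finset.offDiag_card, hysupp]; simp
    obtain ⟨ij, -, ij', -, hne, heq⟩ := Finset.exists_ne_map_eq_of_card_lt_of_maps_to hlt hmaps
    have hgg' : y ^ (ij.1 : ℕ) * z ^ (ij.2 : ℕ) = y ^ (ij'.1 : ℕ) * z ^ (ij'.2 : ℕ) := by
      set g := y ^ (ij.1 : ℕ) * z ^ (ij.2 : ℕ) with hg
      set g' := y ^ (ij'.1 : ℕ) * z ^ (ij'.2 : ℕ) with hg'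
      have h1 : g c = g' c := congrArg Prod.fst heq
      have h2 : g (y c) = g' (y c) := congrArg Prod.snd heq
      have hh : g'⁻¹ * g = 1 := by
        apply hsmall _ (G.mul_mem (G.inv_mem (hmemG _ _)) (hmemG _ _))
        have hsub : (g'⁻¹ * g).support ⊆ (y.support.erase c).erase (y c) := by
          intro ω hω
          rw [Perm.mem_support, Perm.mul_apply] at hω
          rw [Finset.mem_erase, Finset.mem_erase, hmemsupp]
          refine ⟨?_, ?_, ?_, ?_⟩
          · rintro rfl; exact hω (by rw [h2]; simp)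
          · rintro rfl; exact hω (by rw [h1]; simp)
          · rintro rfl
            apply hω
            rw [(hfix _ _).1, Perm.inv_eq_iff_eq, (hfix _ _).1]
          · rintro rfl
            apply hω
            rw [(hfix _ _).2, Perm.inv_eq_iff_eq, (hfix _ _).2]
        calc (g'⁻¹ * g).support.card ≤ ((y.support.erase c).erase (y c)).card :=
              Finset.card_le_card hsub
          _ = 5 := by
            rw [Finset.card_erase_of_mem (Finset.mem_erase.mpr ⟨hcc'.symm, hc'⟩),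
              Finset.card_erase_of_mem hc, hysupp]
          _ ≤ 5 := le_rfl
      exact (inv_mul_eq_one.mp hh).symm
    have hj : ij.2 ≠ ij'.2 := by
      intro hj
      rw [hj] at hgg'
      have h1 : y ^ (ij.1 : ℕ) = y ^ (ij'.1 : ℕ) := mul_right_cancel hgg'
      have h2 : (ij.1 : ℕ) = ij'.1 :=
        pow_injOn_Iio_orderOf (by rw [Set.mem_Iio, hyord]; exact ij.1.2)
          (by rw [Set.mem_Iio, hyord]; exact ij'.1.2) h1
      exact hne (Prod.ext (Fin.ext h2) hj)
    -- z ^ d is a power of y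
    set d : ℤ := (ij.2 : ℕ) - (ij'.2 : ℕ) with hd
    have hzd : z ^ d = y ^ (((ij'.1 : ℕ) : ℤ) - (ij.1 : ℕ)) := by
      rw [hd, zpow_sub, zpow_sub, zpow_natCast, zpow_natCast, zpow_natCast, zpow_natCast]
      have e1 : z ^ (ij.2 : ℕ) = (y ^ (ij.1 : ℕ))⁻¹ * (y ^ (ij'.1 : ℕ) * z ^ (ij'.2 : ℕ)) := by
        rw [← hgg']; group
      rw [e1]
      have hcomm : Commute (y ^ (ij'.1 : ℕ)) (y ^ (ij.1 : ℕ))⁻¹ :=
        ((Commute.refl y).pow_pow _ _).inv_right
      rw [hcomm.eq]
      group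
    have hd0 : d ≠ 0 := by
      intro h0
      apply hj
      apply Fin.ext
      omega
    have hdabs : d.natAbs < 7 := by
      have h1 := ij.2.2
      have h2 := ij'.2.2
      omega
    have hcop : IsCoprime d 7 := by
      rw [Int.isCoprime_iff_gcd_eq_one]
      have h7p : Nat.Prime 7 := by norm_num
      have : Nat.Coprime 7 d.natAbs := by
        rw [h7p.coprime_iff_not_dvd]
        exact Nat.not_dvd_of_pos_of_lt (Int.natAbs_pos.mpr hd0) hdabs
      rw [Int.gcd_eq_natAbs]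
      exact this.symm
    obtain ⟨A, B, hAB⟩ := hcop
    have hz7 : z ^ (7 : ℤ) = 1 := by
      have : z ^ (7 : ℕ) = 1 := by rw [← hzord]; exact pow_orderOf_eq_one z
      exact_mod_cast this
    have hzz : z = (y ^ (((ij'.1 : ℕ) : ℤ) - (ij.1 : ℕ))) ^ A := by
      rw [← hzd]
      calc z = z ^ (1 : ℤ) := (zpow_one z).symm
        _ = z ^ (A * d + B * 7) := by rw [hAB]
        _ = (z ^ d) ^ A * (z ^ (7 : ℤ)) ^ B := by
            rw [zpow_add, mul_comm A d, zpow_mul, mul_comm B 7, zpow_mul]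
        _ = (z ^ d) ^ A := by rw [hz7, one_zpow, mul_one]
    have hmem : z ∈ Subgroup.zpowers y := by
      rw [hzz]
      exact Subgroup.zpow_mem _ (Subgroup.zpow_mem _ (Subgroup.mem_zpowers y) _) _
    rw [← mem_powers_iff_mem_zpowers, Submonoid.mem_powers_iff] at hmem
    exact hmem
  -- an element swapping a and b
  obtain ⟨s, hsG, hsa, hsb, -, -⟩ := exists_map4 G hG a b c (y c) b a c (y c)
    ⟨hab, hca.symm, hyca.symm, hcb.symm, hycb.symm, hcc'⟩
    ⟨hab.symm, hcb.symm, hycb.symm, hca.symm, hyca.symm, hcc'⟩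
  have hconj_ord : ∀ g : Perm α, orderOf (g * y * g⁻¹) = 7 := by
    intro g
    have := orderOf_injective (MulAut.conj g).toMonoidHom (MulAut.conj g).injective y
    rw [hyord] at this
    exact this
  have hsinv_a : s⁻¹ a = b := by rw [Perm.inv_eq_iff_eq, hsb]
  have hsinv_b : s⁻¹ b = a := by rw [Perm.inv_eq_iff_eq, hsa]
  obtain ⟨i, hi⟩ := hclaim (s * y * s⁻¹) (G.mul_mem (G.mul_mem hsG hyG) (G.inv_mem hsG))
    (hconj_ord s) (by simp [Perm.mul_apply, hsinv_a, hyb, hsb])
    (by simp [Perm.mul_apply, hsinv_b, hya, hsa])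
  have hy1 : y ≠ 1 := by
    intro h
    rw [h, orderOf_one] at hyord
    omega
  have hyic : (y ^ i) c ≠ c := by
    intro h
    have h1 : y ^ i = 1 := hyc.pow_eq_one_iff.mpr ⟨c, Perm.mem_support.mp hc, h⟩
    rw [h1] at hi
    apply hy1
    have : s * y * s⁻¹ = 1 := hi.symm
    rw [mul_inv_eq_one] at this
    exact mul_left_cancel (this.trans (mul_one s).symm)
  have hyic_supp : (y ^ i) c ∈ y.support := Perm.pow_apply_mem_support.mpr hc
  have hyica := ((hmemsupp _).mp hyic_supp).1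
  have hyicb := ((hmemsupp _).mp hyic_supp).2
  obtain ⟨g, hgG, hga, hgb, hgc, hgyc⟩ := exists_map4 G hG a b c (y c) a b c ((y ^ i) c)
    ⟨hab, hca.symm, hyca.symm, hcb.symm, hycb.symm, hcc'⟩
    ⟨hab, hca.symm, hyica.symm, hcb.symm, hyicb.symm, hyic.symm⟩
  have hginv_a : g⁻¹ a = a := by rw [Perm.inv_eq_iff_eq, hga]
  have hginv_b : g⁻¹ b = b := by rw [Perm.inv_eq_iff_eq, hgb]
  have hginv_c : g⁻¹ c = c := by rw [Perm.inv_eq_iff_eq, hgc]
  obtain ⟨m, hm⟩ := hclaim (g * y * g⁻¹) (G.mul_mem (G.mul_mem hgG hyG) (G.inv_mem hgG))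
    (hconj_ord g) (by simp [Perm.mul_apply, hginv_a, hya, hga])
    (by simp [Perm.mul_apply, hginv_b, hyb, hgb])
  have hmi : y ^ m = y ^ i := by
    rw [hyc.pow_eq_pow_iff]
    refine ⟨c, Perm.mem_support.mp hc, ?_⟩
    rw [hm, Perm.mul_apply, Perm.mul_apply, hginv_c, hgyc]
  -- z centralizes y and swaps a, b
  set z := g⁻¹ * s with hz
  have hzG : z ∈ G := G.mul_mem (G.inv_mem hgG) hsG
  have hzy : Commute z y := by
    rw [commute_iff_eq]
    have h1 : s * y * s⁻¹ = g * y * g⁻¹ := by rw [← hi, ← hm, hmi]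
    have h2 : s * y = g * y * g⁻¹ * s := by rw [← h1]; group
    rw [hz, mul_assoc, h2]; group
  have hza : z a = b := by rw [hz, Perm.mul_apply, hsa, hginv_b]
  have hzb : z b = a := by rw [hz, Perm.mul_apply, hsb, hginv_a]
  have hker : ∀ t ∈ y.cycleFactorsFinset, Commute z t := by
    intro t ht
    rw [hyc.cycleFactorsFinset_eq_singleton, Finset.mem_singleton] at ht
    rw [ht]; exact hzy
  have hw7 : ∀ ω ∈ y.support, (z ^ 7) ω = ω := fun ω hω =>
    ker_pow_on_support y z (by norm_num) hyord hker ω hω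
  have hwa : (z ^ 7) a = b := pow_odd_apply_of_swap' z hza hzb 3
  have hw1 : z ^ 7 ≠ 1 := by
    intro h
    rw [h, Perm.one_apply] at hwa
    exact hab hwa
  have hwsupp : (z ^ 7).support ⊆ y.supportᶜ := by
    intro ω hω
    rw [Finset.mem_compl]
    intro h
    exact (Perm.mem_support.mp hω) (hw7 ω h)
  have := hcon (z ^ 7) (G.pow_mem hzG 7) hw1
  have h2 := Finset.card_le_card hwsupp
  omega

end Cfsg.Agent.Helper60.Miller
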