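import Mathlib
import Cfsg.Agent.S0711
import Cfsg.Agent.S0713
import Cfsg.Agent.Lib.Helper60.MillerA2
import Cfsg.Agent.Lib.Helper60.MillerB2
import Cfsg.Agent.Lib.Helper60.MillerDeg9

set_option autoImplicit false
set_option linter.unusedSectionVars false
set_option linter.unusedVariables false
set_option linter.style.haveILetI false
open Equiv MulAction

namespace Cfsg.Agent.Helper60.Miller

universe u

/-- Miller's theorem (Wielandt 13.10), by strong induction on the degree. -/
theorem miller_main : ∀ (N : ℕ) (α : Type u) [Fintype α] [DecidableEq α]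
    (G : Subgroup (Perm α)) (k p r : ℕ), Fintype.card α = N → p.Prime →
    Fintype.card α = k * p + r → 1 ≤ k → k < p → k < r → ¬ (k = 1 ∧ r = 2) →
    IsMultiplyPretransitive G α (r + 1) → alternatingGroup α ≤ G := by
  intro N
  induction N using Nat.strong_induction_on with
  | _ N ih =>
    intro α _ _ G k p r hN hp hn hk hpk hrk hex hG
    have hr3 : 3 ≤ r := by
      rcases Nat.lt_or_ge 1 k with h | h
      · omega
      · have : k = 1 := by omega
        by_contra hcon
        exact hex ⟨this, by omega⟩
    have hkp : 1 ≤ k * p := Nat.mul_pos hk hp.pos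
    have hcard : Nat.card α = k * p + r := by rw [Nat.card_eq_fintype_card, hn]
    rcases Nat.lt_or_ge 1 k with hk2 | hk1
    · -- k ≥ 2
      have hfin : ∀ w ∈ G, w ≠ 1 → w.support.card < 2 * (r + 1) - 2 → alternatingGroup α ≤ G := by
        intro w hwG hw1 hws
        exact (Cfsg.Agent.S0711.result G (by omega) (by rw [hn]; omega) hG w hwG hw1 hws).2
      by_cases hex9 : r = 3 ∧ p = 3
      · obtain ⟨rfl, rfl⟩ := hex9
        have hk' : k = 2 := by omega
        subst hk'
        obtain ⟨w, hwG, hw1, hws⟩ := deg9 G (by rw [hn]) hG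
        exact hfin w hwG hw1 (by omega)
      · by_cases hB : ∃ g ∈ G, orderOf g = p ∧ g.support.card < k * p
        · obtain ⟨w, hwG, hw1, hws⟩ := caseB G hp hn hk2 hpk hrk hG hB
            (fun β _ _ M j hlt hcardβ hj1 hjp hjr hM =>
              ih (Fintype.card β) (by rw [← hN]; exact hlt) β M j p r rfl hp hcardβ hj1 hjp hjr
                (by omega) hM)
          exact hfin w hwG hw1 (by omega)
        · push Not at hB
          obtain ⟨w, hwG, hw1, hws⟩ := caseA G hp hn hk2 hpk hrk hG
            (fun g hg hgo => hB g hg hgo) hex9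
          exact hfin w hwG hw1 (by omega)
    · -- k = 1
      have hk' : k = 1 := by omega
      subst hk'
      obtain ⟨x, hxG, hxc, hxs⟩ := case_k1 G hp hn hG
      have h2 : IsMultiplyPretransitive G α 2 :=
        isMultiplyPretransitive_of_le (n := r + 1) (by omega) (by rw [hcard]; omega)
      have hprim : IsPreprimitive G α := isPreprimitive_of_is_two_pretransitive h2
      have hp2 := hp.two_le
      exact Cfsg.Agent.S0713.result G hprim hp (by rw [hn]; omega) (by rw [hn]; omega) hxc hxs hxG

end Cfsg.Agent.Helper60.Miller
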