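import Mathlib
import Cfsg.Agent.Lib.Helper60.PFTwelveG4
import Cfsg.Agent.Lib.Helper74.PF127Defs
import Cfsg.Agent.Lib.Helper25.PF127XSet

/-!
# Peterfalvi (12.7): from the group-part configuration `Out` to the hypotheses of `core127` (helper60)

For `o : Out p M L T x` (helper74's `N` is `L`, his `F` is `fittingHallOf L`, his `L` is `M`, his `H` is
`fittingHallOf M`, `r = p`), the group-side hypotheses of `core127` in exactly its shapes.
-/

set_option autoImplicit false

namespace Cfsg.Agent.Lib.Helper60.PF12G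

open Cfsg Cfsg.Agent.Lib.Helper4.PF Cfsg.Agent.Lib.Helper74.PF127
open Cfsg.Agent.Lib.Helper26.PFEight (fittingHallOf_le conj_mem_fittingHallOf)

universe u

variable {G : Type u} [Group G]

theorem supportR_eq_bot_of_le {M : Subgroup G} {a : G}
    (h : Subgroup.centralizer ({a} : Set G) ≤ M) : supportR M a = ⊥ := by
  unfold supportR
  rw [dif_neg]
  intro hc
  exact hc.1 h

theorem mem_tildeOf_of_mem_dadeSupp {M : Subgroup G} {A : Set G} {g : G}
    (h : g ∈ dadeSupp A (supportR M)) : g ∈ tildeOf M A := by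
  obtain ⟨a, ha, u, hu, y, hy⟩ := h
  refine ⟨a, ha, u, hu, y⁻¹, ?_⟩
  rw [← hy]
  group

variable [Finite G]

namespace Out

variable {p : ℕ} {M L T : Subgroup G} {x : G}

omit [Finite G] in
theorem x_ne (o : Out p M L T x) : x ≠ 1 := by
  intro h
  have h1 := o.x_ord
  rw [h, orderOf_one] at h1
  exact o.hp.one_lt.ne h1

/-- `A(L) = L_F^#` for the Frobenius group `L` -/
theorem litA_L (o : Out p M L T x) : litA L = (fittingHallOf L : Set G) \ {1} := by
  rw [litA_eq_of_typeF' o.hLI.1]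
  ext a
  constructor
  · rintro ⟨haL, ha1, k, hk, hk1, hak⟩
    exact ⟨o.hfrob k hk hk1 ⟨haL, mem_centralizer_singleton hak.symm⟩, ha1⟩
  · rintro ⟨haH, ha1⟩
    exact ⟨fittingHallOf_le L haH, ha1, a, haH, ha1, rfl⟩

theorem hFN (_o : Out p M L T x) : fittingHallOf L ≤ L := fittingHallOf_le L

theorem hHL (_o : Out p M L T x) : fittingHallOf M ≤ M := fittingHallOf_le M

theorem hHn (_o : Out p M L T x) :
    ∀ l ∈ M, ∀ h ∈ fittingHallOf M, l * h * l⁻¹ ∈ fittingHallOf M :=
  fun _ hl _ hh => conj_mem_fittingHallOf M hl hh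

/-- the Dade hypothesis on the Frobenius side -/
theorem hDN (pf8 : BookPF8Data G) (o : Out p M L T x) :
    DadeHypothesis ((fittingHallOf L : Set G) \ {1}) L (supportR L) := by
  have h := (pf8.dade L o.hL (litA L) (Or.inr (Or.inl rfl))).2
  rwa [o.litA_L] at h

/-- the Dade hypothesis on the non-Frobenius side -/
theorem hDL (pf8 : BookPF8Data G) (o : Out p M L T x) :
    DadeHypothesis (litA M) M (supportR M) :=
  (pf8.dade M o.hM (litA M) (Or.inr (Or.inl rfl))).2

theorem hHA (o : Out p M L T x) : ∀ h ∈ fittingHallOf M, h ≠ 1 → h ∈ litA M := by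
  intro h hh h1
  rw [litA_eq_of_typeF' o.hMI.1]
  exact ⟨fittingHallOf_le M hh, h1, h, hh, h1, rfl⟩

theorem hxA (o : Out p M L T x) : ∀ i : ℕ, ¬ p ∣ i → ∀ h ∈ fittingHallOf M,
    x ^ i * h ∈ litA M ∧ supportR M (x ^ i * h) = ⊥ :=
  fun i hi h hh => ⟨o.coset_litA i hi h hh, supportR_eq_bot_of_le (o.coset_cent i hi h hh)⟩

omit [Finite G] in
theorem centralizer_pow (o : Out p M L T x) (i : ℕ) (hi : ¬ p ∣ i) :
    Subgroup.centralizer ({x ^ i} : Set G) = Subgroup.centralizer ({x} : Set G) := by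
  have hcop : i.Coprime (orderOf x) := by
    rw [o.x_ord, Nat.coprime_comm]
    exact (Nat.Prime.coprime_iff_not_dvd o.hp).2 hi
  obtain ⟨m, hm⟩ := exists_pow_eq_self_of_coprime hcop
  apply le_antisymm
  · intro z hz
    apply mem_centralizer_singleton
    have h1 : x ^ i * z = z * x ^ i := comm_of_mem_centralizer_singleton hz
    have h2 : (x ^ i) ^ m * z = z * (x ^ i) ^ m :=
      (Commute.pow_left (show Commute (x ^ i) z from h1) m).eq
    rwa [hm] at h2
  · intro z hz
    apply mem_centralizer_singleton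
    have h1 : x * z = z * x := comm_of_mem_centralizer_singleton hz
    exact (Commute.pow_left (show Commute x z from h1) i).eq

omit [Finite G] in
theorem hRNx (o : Out p M L T x) : ∀ i : ℕ, ¬ p ∣ i → supportR L (x ^ i) ≤ fittingHallOf M := by
  intro i hi
  unfold supportR
  split_ifs with h
  · have hch := Classical.choose_spec h.2.exists
    have hcent := o.centralizer_pow i hi
    have e : Classical.choose h.2.exists = M := by
      apply o.cent_uniq _ hch.1
      rw [← hcent]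
      exact hch.2
    rw [e]
    exact inf_le_left
  · exact bot_le

/-- `M` is not conjugate to `L` -/
theorem not_conj (o : Out p M L T x) : ∀ g : G, conjSub g M ≠ L := by
  intro g h
  have h1 := Cfsg.Agent.Lib.Helper26.PFBook.card_fittingHallOf_map_conj M g
  rw [h] at h1
  apply o.hpK
  rw [← h1, ← o.x_ord]
  exact Subgroup.orderOf_dvd_natCard _ o.x_H

theorem x_litA (o : Out p M L T x) : x ∈ litA M := by
  have h := o.coset_litA 1 (fun h => o.hp.one_lt.ne' (Nat.dvd_one.1 h)) 1 (Subgroup.one_mem _)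
  simpa using h

theorem x_typeA1 (o : Out p M L T x) : x ∈ typeA1 L := by
  unfold typeA1
  rw [Cfsg.Agent.Lib.Helper26.PFBook.typeCore_eq_of_typeF o.hLI.1]
  exact ⟨o.x_H, by simpa using o.x_ne⟩

/-- the Dade supports of `L_F^#` (for `L`) and `M_F^#` (for `M`) are disjoint -/
theorem hdisj (pf8 : BookPF8Data G) (o : Out p M L T x) :
    ∀ g : G, g ∈ dadeSupp ((fittingHallOf L : Set G) \ {1}) (supportR L) →
      g ∉ dadeSupp ((fittingHallOf M : Set G) \ {1}) (supportR M) := by
  intro g hgL hgM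
  have hs := (pf8.supports L M o.hL o.hM o.not_conj).2
  have hx1 : x ∈ tildeOf L (typeA1 L) :=
    ⟨x, o.x_typeA1, 1, Subgroup.one_mem _, 1, by simp⟩
  have hx2 : x ∈ tildeOf M (litA M) :=
    ⟨x, o.x_litA, 1, Subgroup.one_mem _, 1, by simp⟩
  rcases hs with hs | hs
  · have : x ∈ tildeOf L (typeA1 L) ∩ tildeOf M (litA M) := ⟨hx1, hx2⟩
    rw [hs] at this
    exact this
  · have h1 : g ∈ tildeOf M (typeA1 M) := by
      have := mem_tildeOf_of_mem_dadeSupp hgM
      unfold typeA1
      rwa [Cfsg.Agent.Lib.Helper26.PFBook.typeCore_eq_of_typeF o.hMI.1]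
    have h2 : g ∈ tildeOf L (litA L) := by
      have := mem_tildeOf_of_mem_dadeSupp hgL
      rwa [o.litA_L]
    have : g ∈ tildeOf M (typeA1 M) ∩ tildeOf L (litA L) := ⟨h1, h2⟩
    rw [hs] at this
    exact this

/-- the `x`-invariant linear characters of `M_F` -/
theorem exists_X (o : Out p M L T x) :
    ∃ X : Finset (↥(fittingHallOf M) →* ℂˣ), 2 * p ≤ X.card ∧ (∀ θ ∈ X, θ ≠ 1) ∧
      ∀ θ ∈ X, ∀ h h' : ↥(fittingHallOf M), (h' : G) = x * (h : G) * x⁻¹ → θ h' = θ h :=
  Cfsg.Agent.Lib.Helper25.PF127XSet.exists_invariant_linear_chars (fittingHallOf M) T x o.T_le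
    o.T_norm o.T_comm (fun _ hk => conj_mem_fittingHallOf M o.x_M hk) o.T_x (2 * p) o.T_idx

theorem exists_X' (o : Out p M L T x) :
    ∃ X : Finset (↥(fittingHallOf M) →* ℂˣ), p ≤ X.card ∧ (∀ θ ∈ X, θ ≠ 1) ∧
      ∀ θ ∈ X, ∀ h h' : ↥(fittingHallOf M), (h' : G) = x * (h : G) * x⁻¹ → θ h' = θ h := by
  obtain ⟨X, h1, h2, h3⟩ := o.exists_X
  exact ⟨X, by omega, h2, h3⟩

end Out

end Cfsg.Agent.Lib.Helper60.PF12G
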