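import Mathlib
import Cfsg.Prelude.Def_Sporadic

/-!
# Module M5 of #2841 (helper93, S0458): a simple group of order `50232960` with a subgroup of
order `8160` is a transitive permutation group of degree `6156`.

`exists_perm_rep` is the generic statement (coset action transported to `Fin n`).
-/

namespace Cfsg.Agent.Lib.Helper60.PermRep

/-- Coset action on `G ⧸ K`, transported to `Fin n` with the trivial coset going to `0`. -/
theorem exists_perm_rep {G : Type*} [Group G] [Finite G] (K : Subgroup G) {n : ℕ} [NeZero n]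
    (hidx : K.index = n)
    (hfaith : ∀ g : G, (∀ x : G ⧸ K, g • x = x) → g = 1) :
    ∃ (H : Subgroup (Equiv.Perm (Fin n))) (φ : G ≃* H),
      MulAction.IsPretransitive H (Fin n) ∧
      MulAction.stabilizer H (0 : Fin n) = K.map φ.toMonoidHom := by
  have hcard : Nat.card (G ⧸ K) = n := by rw [← Subgroup.index_eq_card, hidx]
  let e₀ : (G ⧸ K) ≃ Fin n := Finite.equivFinOfCardEq hcard
  let e : (G ⧸ K) ≃ Fin n := e₀.trans (Equiv.swap (e₀ ((1 : G) : G ⧸ K)) 0)
  have he1 : e ((1 : G) : G ⧸ K) = 0 := by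
    show Equiv.swap (e₀ ((1 : G) : G ⧸ K)) 0 (e₀ ((1 : G) : G ⧸ K)) = 0
    exact Equiv.swap_apply_left _ _
  let f : G →* Equiv.Perm (Fin n) :=
    (e.permCongrHom).toMonoidHom.comp (MulAction.toPermHom G (G ⧸ K))
  have hf_apply : ∀ (g : G) (x : Fin n), f g x = e (g • e.symm x) := fun g x => rfl
  have hf : Function.Injective f := by
    rw [injective_iff_map_eq_one]
    intro g hg
    apply hfaith
    intro x
    have h1 : f g (e x) = e x := by rw [hg]; rfl
    rw [hf_apply, Equiv.symm_apply_apply] at h1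
    exact e.injective h1
  let φ : G ≃* f.range := MonoidHom.ofInjective hf
  have hφ : ∀ g : G, ((φ g : f.range) : Equiv.Perm (Fin n)) = f g := fun g => rfl
  refine ⟨f.range, φ, ?_, ?_⟩
  · refine ⟨fun a b => ?_⟩
    obtain ⟨g, hg⟩ := MulAction.exists_smul_eq G (e.symm a) (e.symm b)
    refine ⟨φ g, ?_⟩
    show f g a = b
    rw [hf_apply, hg, Equiv.apply_symm_apply]
  · ext h
    rw [MulAction.mem_stabilizer_iff, Subgroup.mem_map]
    obtain ⟨g, rfl⟩ := φ.surjective h
    have key : (φ g) • (0 : Fin n) = 0 ↔ g ∈ K := by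
      show f g 0 = 0 ↔ g ∈ K
      rw [hf_apply, ← he1, Equiv.symm_apply_apply, e.apply_eq_iff_eq]
      show ((g * 1 : G) : G ⧸ K) = ((1 : G) : G ⧸ K) ↔ g ∈ K
      rw [mul_one, QuotientGroup.eq, mul_one, inv_mem_iff]
    rw [key]
    constructor
    · intro hg
      exact ⟨g, hg, rfl⟩
    · rintro ⟨g', hg', hgg'⟩
      have : g' = g := φ.injective hgg'
      exact this ▸ hg'

/-- **Module M5 of #2841.** -/
theorem perm_rep_6156 {J : Type*} [Group J] [Finite J] [IsSimpleGroup J]
    (hJ : Nat.card J = 50232960) (K : Subgroup J) (hK : Nat.card K = 8160) :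
    ∃ H : Subgroup (Equiv.Perm (Fin 6156)), Cfsg.IsJ3 H ∧
      MulAction.IsPretransitive H (Fin 6156) ∧
      Nat.card (MulAction.stabilizer H (0 : Fin 6156)) = 8160 := by
  have hidx : K.index = 6156 := by
    have h1 := K.card_mul_index
    rw [hK, hJ] at h1
    omega
  -- faithfulness from simplicity
  have hfaith : ∀ g : J, (∀ x : J ⧸ K, g • x = x) → g = 1 := by
    have hker : (MulAction.toPermHom J (J ⧸ K)).ker = ⊥ := by
      rcases (MulAction.toPermHom J (J ⧸ K)).normal_ker.eq_bot_or_eq_top with h | h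
      · exact h
      · exfalso
        -- then every `g` fixes the trivial coset, so `K = ⊤`
        have hKtop : K = ⊤ := by
          rw [eq_top_iff]
          intro g _
          have hg : g ∈ (MulAction.toPermHom J (J ⧸ K)).ker := h ▸ Subgroup.mem_top g
          rw [MonoidHom.mem_ker] at hg
          have h2 : g • (((1 : J) : J ⧸ K)) = ((1 : J) : J ⧸ K) := by
            have := congrArg (fun σ : Equiv.Perm (J ⧸ K) => σ ((1 : J) : J ⧸ K)) hg
            exact this
          have h3 : ((g * 1 : J) : J ⧸ K) = ((1 : J) : J ⧸ K) := h2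
          rw [mul_one, QuotientGroup.eq, mul_one, inv_mem_iff] at h3
          exact h3
        rw [hKtop, Subgroup.index_top] at hidx
        omega
    intro g hg
    have : g ∈ (MulAction.toPermHom J (J ⧸ K)).ker := by
      rw [MonoidHom.mem_ker]
      ext x
      exact hg x
    rw [hker] at this
    exact Subgroup.mem_bot.mp this
  obtain ⟨H, φ, htr, hstab⟩ := exists_perm_rep K hidx hfaith
  refine ⟨H, ⟨?_, ?_⟩, htr, ?_⟩
  · exact φ.symm.isSimpleGroup
  · rw [← Nat.card_congr φ.toEquiv, hJ]
  · rw [hstab, Subgroup.card_map_of_injective φ.injective, hK]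

end Cfsg.Agent.Lib.Helper60.PermRep
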