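import Mathlib
import Cfsg.Agent.Lib.Helper67.S3Defs

set_option autoImplicit false
set_option linter.unusedSectionVars false

/-!
Module SGN of S4305 (Shult's `S₃` theorem, helper67's plan, board #2335):
in the `Struct` configuration, `f` cannot centralize `T`.
-/

namespace Cfsg.Agent.Lib.Helper60.S3Sgn
open Cfsg.Agent.Lib.Helper67.S3

variable {𝔸 Q V : Type*} [Group 𝔸] [Group Q] [Finite Q] [AddCommGroup V] [Finite V] {p : ℕ}
  [Fact p.Prime] [Module (ZMod p) V] {f h : 𝔸} {ψ : 𝔸 →* MulAut Q}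
  {ρ : Representation (ZMod p) Q V} {σ : Representation (ZMod p) 𝔸 V}

/-- invariance under `f` and `h` gives invariance under `𝔸`. -/
theorem invQ_of_gen (r : Rel f h) (K : Subgroup Q) (hf : ∀ x ∈ K, ψ f x ∈ K)
    (hh : ∀ x ∈ K, ψ h x ∈ K) : InvQ ψ K := by
  intro a
  have ha : a ∈ Subgroup.closure ({f, h} : Set 𝔸) := by rw [r.gen]; trivial
  induction ha using Subgroup.closure_induction with
  | mem x hx =>
    rcases hx with rfl | rfl
    · exact hf
    · exact hh
  | one => intro z hz; simp [hz]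
  | mul x y _ _ hx hy => intro z hz; rw [map_mul]; exact hx _ (hy z hz)
  | inv x _ hx =>
    intro z hz
    let g : K → K := fun k => ⟨ψ x k, hx k k.2⟩
    have hinj : Function.Injective g := fun k1 k2 h12 =>
      Subtype.ext ((ψ x).injective (congrArg Subtype.val h12))
    obtain ⟨k, hk⟩ := Finite.surjective_of_injective hinj ⟨z, hz⟩
    have hkz : ψ x k = z := congrArg Subtype.val hk
    rw [map_inv, ← hkz]
    simp

theorem hh_apply (r : Rel f h) (q : Q) : ψ h (ψ h q) = q := by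
  have : ψ h * ψ h = 1 := by rw [← map_mul, ← pow_two, r.h2, map_one]
  have h2 := congrArg (fun e : MulAut Q => e q) this
  simpa using h2

theorem fh_apply (r : Rel f h) (q : Q) : ψ f (ψ h q) = ψ h (ψ f⁻¹ q) := by
  have e : f * h = h * f⁻¹ := by
    have := r.hf
    have h1 : h * f⁻¹ * h⁻¹ = f := by
      have := congrArg (fun x => x⁻¹) this
      simpa [mul_assoc] using this
    calc f * h = h * f⁻¹ * h⁻¹ * h := by rw [h1]
      _ = h * f⁻¹ := by group
  have := congrArg (fun a => ψ a q) e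
  simpa [map_mul] using this

theorem sfh_apply (r : Rel f h) (v : V) : σ f (σ h v) = σ h (σ f⁻¹ v) := by
  have e : f * h = h * f⁻¹ := by
    have := r.hf
    have h1 : h * f⁻¹ * h⁻¹ = f := by
      have := congrArg (fun x => x⁻¹) this
      simpa [mul_assoc] using this
    calc f * h = h * f⁻¹ * h⁻¹ * h := by rw [h1]
      _ = h * f⁻¹ := by group
  have := congrArg (fun a => σ a v) e
  simpa [map_mul] using this

theorem shh_apply (r : Rel f h) (v : V) : σ h (σ h v) = v := by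
  have : σ h * σ h = 1 := by rw [← map_mul, ← pow_two, r.h2, map_one]
  have h2 := congrArg (fun e : V →ₗ[ZMod p] V => e v) this
  simpa using h2

section main

variable {S T : Subgroup Q} {s t : ℕ}

/-- `h` inverts `T` when `f` centralizes `T`. -/
theorem h_inv_T (c : Ctx f h ψ ρ σ) (st : Struct ψ p S T s t)
    (hTf : ∀ y ∈ T, ψ f y = y) : ∀ y ∈ T, ψ h y = y⁻¹ := by
  intro y hy
  have hhy : ψ h y ∈ T := st.T_inv h y hy
  have hz : y * ψ h y ∈ T := mul_mem hy hhy
  have h1 : ψ h (y * ψ h y) = y * ψ h y := by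
    rw [map_mul, hh_apply c.rel]
    exact st.T_comm _ hhy _ hy
  have := c.fixQ _ (hTf _ hz) h1
  exact eq_inv_of_mul_eq_one_right this

theorem sub_T_inv (c : Ctx f h ψ ρ σ) (st : Struct ψ p S T s t)
    (hTf : ∀ y ∈ T, ψ f y = y) (T₀ : Subgroup Q) (h0 : T₀ ≤ T) : InvQ ψ T₀ :=
  invQ_of_gen c.rel T₀ (fun x hx => by rw [hTf x (h0 hx)]; exact hx)
    (fun x hx => by rw [h_inv_T c st hTf x (h0 hx)]; exact inv_mem hx)

theorem T_eq_zpowers (c : Ctx f h ψ ρ σ) (st : Struct ψ p S T s t)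
    (hTf : ∀ y ∈ T, ψ f y = y) (y : Q) (hy : y ∈ T) (hy1 : y ≠ 1) : T = Subgroup.zpowers y := by
  rcases st.T_min (Subgroup.zpowers y) (by rwa [Subgroup.zpowers_le])
    (sub_T_inv c st hTf _ (by rwa [Subgroup.zpowers_le])) with h | h
  · exact absurd (Subgroup.zpowers_eq_bot.1 h) hy1
  · exact h.symm

theorem orderOf_T (st : Struct ψ p S T s t) (y : Q) (hy : y ∈ T) (hy1 : y ≠ 1) :
    orderOf y = t := by
  have : Fact t.Prime := ⟨st.ht⟩
  exact orderOf_eq_prime (st.T_exp y hy) hy1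

theorem five_le_t (c : Ctx f h ψ ρ σ) (st : Struct ψ p S T s t) : 5 ≤ t := by
  obtain ⟨y, hy, hy1⟩ : ∃ y : Q, y ∈ T ∧ y ≠ 1 := by
    obtain ⟨y, hy⟩ := (Subgroup.ne_bot_iff_exists_ne_one).1 st.T_ne
    exact ⟨(y : Q), y.2, fun h => hy (Subtype.ext h)⟩
  have hdvd : t ∣ Nat.card Q := by
    rw [← orderOf_T st y hy hy1]
    exact orderOf_dvd_natCard y
  have hc : t.Coprime 6 := Nat.Coprime.coprime_dvd_left hdvd c.q6
  apply st.ht.five_le_of_ne_two_of_ne_three
  · rintro rfl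
    norm_num at hc
  · rintro rfl
    norm_num at hc

end main

/-- `C_S(f)` -/
def CSf (ψ : 𝔸 →* MulAut Q) (f : 𝔸) (S : Subgroup Q) : Subgroup Q where
  carrier := {x | x ∈ S ∧ ψ f x = x}
  mul_mem' := by
    rintro a b ⟨ha, ha'⟩ ⟨hb, hb'⟩
    exact ⟨mul_mem ha hb, by rw [map_mul, ha', hb']⟩
  one_mem' := ⟨one_mem _, map_one _⟩
  inv_mem' := by
    rintro a ⟨ha, ha'⟩
    exact ⟨inv_mem ha, by rw [map_inv, ha']⟩

theorem mem_CSf {S : Subgroup Q} {x : Q} : x ∈ CSf ψ f S ↔ x ∈ S ∧ ψ f x = x := Iff.rfl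

theorem finv_apply_of_fix {x : Q} (hx : ψ f x = x) : ψ f⁻¹ x = x := by
  apply (ψ f).injective
  rw [hx]
  have : ψ f * ψ f⁻¹ = 1 := by rw [← map_mul, mul_inv_cancel, map_one]
  have h2 := congrArg (fun e : MulAut Q => e x) this
  simp only [MulAut.mul_apply, MulAut.one_apply] at h2
  exact h2

theorem sfinv_apply_of_fix {v : V} (hv : σ f v = v) : σ f⁻¹ v = v := by
  have : σ f⁻¹ * σ f = 1 := by rw [← map_mul, inv_mul_cancel, map_one]
  have h2 := congrArg (fun e : V →ₗ[ZMod p] V => e v) this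
  simp only [Module.End.mul_apply, Module.End.one_apply] at h2
  rw [hv] at h2
  exact h2

section main2

variable {S T : Subgroup Q} {s t : ℕ}

theorem CSf_invQ (c : Ctx f h ψ ρ σ) (st : Struct ψ p S T s t) : InvQ ψ (CSf ψ f S) := by
  apply invQ_of_gen c.rel
  · rintro x ⟨hx, hx'⟩
    rw [hx']
    exact ⟨hx, hx'⟩
  · rintro x ⟨hx, hx'⟩
    refine ⟨st.S_inv h x hx, ?_⟩
    rw [fh_apply c.rel, finv_apply_of_fix hx']

theorem CSf_normal (st : Struct ψ p S T s t) (hTf : ∀ y ∈ T, ψ f y = y) :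
    (CSf ψ f S).Normal := by
  have := st.S_normal
  refine ⟨fun n hn g => ?_⟩
  obtain ⟨hnS, hnf⟩ := hn
  have hg : g ∈ ((S ⊔ T : Subgroup Q) : Set Q) := by rw [st.sup]; trivial
  rw [Subgroup.normal_mul] at hg
  obtain ⟨x, hx, y, hy, rfl⟩ := Set.mem_mul.1 hg
  have hm : y * n * y⁻¹ ∈ S := st.S_normal.conj_mem n hnS y
  have hmf : ψ f (y * n * y⁻¹) = y * n * y⁻¹ := by
    rw [map_mul, map_mul, map_inv, hTf y hy, hnf]
  have : x * y * n * (x * y)⁻¹ = y * n * y⁻¹ := by
    have hcomm := st.S_comm x hx (y * n * y⁻¹) hm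
    calc x * y * n * (x * y)⁻¹ = x * (y * n * y⁻¹) * x⁻¹ := by group
      _ = (y * n * y⁻¹) * x * x⁻¹ := by rw [hcomm]
      _ = y * n * y⁻¹ := by group
  rw [this]
  exact ⟨hm, hmf⟩

end main2

section main3

variable {S T : Subgroup Q} {s t : ℕ}

/-- `f` acts fixed-point-freely on `S`. -/
theorem f_fpf_S (c : Ctx f h ψ ρ σ) (st : Struct ψ p S T s t) (hTf : ∀ y ∈ T, ψ f y = y) :
    ∀ x ∈ S, ψ f x = x → x = 1 := by
  have hnormal := CSf_normal st hTf
  rcases st.S_min (CSf ψ f S) (fun x hx => hx.1) hnormal (CSf_invQ c st) with h0 | h0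
  · intro x hx hfx
    have : x ∈ CSf ψ f S := ⟨hx, hfx⟩
    rw [h0] at this
    exact (Subgroup.mem_bot).1 this
  · -- `f` centralizes `S`: contradiction
    exfalso
    have hSf : ∀ x ∈ S, ψ f x = x := fun x hx => by
      have : x ∈ CSf ψ f S := by rw [h0]; exact hx
      exact this.2
    -- `h` inverts `S`
    have hSh : ∀ x ∈ S, ψ h x = x⁻¹ := by
      intro x hx
      have hhx : ψ h x ∈ S := st.S_inv h x hx
      have hz : x * ψ h x ∈ S := mul_mem hx hhx
      have h1 : ψ h (x * ψ h x) = x * ψ h x := by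
        rw [map_mul, hh_apply c.rel]
        exact st.S_comm _ hhx _ hx
      exact eq_inv_of_mul_eq_one_right (c.fixQ _ (hSf _ hz) h1)
    have hTh := h_inv_T c st hTf
    -- squares of elements of `T` centralize `S`
    have hsq : ∀ y ∈ T, y * y = 1 := by
      intro y hy
      apply st.cTS (y * y) (mul_mem hy hy)
      intro x hx
      have hx' : x⁻¹ ∈ S := inv_mem hx
      have hw : y * x⁻¹ * y⁻¹ ∈ S := st.S_normal.conj_mem _ hx' y
      have e1 : ψ h (y * x⁻¹ * y⁻¹) = y⁻¹ * x * y := by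
        simp only [map_mul, map_inv, hTh y hy, hSh x hx]
        group
      have e2 : ψ h (y * x⁻¹ * y⁻¹) = y * x * y⁻¹ := by
        rw [hSh _ hw]
        group
      have e3 : y⁻¹ * x * y = y * x * y⁻¹ := e1.symm.trans e2
      calc y * y * x = y * (y * x * y⁻¹) * y := by group
        _ = y * (y⁻¹ * x * y) * y := by rw [e3]
        _ = x * (y * y) := by group
    obtain ⟨y, hy, hy1⟩ : ∃ y : Q, y ∈ T ∧ y ≠ 1 := by
      obtain ⟨y, hy⟩ := (Subgroup.ne_bot_iff_exists_ne_one).1 st.T_ne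
      exact ⟨(y : Q), y.2, fun h => hy (Subtype.ext h)⟩
    have ho : orderOf y = t := orderOf_T st y hy hy1
    have h5 := five_le_t c st
    have hd : orderOf y ∣ 2 := orderOf_dvd_of_pow_eq_one (by rw [pow_two]; exact hsq y hy)
    rw [ho] at hd
    have := Nat.le_of_dvd (by norm_num) hd
    omega

end main3

section main4

variable {S T : Subgroup Q} {s t : ℕ}

/-- `σ h = -1` on `C_V(f)`. -/
theorem sh_neg (c : Ctx f h ψ ρ σ) (v : V) (hv : σ f v = v) : σ h v = -v := by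
  have h1 : σ f (σ h v) = σ h v := by
    rw [sfh_apply c.rel, sfinv_apply_of_fix hv]
  have h2 : σ f (v + σ h v) = v + σ h v := by rw [map_add, hv, h1]
  have h3 : σ h (v + σ h v) = v + σ h v := by
    rw [map_add, shh_apply c.rel, add_comm]
  have := c.fixV _ h2 h3
  exact (neg_eq_of_add_eq_zero_right this).symm

/-- `T` acts trivially on `C_V(f)`. -/
theorem rho_T_fix (c : Ctx f h ψ ρ σ) (st : Struct ψ p S T s t) (hTf : ∀ y ∈ T, ψ f y = y)
    (y : Q) (hy : y ∈ T) (v : V) (hv : σ f v = v) : ρ y v = v := by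
  -- squares first
  have hsq : ∀ z ∈ T, ρ (z * z) v = v := by
    intro z hz
    have hz1 : σ f (ρ z v) = ρ z v := by rw [c.compat, hTf z hz, hv]
    have e1 : σ h (ρ z v) = -(ρ z⁻¹ v) := by
      rw [c.compat, h_inv_T c st hTf z hz, sh_neg c v hv, map_neg]
    have e2 : σ h (ρ z v) = -(ρ z v) := sh_neg c _ hz1
    have e3 : ρ z⁻¹ v = ρ z v := neg_injective (e1.symm.trans e2)
    have : ρ (z * z) v = ρ z (ρ z⁻¹ v) := by rw [e3, map_mul]; rfl
    rw [this, ← Module.End.mul_apply, ← map_mul, mul_inv_cancel, map_one]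
    rfl
  have h5 := five_le_t c st
  have hodd : Odd t := st.ht.odd_of_ne_two (by omega)
  obtain ⟨k, hk⟩ := hodd
  have hyk : y ^ (k + 1) ∈ T := pow_mem hy _
  have : y ^ (k + 1) * y ^ (k + 1) = y := by
    rw [← pow_add, show k + 1 + (k + 1) = t + 1 by omega, pow_succ, st.T_exp y hy, one_mul]
  rw [← this]
  exact hsq _ hyk

/-- the final counting: module SGN with the two `T1W` instances and `CV ρ S = ⊥` as inputs -/
theorem struct_sgn_false_of (c : Ctx f h ψ ρ σ) (st : Struct ψ p S T s t)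
    (hTf : ∀ y ∈ T, ψ f y = y)
    (hA : Nat.card V = Nat.card ↥(FixL (σ f)) ^ 3)
    (hB : ∀ y ∈ T, y ≠ 1 → Nat.card V = Nat.card ↥(FixL (ρ y)) ^ t) : False := by
  obtain ⟨y, hy, hy1⟩ : ∃ y : Q, y ∈ T ∧ y ≠ 1 := by
    obtain ⟨y, hy⟩ := (Subgroup.ne_bot_iff_exists_ne_one).1 st.T_ne
    exact ⟨(y : Q), y.2, fun h => hy (Subtype.ext h)⟩
  have h5 := five_le_t c st
  have hle : FixL (σ f) ≤ FixL (ρ y) := fun v hv => rho_T_fix c st hTf y hy v hv
  have hcard : Nat.card ↥(FixL (σ f)) ≤ Nat.card ↥(FixL (ρ y)) :=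
    Nat.card_le_card_of_injective _ (Submodule.inclusion_injective hle)
  have hn : 0 < Nat.card ↥(FixL (σ f)) := Nat.card_pos
  have hB' := hB y hy hy1
  set n := Nat.card ↥(FixL (σ f)) with hn_def
  set m := Nat.card ↥(FixL (ρ y)) with hm_def
  have hm1 : m = 1 := by
    by_contra hm
    have hm2 : 2 ≤ m := by omega
    have h1 : m ^ t = n ^ 3 := by rw [← hB', hA]
    have h2 : n ^ 3 ≤ m ^ 3 := Nat.pow_le_pow_left hcard 3
    have h3 : m ^ 3 < m ^ t := Nat.pow_lt_pow_right (by omega) (by omega)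
    omega
  have hV1 : Nat.card V = 1 := by rw [hB', hm1, one_pow]
  have hVs : Subsingleton V := (Nat.card_eq_one_iff_unique.1 hV1).1
  have hQ : ∀ q : Q, q = 1 := fun q => c.faithful q (by
    apply LinearMap.ext
    intro v
    exact Subsingleton.elim _ _)
  apply st.S_ne
  rw [Subgroup.eq_bot_iff_forall]
  intro x _
  exact hQ x

end main4

end Cfsg.Agent.Lib.Helper60.S3Sgn
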