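import Mathlib
import Cfsg.Agent.Lib.Helper67.S3Defs
import Cfsg.Agent.Lib.Helper60.S3Sgn
import Cfsg.Agent.Lib.Helper67.S3Tools
import Cfsg.Agent.Lib.Helper67.S3C

set_option autoImplicit false
set_option linter.unusedSectionVars false

namespace Cfsg.Agent.Lib.Helper60.S3Sgn
open Cfsg.Agent.Lib.Helper67.S3

variable {𝔸 Q V : Type*} [Group 𝔸] [Group Q] [Finite Q] [AddCommGroup V] [Finite V] {p : ℕ}
  [Fact p.Prime] [Module (ZMod p) V] {f h : 𝔸} {ψ : 𝔸 →* MulAut Q}
  {ρ : Representation (ZMod p) Q V} {σ : Representation (ZMod p) 𝔸 V}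

theorem card_top_inf_FixL (L : V →ₗ[ZMod p] V) :
    Nat.card ↥((⊤ : Submodule (ZMod p) V) ⊓ FixL L) = Nat.card ↥(FixL L) := by
  rw [top_inf_eq]

/-- **Module SGN** of S4305. -/
theorem struct_sgn_false (c : Ctx f h ψ ρ σ) [Group.IsSolvable Q] (hOp : HOp p Q) (h3 : H3 ρ σ)
    {S T : Subgroup Q} {s t : ℕ} (st : Struct ψ p S T s t) (hTf : ∀ y ∈ T, ψ f y = y) : False := by
  have hSn := st.S_normal
  have hCV : CV ρ S = ⊥ := CV_eq_bot c hOp h3 S st.S_inv st.S_ne
  have hfixS : ∀ w ∈ (⊤ : Submodule (ZMod p) V), (∀ x ∈ S, ρ x w = w) → w = 0 := by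
    intro w _ hw
    have : w ∈ CV ρ S := hw
    rw [hCV] at this
    exact (Submodule.mem_bot _).1 this
  have hnil : Group.IsNilpotent S := by
    let _ : CommGroup S :=
      { (inferInstance : Group S) with
        mul_comm := fun a b => Subtype.ext (st.S_comm a a.2 b b.2) }
    exact CommGroup.isNilpotent
  have hcardV : Nat.card (⊤ : Submodule (ZMod p) V) = Nat.card V :=
    Nat.card_congr (Submodule.topEquiv (R := ZMod p) (M := V)).toEquiv
  apply struct_sgn_false_of c st hTf
  · -- T1W for `f`
    have hof : orderOf f = 3 := by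
      have : Fact (Nat.Prime 3) := ⟨by norm_num⟩
      exact orderOf_eq_prime c.rel.f3 c.rel.f_ne
    have := card_pow_of_fpf_prime (ψ := ψ) (ρ := ρ) (σ := σ) c.compat f 3 (by norm_num) hof S ⊤
      (fun x hx => st.S_inv f x hx) (fun _ _ => trivial) (fun _ _ _ _ => trivial) hnil
      (f_fpf_S c st hTf) hfixS
    rw [hcardV, card_top_inf_FixL] at this
    exact this
  · -- T1W for a generator `y` of `T`, acting by conjugation
    intro y hy hy1
    have hoy : orderOf y = t := orderOf_T st y hy hy1
    have hTy := T_eq_zpowers c st hTf y hy hy1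
    have := card_pow_of_fpf_prime (𝔸 := Q) (ψ := (MulAut.conj : Q →* MulAut Q)) (ρ := ρ) (σ := ρ)
      (fun a q v => by
        rw [MulAut.conj_apply, ← Module.End.mul_apply, ← Module.End.mul_apply, ← map_mul,
          ← map_mul]
        congr 2
        group)
      y t st.ht hoy S ⊤
      (fun x hx => by rw [MulAut.conj_apply]; exact st.S_normal.conj_mem x hx y)
      (fun _ _ => trivial) (fun _ _ _ _ => trivial) hnil
      (fun x hx hfx => by
        apply st.cST x hx
        intro z hz
        rw [hTy] at hz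
        obtain ⟨k, rfl⟩ := Subgroup.mem_zpowers_iff.1 hz
        rw [MulAut.conj_apply] at hfx
        have hcomm : Commute y x := by
          have : y * x = x * y := by
            calc y * x = y * x * y⁻¹ * y := by group
              _ = x * y := by rw [hfx]
          exact this
        exact (hcomm.zpow_left k).eq)
      hfixS
    rw [hcardV, card_top_inf_FixL] at this
    exact this

end Cfsg.Agent.Lib.Helper60.S3Sgn
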