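/-
helper60: project STEINBERG phase 3, the S2100 wrapper (abstract part): a finite group `G` which is the isomorphic image
of a group `Δ` whose homomorphisms lift through every central extension of `G` has trivial Schur multiplier.
-/
import Mathlib
import Cfsg.Prelude.Def_KGroupFacts

set_option autoImplicit false

namespace Cfsg.Agent.Lib.Helper60.St3

open scoped commutatorElement

universe u v

theorem ker_eq_bot_of_lift {G : Type u} [Group G] {Δ : Type v} [Group Δ] (θ : Δ →* G)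
    (hθ : Function.Bijective θ) {Γ : Type u} [Group Γ] (σ : Γ →* G) (hσ : Cfsg.IsStemExtension σ)
    (τ : Δ →* Γ) (hτ : σ.comp τ = θ) : σ.ker = ⊥ := by
  obtain ⟨hsurj, hcen, hcomm⟩ := hσ
  have hστ : ∀ d, σ (τ d) = θ d := fun d => DFunLike.congr_fun hτ d
  have h1 : ∀ x : Γ, ∃ d : Δ, ∃ k : Γ, k ∈ Subgroup.center Γ ∧ x = τ d * k := by
    intro x
    obtain ⟨d, hd⟩ := hθ.2 (σ x)
    refine ⟨d, (τ d)⁻¹ * x, hcen ?_, by group⟩
    rw [MonoidHom.mem_ker, map_mul, map_inv, hστ, hd, inv_mul_cancel]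
  have hconj : ∀ (a k g : Γ), k ∈ Subgroup.center Γ → (a * k) * g * (a * k)⁻¹ = a * g * a⁻¹ := by
    intro a k g hk
    rw [Subgroup.mem_center_iff] at hk
    calc (a * k) * g * (a * k)⁻¹ = a * (k * g) * k⁻¹ * a⁻¹ := by group
      _ = a * (g * k) * k⁻¹ * a⁻¹ := by rw [hk g]
      _ = a * g * a⁻¹ := by group
  have h2 : commutator Γ ≤ τ.range := by
    rw [commutator_def, Subgroup.commutator_le]
    intro x _ y _
    obtain ⟨d, k, hk, rfl⟩ := h1 x
    obtain ⟨d', k', hk', rfl⟩ := h1 y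
    refine ⟨⁅d, d'⁆, ?_⟩
    rw [commutatorElement_def, commutatorElement_def, map_mul, map_mul, map_mul, map_inv, map_inv]
    calc τ d * τ d' * (τ d)⁻¹ * (τ d')⁻¹ = τ d * (τ d' * (τ d)⁻¹ * (τ d')⁻¹) := by group
      _ = τ d * ((τ d' * k') * (τ d)⁻¹ * (τ d' * k')⁻¹) := by rw [hconj _ _ _ hk']
      _ = τ d * (τ d' * k') * (τ d)⁻¹ * (τ d' * k')⁻¹ := by group
      _ = (τ d * k) * (τ d' * k') * (τ d * k)⁻¹ * (τ d' * k')⁻¹ := by rw [hconj _ _ _ hk]
  rw [eq_bot_iff]
  intro k hk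
  obtain ⟨d, rfl⟩ := h2 (hcomm hk)
  rw [MonoidHom.mem_ker, hστ] at hk
  have hd : d = 1 := hθ.1 (by rw [hk, map_one])
  rw [hd, map_one]
  exact Subgroup.mem_bot.mpr rfl

/-- The trivial Schur multiplier from the lifting property. -/
theorem hasCyclicSchurMultiplier_one_of_lift {G : Type u} [Group G] [Finite G] {Δ : Type v} [Group Δ] (θ : Δ →* G)
    (hθ : Function.Bijective θ)
    (hlift : ∀ (Γ : Type u) [Group Γ] (σ : Γ →* G), Function.Surjective σ → σ.ker ≤ Subgroup.center Γ →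
      ∃ τ : Δ →* Γ, σ.comp τ = θ) :
    Cfsg.HasCyclicSchurMultiplier G 1 := by
  have hU : ∀ (A : Type u) [Group A] (s : Subgroup A), s = ⊥ →
      ∃ π : Multiplicative (ZMod 1) →* s, Function.Surjective π := by
    intro A _ s hs
    refine ⟨1, ?_⟩
    intro x
    refine ⟨1, ?_⟩
    apply Subtype.ext
    have hx : (x : A) ∈ s := x.property
    have hx' : (x : A) ∈ (⊥ : Subgroup A) := hs ▸ hx
    rw [Subgroup.mem_bot] at hx'
    rw [hx']
    rfl
  constructor
  · refine ⟨G, inferInstance, inferInstance, MonoidHom.id G, ⟨Function.surjective_id, ?_, ?_⟩, ?_⟩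
    · intro x hx
      rw [MonoidHom.mem_ker, MonoidHom.id_apply] at hx
      rw [hx]
      exact one_mem _
    · intro x hx
      rw [MonoidHom.mem_ker, MonoidHom.id_apply] at hx
      rw [hx]
      exact one_mem _
    · have hs : Subsingleton (MonoidHom.id G).ker := by
        constructor
        intro a b
        apply Subtype.ext
        have ha := a.property
        have hb := b.property
        rw [MonoidHom.mem_ker, MonoidHom.id_apply] at ha hb
        rw [ha, hb]
      have : Unique (MonoidHom.id G).ker := ⟨⟨1⟩, fun a => Subsingleton.elim _ _⟩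
      exact ⟨MulEquiv.ofUnique⟩
  · intro Γ _ _ σ hσ
    obtain ⟨τ, hτ⟩ := hlift Γ σ hσ.1 hσ.2.1
    exact hU Γ σ.ker (ker_eq_bot_of_lift θ hθ σ hσ τ hτ)

end Cfsg.Agent.Lib.Helper60.St3
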