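/-
helper60: project STEINBERG phase 3c (S2399): the pull-back of a central extension along a homomorphism, and lifting
homomorphisms from the group `D.SteinbergCover K` presented by (R1), (R2) through it.
-/
import Mathlib
import Cfsg.Agent.Lib.Helper60.St3Cover

set_option autoImplicit false

namespace Cfsg.Agent.Lib.Helper60.St3

open Cfsg.Lie Cfsg.Agent.Lib.Helper35.St

universe u v w

section pb

variable {G₁ : Type v} {E : Type w} {Δ : Type u} [Group G₁] [Group E] [Group Δ]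

/-- The pull-back `{(e, d) | π₁ e = σ d}`. -/
def pbSub (π₁ : E →* G₁) (σ : Δ →* G₁) : Subgroup (E × Δ) :=
  MonoidHom.eqLocus (π₁.comp (MonoidHom.fst E Δ)) (σ.comp (MonoidHom.snd E Δ))

/-- The projection of the pull-back to `Δ`. -/
def pbHom (π₁ : E →* G₁) (σ : Δ →* G₁) : ↥(pbSub π₁ σ) →* Δ :=
  (MonoidHom.snd E Δ).comp (pbSub π₁ σ).subtype

theorem mem_pbSub (π₁ : E →* G₁) (σ : Δ →* G₁) (x : E × Δ) : x ∈ pbSub π₁ σ ↔ π₁ x.1 = σ x.2 := Iff.rfl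

theorem pbHom_apply (π₁ : E →* G₁) (σ : Δ →* G₁) (x : ↥(pbSub π₁ σ)) : pbHom π₁ σ x = x.val.2 := rfl

theorem pbHom_surjective (π₁ : E →* G₁) (σ : Δ →* G₁) (hπ : Function.Surjective π₁) :
    Function.Surjective (pbHom π₁ σ) := by
  intro d
  obtain ⟨e, he⟩ := hπ (σ d)
  exact ⟨⟨(e, d), (mem_pbSub π₁ σ _).2 he⟩, rfl⟩

theorem fst_mem_ker_of_mem_ker (π₁ : E →* G₁) (σ : Δ →* G₁) (x : ↥(pbSub π₁ σ)) (hx : x ∈ (pbHom π₁ σ).ker) :
    x.val.1 ∈ π₁.ker ∧ x.val.2 = 1 := by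
  rw [MonoidHom.mem_ker, pbHom_apply] at hx
  refine ⟨?_, hx⟩
  rw [MonoidHom.mem_ker]
  have := (mem_pbSub π₁ σ x.val).1 x.property
  rw [this, hx, map_one]

theorem pbHom_ker_le_center (π₁ : E →* G₁) (σ : Δ →* G₁) (hc : π₁.ker ≤ Subgroup.center E) :
    (pbHom π₁ σ).ker ≤ Subgroup.center ↥(pbSub π₁ σ) := by
  intro x hx
  obtain ⟨h1, h2⟩ := fst_mem_ker_of_mem_ker π₁ σ x hx
  have h1' := hc h1
  rw [Subgroup.mem_center_iff] at h1' ⊢
  intro y
  apply Subtype.ext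
  apply Prod.ext
  · exact h1' y.val.1
  · show y.val.2 * x.val.2 = x.val.2 * y.val.2
    rw [h2, mul_one, one_mul]

theorem pbHom_ker_pow (π₁ : E →* G₁) (σ : Δ →* G₁) (p : ℕ) (hpp : ∀ x ∈ π₁.ker, x ^ p = 1 → x = 1) :
    ∀ x ∈ (pbHom π₁ σ).ker, x ^ p = 1 → x = 1 := by
  intro x hx hxp
  obtain ⟨h1, h2⟩ := fst_mem_ker_of_mem_ker π₁ σ x hx
  have h3 : x.val.1 ^ p = 1 := by
    have := congrArg (fun y : ↥(pbSub π₁ σ) => y.val.1) hxp
    simpa using this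
  apply Subtype.ext
  apply Prod.ext
  · exact hpp _ h1 h3
  · exact h2

theorem comp_eq_of_section (π₁ : E →* G₁) (σ : Δ →* G₁) (τ₀ : Δ →* ↥(pbSub π₁ σ))
    (hid : (pbHom π₁ σ).comp τ₀ = MonoidHom.id Δ) :
    π₁.comp ((MonoidHom.fst E Δ).comp ((pbSub π₁ σ).subtype.comp τ₀)) = σ := by
  refine MonoidHom.ext fun d => ?_
  have h1 := (mem_pbSub π₁ σ (τ₀ d).val).1 (τ₀ d).property
  have h2 : (τ₀ d).val.2 = d := DFunLike.congr_fun hid d
  show π₁ (τ₀ d).val.1 = σ d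
  rw [h1, h2]

end pb

variable {K : Type u} [Field K] (D : ChevalleyDatum) {G₁ : Type v} {E : Type w} [Group G₁] [Group E]

/-- A homomorphism from the group presented by (R1), (R2) lifts through `π₁` as soon as the pull-back contains lifts of the
generators satisfying (R1) and (R2). -/
theorem lift_exists_of_pb_splitting (hlt : TermLt D) (π₁ : E →* G₁) (σ : D.SteinbergCover K →* G₁)
    (hsplit : ∃ z : ℕ → K → ↥(pbSub π₁ σ), (∀ s, s < D.nroots → ∀ t : K, pbHom π₁ σ (z s t) = D.scGen K s t) ∧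
      (∀ s, s < D.nroots → ∀ t u : K, z s t * z s u = z s (t + u)) ∧ R2E D K z) :
    ∃ τ : D.SteinbergCover K →* E, π₁.comp τ = σ := by
  obtain ⟨z, hz1, hz2, hz3⟩ := hsplit
  obtain ⟨τ₀, hτ₀⟩ := exists_hom_of_rels D z hlt hz2 hz3
  have hid : (pbHom π₁ σ).comp τ₀ = MonoidHom.id _ := by
    apply cover_hom_ext D
    intro r hr t
    rw [MonoidHom.comp_apply, hτ₀ r hr, hz1 r hr, MonoidHom.id_apply]
  exact ⟨_, comp_eq_of_section π₁ σ τ₀ hid⟩

end Cfsg.Agent.Lib.Helper60.St3
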