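/-
helper60: project STEINBERG phase 3c (S2399), module P-[R2] of the sheet `ST3_MODULES.md`: the `p`-lifts `z s t` of the
root elements satisfy relation (R2), because each instance of (R2) lives in a conjugate of the `p`-group `Ū`.
-/
import Cfsg.Agent.Lib.Helper50.St3.WordAux

set_option autoImplicit false

namespace Cfsg.Agent.Lib.Helper60.St3

open Cfsg.Lie Cfsg.Agent.Lib.Helper35.St

universe u v w

variable {D : ChevalleyDatum} {K : Type u} [Field K] {Γ : Type v} [Group Γ] {E : Type w} [Group E]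

/-- P-[R2]. -/
theorem pLift_r2 (p : ℕ) [Fact p.Prime] (M : Model D K Γ) (tf : TF D) (ψ : E →* Γ)
    (hS : ∀ P : Subgroup Γ, IsPGroup p P → ∃ S : Subgroup E, (∀ e ∈ S, ψ e ∈ P) ∧ (∀ g ∈ P, ∃ e ∈ S, ψ e = g) ∧
      (∀ e ∈ S, ψ e = 1 → e = 1) ∧ ∀ e : E, ψ e ∈ P → e ^ p = 1 → e ∈ S)
    (z : ℕ → K → E) (hz1 : ∀ s, s < D.nroots → ∀ t : K, ψ (z s t) = M.X s t)
    (hz2 : ∀ s, s < D.nroots → ∀ t : K, z s t ^ p = 1) (hU : IsPGroup p ↥M.Ubar) (hidx : IdxLvl D) (hlt : TermLt D)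
    (hmono : ∀ ws : List ℕ, (∀ i ∈ ws, i < D.rank) → IsMonoW M (wordElt M ws) (wRoot D ws) (wRoot D ws.reverse))
    (hpos : ∀ r s, r < D.nroots → s < D.nroots → s ≠ r → s ≠ D.neg r →
      ∃ ws : List ℕ, (∀ i ∈ ws, i < D.rank) ∧ D.IsPosRoot (wRoot D ws r) ∧ D.IsPosRoot (wRoot D ws s))
    (hwsym : ∀ ws : List ℕ, (∀ i ∈ ws, i < D.rank) → ∀ r s, r < D.nroots → s < D.nroots → s ≠ r → s ≠ D.neg r →
      (D.commTerms (wRoot D ws r) (wRoot D ws s)).map (fun c => c.1) =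
        (D.commTerms r s).map (fun c => wRoot D ws c.1)) : R2E D K z := by
  intro r s hr hs hsr hsn t u
  obtain ⟨ws, hws, hpr, hps⟩ := hpos r s hr hs hsr hsn
  have hP : IsPGroup p ↥(M.Ubar.comap (MulAut.conj (wordElt M ws)).toMonoidHom) :=
    hU.comap_of_injective _ (MulAut.conj (wordElt M ws)).injective
  obtain ⟨S, -, -, hS3, hS4⟩ := hS _ hP
  obtain ⟨-, hm2, -⟩ := hmono ws hws
  have hmemP : ∀ a, a < D.nroots → D.IsPosRoot (wRoot D ws a) → ∀ v : K,
      M.X a v ∈ M.Ubar.comap (MulAut.conj (wordElt M ws)).toMonoidHom := by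
    intro a ha hpa v
    rw [Subgroup.mem_comap]
    obtain ⟨c, -, hc⟩ := hm2 a ha
    show (MulAut.conj (wordElt M ws)) (M.X a v) ∈ M.Ubar
    rw [MulAut.conj_apply, hc v]
    exact Subgroup.subset_closure ⟨_, _, hpa, rfl⟩
  have hzS : ∀ a, a < D.nroots → D.IsPosRoot (wRoot D ws a) → ∀ v : K, z a v ∈ S :=
    fun a ha hpa v => hS4 _ (by rw [hz1 a ha v]; exact hmemP a ha hpa v) (hz2 a ha v)
  have hne : wRoot D ws s ≠ wRoot D ws r := Cfsg.Agent.Lib.Helper50.St3.wRoot_ne tf ws hws s r hs hr hsr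
  -- the roots of the word are in range
  have hwlt : ∀ q ∈ D.commWord K r s t u, q.1 < D.nroots := by
    intro q hq
    unfold ChevalleyDatum.commWord at hq
    obtain ⟨c, hc, rfl⟩ := List.mem_map.mp hq
    exact hlt r s hr hs hsr hsn c hc
  -- and go to positive roots
  have hwpos : ∀ q ∈ D.commWord K r s t u, D.IsPosRoot (wRoot D ws q.1) := by
    intro q hq
    unfold ChevalleyDatum.commWord at hq
    obtain ⟨c, hc, rfl⟩ := List.mem_map.mp hq
    have hmem : wRoot D ws c.1 ∈ (D.commTerms (wRoot D ws r) (wRoot D ws s)).map (fun c => c.1) := by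
      rw [hwsym ws hws r s hr hs hsr hsn]
      exact List.mem_map.mpr ⟨c, hc, rfl⟩
    obtain ⟨c', hc', hc'eq⟩ := List.mem_map.mp hmem
    have h := (hidx _ _ hpr hps hne c' hc').1
    rw [hc'eq] at h
    exact h
  have h1 : (z s u)⁻¹ * (z r t)⁻¹ * z s u * z r t ∈ S :=
    mul_mem (mul_mem (mul_mem (inv_mem (hzS s hs hps u)) (inv_mem (hzS r hr hpr t))) (hzS s hs hps u))
      (hzS r hr hpr t)
  have h2 : ((D.commWord K r s t u).map fun q => z q.1 q.2).prod ∈ S := by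
    apply Subgroup.list_prod_mem
    intro x hx
    obtain ⟨q, hq, rfl⟩ := List.mem_map.mp hx
    exact hzS q.1 (hwlt q hq) (hwpos q hq) q.2
  have h3 : ψ ((z s u)⁻¹ * (z r t)⁻¹ * z s u * z r t)
      = ψ ((D.commWord K r s t u).map fun q => z q.1 q.2).prod := by
    rw [map_mul, map_mul, map_mul, map_inv, map_inv, hz1 s hs, hz1 r hr,
      M.comm r s hr hs hsr hsn t u, map_list_prod, List.map_map]
    congr 1
    apply List.map_congr_left
    intro q hq
    exact (hz1 q.1 (hwlt q hq) q.2).symm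
  have h4 := hS3 _ (mul_mem h1 (inv_mem h2)) (by rw [map_mul, map_inv, h3, mul_inv_cancel])
  exact mul_inv_eq_one.mp h4

end Cfsg.Agent.Lib.Helper60.St3
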