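/-
helper60: project STEINBERG phase 3c (S2399), module P-[UBAR] of the sheet `ST3_MODULES.md` (hedge; helper76 holds the
module): for a model over a field of characteristic `p` on which `π` is injective on `Ū`, the group `Ū` is a `p`-group
(its image consists of unipotent matrices, S1028).
-/
import Cfsg.Agent.S1028
import Cfsg.Agent.Lib.Helper60.St3Defs

set_option autoImplicit false

namespace Cfsg.Agent.Lib.Helper60.St3

open Cfsg.Lie Cfsg.Agent.Lib.Helper35.St

universe u v w

variable {D : ChevalleyDatum} {K : Type u} [Field K] {Γ : Type v} [Group Γ]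

/-- P-[UBAR]. -/
theorem isPGroup_Ubar (hD : D ∈ [chevG2, chevB2, chevD4, chevF4, chevE6, chevE7, chevE8]) (p : ℕ) [Fact p.Prime]
    [CharP K p] (M : Model D K Γ) (hp : M.InjPos) : IsPGroup p ↥M.Ubar := by
  have hmap : ∀ g ∈ M.Ubar, M.π g ∈ D.posUnipotent K := by
    intro g hg
    unfold Model.Ubar Model.sub at hg
    refine Subgroup.closure_induction (p := fun g _ => M.π g ∈ D.posUnipotent K) ?_ ?_ ?_ ?_ hg
    · rintro x ⟨r, t, hr, rfl⟩
      exact Subgroup.subset_closure ⟨r, t, hr, M.hπ r hr.1 t⟩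
    · rw [map_one]
      exact one_mem _
    · intro x y _ _ hx hy
      rw [map_mul]
      exact mul_mem hx hy
    · intro x _ hx
      rw [map_inv]
      exact inv_mem hx
  have hp1 : 1 < p := (Fact.out : p.Prime).one_lt
  intro g
  refine ⟨D.rank + D.nroots, ?_⟩
  have hN : D.rank + D.nroots ≤ p ^ (D.rank + D.nroots) := (Nat.lt_pow_self hp1).le
  have hnil : (((M.π g.1 : GL D.Idx K) : Matrix D.Idx D.Idx K) - 1) ^ (D.rank + D.nroots) = 0 :=
    Cfsg.Agent.S1028.result D hD _ (hmap g.1 g.2)
  have hnil2 : (((M.π g.1 : GL D.Idx K) : Matrix D.Idx D.Idx K) - 1) ^ (p ^ (D.rank + D.nroots)) = 0 :=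
    pow_eq_zero_of_le hN hnil
  have h1 : ((M.π g.1 : GL D.Idx K) : Matrix D.Idx D.Idx K) ^ (p ^ (D.rank + D.nroots)) = 1 := by
    rcases isEmpty_or_nonempty D.Idx with hE | hE
    · exact Subsingleton.elim _ _
    · have hch : CharP (Matrix D.Idx D.Idx K) p := inferInstance
      have h := sub_pow_char_pow_of_commute (n := D.rank + D.nroots) (p := p)
        (Commute.one_right ((M.π g.1 : GL D.Idx K) : Matrix D.Idx D.Idx K))
      rw [hnil2, one_pow] at h
      exact (sub_eq_zero.mp h.symm)
  have h2 : M.π (g.1 ^ (p ^ (D.rank + D.nroots))) = M.π 1 := by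
    rw [map_pow, map_one]
    apply Units.ext
    rw [Units.val_pow_eq_pow_val, h1, Units.val_one]
  have h3 := hp _ (pow_mem g.2 _) 1 (one_mem _) h2
  exact Subtype.ext (by simpa using h3)

end Cfsg.Agent.Lib.Helper60.St3
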