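/-
helper60: project STEINBERG phase 3c (S2399), module P-[Z] of the sheet `ST3_MODULES.md` (hedge; helper73 holds the
module): the `p`-lifts `z s t` of the root elements (the element of order dividing `p` over `X_s(t)`), with (R1).
-/
import Cfsg.Agent.Lib.Helper60.St3Defs

set_option autoImplicit false

namespace Cfsg.Agent.Lib.Helper60.St3

open Cfsg.Lie Cfsg.Agent.Lib.Helper35.St

universe u v w

variable {D : ChevalleyDatum} {K : Type u} [Field K] {Γ : Type v} [Group Γ] {E : Type w} [Group E]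

theorem model_X_zero (M : Model D K Γ) (s : ℕ) (hs : s < D.nroots) : M.X s 0 = 1 := by
  have h := M.add s hs 0 0
  rw [add_zero] at h
  exact mul_eq_left.mp h

theorem model_X_pow (M : Model D K Γ) (s : ℕ) (hs : s < D.nroots) (t : K) (n : ℕ) :
    M.X s t ^ n = M.X s (n • t) := by
  induction n with
  | zero => rw [pow_zero, zero_smul, model_X_zero M s hs]
  | succ n ih => rw [pow_succ, ih, M.add s hs, succ_nsmul]

/-- The root subgroup `X_s(K)` as a subgroup. -/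
def rootSub (M : Model D K Γ) (s : ℕ) (hs : s < D.nroots) : Subgroup Γ where
  carrier := Set.range (M.X s)
  mul_mem' := by
    rintro _ _ ⟨t, rfl⟩ ⟨u, rfl⟩
    exact ⟨t + u, (M.add s hs t u).symm⟩
  one_mem' := ⟨0, model_X_zero M s hs⟩
  inv_mem' := by
    rintro _ ⟨t, rfl⟩
    refine ⟨-t, ?_⟩
    apply eq_inv_of_mul_eq_one_left
    rw [M.add s hs, neg_add_cancel, model_X_zero M s hs]

theorem isPGroup_rootSub (p : ℕ) [Fact p.Prime] [CharP K p] (M : Model D K Γ) (s : ℕ) (hs : s < D.nroots) :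
    IsPGroup p ↥(rootSub M s hs) := by
  rintro ⟨g, t, rfl⟩
  refine ⟨1, Subtype.ext ?_⟩
  show M.X s t ^ (p ^ 1) = 1
  rw [pow_one, model_X_pow M s hs, nsmul_eq_mul, CharP.cast_eq_zero, zero_mul, model_X_zero M s hs]

/-- P-[Z]. -/
theorem exists_pLift [Finite E] (p : ℕ) [Fact p.Prime] [CharP K p] (M : Model D K Γ) (ψ : E →* Γ)
    (hS : ∀ P : Subgroup Γ, IsPGroup p P → ∃ S : Subgroup E, (∀ e ∈ S, ψ e ∈ P) ∧ (∀ g ∈ P, ∃ e ∈ S, ψ e = g) ∧
      (∀ e ∈ S, ψ e = 1 → e = 1) ∧ ∀ e : E, ψ e ∈ P → e ^ p = 1 → e ∈ S) :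
    ∃ z : ℕ → K → E, (∀ s, s < D.nroots → ∀ t : K, ψ (z s t) = M.X s t) ∧
      (∀ s, s < D.nroots → ∀ t : K, z s t ^ p = 1) ∧
      (∀ s, s < D.nroots → ∀ t u : K, z s t * z s u = z s (t + u)) := by
  classical
  -- for each root, the subgroup over the root subgroup
  have hex : ∀ s : ℕ, ∃ f : K → E, s < D.nroots → ∃ S : Subgroup E, (∀ t, f t ∈ S) ∧ (∀ t, ψ (f t) = M.X s t) ∧
      (∀ e ∈ S, ψ e = 1 → e = 1) := by
    intro s
    by_cases hs : s < D.nroots
    · obtain ⟨S, -, hS2, hS3, -⟩ := hS (rootSub M s hs) (isPGroup_rootSub p M s hs)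
      have hch : ∀ t : K, ∃ e, e ∈ S ∧ ψ e = M.X s t := fun t => by
        obtain ⟨e, he, h⟩ := hS2 (M.X s t) ⟨t, rfl⟩
        exact ⟨e, he, h⟩
      choose f hf1 hf2 using hch
      exact ⟨f, fun _ => ⟨S, hf1, hf2, hS3⟩⟩
    · exact ⟨fun _ => 1, fun h => absurd h hs⟩
  choose z hz using hex
  refine ⟨z, ?_, ?_, ?_⟩
  · intro s hs t
    obtain ⟨S, -, h2, -⟩ := hz s hs
    exact h2 t
  · intro s hs t
    obtain ⟨S, h1, h2, h3⟩ := hz s hs
    apply h3 _ (pow_mem (h1 t) p)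
    rw [map_pow, h2 t, model_X_pow M s hs, nsmul_eq_mul, CharP.cast_eq_zero, zero_mul, model_X_zero M s hs]
  · intro s hs t u
    obtain ⟨S, h1, h2, h3⟩ := hz s hs
    have h4 := h3 _ (mul_mem (mul_mem (h1 t) (h1 u)) (inv_mem (h1 (t + u)))) (by
      rw [map_mul, map_mul, map_inv, h2 t, h2 u, h2 (t + u), M.add s hs, mul_inv_cancel])
    exact mul_inv_eq_one.mp h4

end Cfsg.Agent.Lib.Helper60.St3
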