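/-
helper60: project STEINBERG phase 3c (S2399), assembly: the splitting theorem for central extensions of a finite
Steinberg model whose kernel has no `p`-torsion (`p` the characteristic): Steinberg's p-element argument.
Modules P-[SCHURFIN], [SYL] (helper80), [Z], [R2] (helper60) (see sheet `ST3_MODULES.md`).
-/
import Cfsg.Agent.Lib.Helper60.St3Defs
import Cfsg.Agent.Lib.Helper80.St3PSyl
import Cfsg.Agent.Lib.Helper80.St3PSchurFin
import Cfsg.Agent.Lib.Helper60.St4PZ
import Cfsg.Agent.Lib.Helper60.St4PR2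
import Cfsg.Agent.Lib.Helper44.St3MonoW
import Cfsg.Agent.Lib.Helper50.St3.WPos

set_option autoImplicit false

namespace Cfsg.Agent.Lib.Helper60.St3

open Cfsg.Lie Cfsg.Agent.Lib.Helper35.St

universe u v w

variable {D : ChevalleyDatum} {K : Type u} [Field K] {Γ : Type v} [Group Γ] {E : Type w} [Group E]

/-- The splitting theorem for central extensions whose kernel has no `p`-torsion (finite `Γ`). -/
theorem exists_splitting_pprime [Finite Γ] (p : ℕ) [Fact p.Prime] [CharP K p] (M : Model D K Γ) (tf : TF D)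
    (hA : M.Act) (hperf : commutator Γ = ⊤) (hU : IsPGroup p ↥M.Ubar)
    (hidx : IdxLvl D) (hlt : TermLt D) (hwsym : WSym D) (hlong : Longest D)
    (ψ : E →* Γ) (hψ : Function.Surjective ψ) (hc : ψ.ker ≤ Subgroup.center E)
    (hpp : ∀ x ∈ ψ.ker, x ^ p = 1 → x = 1) :
    ∃ z : ℕ → K → E, (∀ s, s < D.nroots → ∀ t : K, ψ (z s t) = M.X s t) ∧
      (∀ s, s < D.nroots → ∀ t u : K, z s t * z s u = z s (t + u)) ∧ R2E D K z := by
  have hfin : Finite (commutator E) := Cfsg.Agent.Lib.Helper80.St3.finite_commutator_of_central ψ hc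
  let ψ₁ : ↥(commutator E) →* Γ := ψ.comp (commutator E).subtype
  have hψ₁ : Function.Surjective ψ₁ := by
    intro g
    have h1 : (commutator E).map ψ = ⊤ := by
      rw [commutator_def, Subgroup.map_commutator, ← MonoidHom.range_eq_map, MonoidHom.range_eq_top.mpr hψ,
        ← commutator_def, hperf]
    have hg : g ∈ (commutator E).map ψ := h1 ▸ Subgroup.mem_top g
    obtain ⟨e, he, rfl⟩ := hg
    exact ⟨⟨e, he⟩, rfl⟩
  have hc₁ : ψ₁.ker ≤ Subgroup.center ↥(commutator E) := by
    intro x hx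
    have hx' : (x : E) ∈ Subgroup.center E := hc (by
      rw [MonoidHom.mem_ker] at hx ⊢
      exact hx)
    rw [Subgroup.mem_center_iff] at hx' ⊢
    intro y
    exact Subtype.ext (hx' y)
  have hpp₁ : ∀ x ∈ ψ₁.ker, x ^ p = 1 → x = 1 := by
    intro x hx hxp
    have h1 : (x : E) ∈ ψ.ker := by
      rw [MonoidHom.mem_ker] at hx ⊢
      exact hx
    have h2 : (x : E) ^ p = 1 := by
      have := congrArg Subtype.val hxp
      simpa using this
    exact Subtype.ext (hpp _ h1 h2)
  have hS := fun P hP => Cfsg.Agent.Lib.Helper80.St3.exists_pSub p ψ₁ hψ₁ hc₁ hpp₁ P hP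
  obtain ⟨z₁, hz1, hz2, hz3⟩ := exists_pLift p M ψ₁ hS
  have hr2 : R2E D K z₁ := pLift_r2 p M tf ψ₁ hS z₁ hz1 hz2 hU hidx hlt
    (fun ws hws => Cfsg.Agent.Lib.Helper44.St3.isMonoW_wordElt M tf hA ws hws)
    (fun r s hr hs hsr hsn => Cfsg.Agent.Lib.Helper50.St3.exists_word_pos tf hlong r s hr hs hsr hsn)
    (fun ws hws r s hr hs hsr hsn => Cfsg.Agent.Lib.Helper50.St3.wSym_word tf hwsym ws hws r s hr hs hsr hsn)
  refine ⟨fun s t => (z₁ s t : E), fun s hs t => hz1 s hs t, ?_, ?_⟩
  · intro s hs t u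
    have := congrArg Subtype.val (hz3 s hs t u)
    simpa using this
  · intro r s hr hs hsr hsn t u
    have h := congrArg (commutator E).subtype (hr2 r s hr hs hsr hsn t u)
    rw [map_mul, map_mul, map_mul, map_inv, map_inv, map_list_prod, List.map_map] at h
    exact h

end Cfsg.Agent.Lib.Helper60.St3
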