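import Mathlib

/-!
# Elements of `2`-power order of a symmetric group lying in a unique Sylow `2`-subgroup (helper60)

Basic facts on periods of points, and the "only if" half.
-/

set_option autoImplicit false
set_option linter.unusedSectionVars false

namespace Cfsg.Agent.Helper60.SylTwo

open Equiv Equiv.Perm

variable {α : Type*} [Fintype α] [DecidableEq α]

/-- the period of a point under a permutation -/
noncomputable def per (x : Perm α) (a : α) : ℕ := Function.minimalPeriod x a

theorem pow_apply_eq_iff (x : Perm α) (a : α) (n : ℕ) : (x ^ n) a = a ↔ per x a ∣ n := by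
  rw [per, ← Function.isPeriodicPt_iff_minimalPeriod_dvd, Function.IsPeriodicPt,
    Function.IsFixedPt, Equiv.Perm.iterate_eq_pow]

theorem pow_per_apply (x : Perm α) (a : α) : (x ^ per x a) a = a :=
  (pow_apply_eq_iff x a _).2 dvd_rfl

theorem per_dvd_orderOf (x : Perm α) (a : α) : per x a ∣ orderOf x := by
  rw [← pow_apply_eq_iff, pow_orderOf_eq_one]
  rfl

theorem per_pos (x : Perm α) (a : α) : 0 < per x a :=
  Nat.pos_of_dvd_of_pos (per_dvd_orderOf x a) (orderOf_pos x)

theorem per_eq_one_iff (x : Perm α) (a : α) : per x a = 1 ↔ x a = a := by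
  constructor
  · intro h
    have := (pow_apply_eq_iff x a 1).2 (by rw [h])
    simpa using this
  · intro h
    have := (pow_apply_eq_iff x a 1).1 (by simpa using h)
    exact Nat.dvd_one.1 this

theorem per_eq_of_forall {x y : Perm α} {a b : α}
    (h : ∀ n : ℕ, (x ^ n) a = a ↔ (y ^ n) b = b) : per x a = per y b := by
  apply Nat.dvd_antisymm
  · rw [← pow_apply_eq_iff, h]
    exact pow_per_apply y b
  · rw [← pow_apply_eq_iff, ← h]
    exact pow_per_apply x a

theorem per_pow_apply (x : Perm α) (a : α) (i : ℕ) : per x ((x ^ i) a) = per x a := by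
  apply per_eq_of_forall
  intro n
  rw [← Equiv.Perm.mul_apply, ← pow_add, add_comm, pow_add, Equiv.Perm.mul_apply,
    (x ^ i).apply_eq_iff_eq]

theorem pow_add_per_apply (x : Perm α) (a : α) (i : ℕ) :
    (x ^ (i + per x a)) a = (x ^ i) a := by
  rw [pow_add, Equiv.Perm.mul_apply, pow_per_apply]

/-- the period is the length of the cycle -/
theorem per_eq_card_support_cycleOf (x : Perm α) {a : α} (ha : a ∈ x.support) :
    per x a = (x.cycleOf a).support.card := by
  have hmem : a ∈ (x.cycleOf a).support := by
    rw [mem_support_cycleOf_iff]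
    exact ⟨SameCycle.refl x a, ha⟩
  have h := fun n => (isCycleOn_support_cycleOf x a).pow_apply_eq hmem (n := n)
  apply Nat.dvd_antisymm
  · rw [← pow_apply_eq_iff, h]
  · rw [← h]
    exact pow_per_apply x a

theorem sameCycle_of_pow {x : Perm α} {a b : α} {i : ℕ} (h : (x ^ i) a = b) : x.SameCycle a b :=
  ⟨(i : ℤ), by simpa using h⟩

theorem exists_pow_of_sameCycle {x : Perm α} {a b : α} (h : x.SameCycle a b) :
    ∃ i : ℕ, (x ^ i) a = b := by
  obtain ⟨i, -, hi⟩ := h.exists_pow_eq'
  exact ⟨i, hi⟩

theorem per_eq_of_sameCycle {x : Perm α} {a b : α} (h : x.SameCycle a b) : per x a = per x b := by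
  obtain ⟨i, rfl⟩ := exists_pow_of_sameCycle h
  exact (per_pow_apply x a i).symm

end Cfsg.Agent.Helper60.SylTwo
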