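import Mathlib
import Cfsg.Agent.Lib.Helper60.SylTwoBasic

/-!
# Good permutations and their canonical involution (helper60)
-/

set_option autoImplicit false
set_option linter.unusedSectionVars false

namespace Cfsg.Agent.Helper60.SylTwo

open Equiv Equiv.Perm

variable {α : Type*} [Fintype α] [DecidableEq α]

/-- all periods are powers of two, points of equal period at least `2` lie in one cycle, and there
are at most two fixed points -/
structure Good (x : Perm α) : Prop where
  two_pow : ∀ a, ∃ k : ℕ, per x a = 2 ^ k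
  same : ∀ a b, per x a = per x b → 2 ≤ per x a → x.SameCycle a b
  fix : ∀ a b c, x a = a → x b = b → x c = c → a = b ∨ a = c ∨ b = c

/-- an involution with at most one fixed point -/
structure Inv1 (ι : Perm α) : Prop where
  sq : ∀ a, ι (ι a) = a
  fix : ∀ a b, ι a = a → ι b = b → a = b

theorem comm_apply {x ι : Perm α} (hc : Commute x ι) (a : α) : x (ι a) = ι (x a) := by
  rw [← Equiv.Perm.mul_apply, ← Equiv.Perm.mul_apply, hc.eq]

theorem comm_pow_apply {x ι : Perm α} (hc : Commute x ι) (n : ℕ) (a : α) :
    (x ^ n) (ι a) = ι ((x ^ n) a) :=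
  comm_apply (hc.pow_left n) a

theorem per_apply_of_commute {x ι : Perm α} (hc : Commute x ι) (a : α) : per x (ι a) = per x a := by
  apply per_eq_of_forall
  intro n
  rw [comm_pow_apply hc, ι.apply_eq_iff_eq]

/-- the value of the involution on a point of period at least two -/
theorem inv_apply_eq {x ι : Perm α} (hx : Good x) (hι : Inv1 ι) (hc : Commute x ι) {a : α}
    (ha : ι a ≠ a) (hp : 2 ≤ per x a) : ι a = (x ^ (per x a / 2)) a := by
  have hsame : x.SameCycle a (ι a) := hx.same a (ι a) (per_apply_of_commute hc a).symm hp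
  obtain ⟨j, hj⟩ := exists_pow_of_sameCycle hsame
  have h2j : (x ^ (2 * j)) a = a := by
    rw [two_mul, pow_add, Equiv.Perm.mul_apply, hj, comm_pow_apply hc, hj, hι.sq]
  rw [pow_apply_eq_iff] at h2j
  have hnj : ¬ per x a ∣ j := by
    rw [← pow_apply_eq_iff, hj]
    exact ha
  obtain ⟨k, hk⟩ := hx.two_pow a
  rcases k with _ | k
  · rw [hk] at hp; norm_num at hp
  have hhalf : per x a / 2 = 2 ^ k := by
    rw [hk, pow_succ, Nat.mul_div_cancel _ (by norm_num)]
  have hper : per x a = 2 * 2 ^ k := by rw [hk, pow_succ, mul_comm]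
  rw [hper] at h2j hnj
  have hdvd : 2 ^ k ∣ j := (Nat.mul_dvd_mul_iff_left (by norm_num)).1 h2j
  obtain ⟨m, rfl⟩ := hdvd
  have hodd : ¬ 2 ∣ m := by
    intro h
    apply hnj
    obtain ⟨t, rfl⟩ := h
    exact ⟨t, by ring⟩
  have hm : m = 2 * (m / 2) + 1 := by omega
  rw [hhalf, ← hj, hm]
  have : 2 ^ k * (2 * (m / 2) + 1) = 2 ^ k + (m / 2) * per x a := by
    rw [hper]; ring
  rw [this, pow_add, Equiv.Perm.mul_apply]
  congr 1
  rw [pow_apply_eq_iff]
  exact Dvd.intro_left _ rfl

/-- the involution maps fixed points to fixed points -/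
theorem inv_apply_fixed {x ι : Perm α} (hc : Commute x ι) {a : α} (ha : x a = a) :
    x (ι a) = ι a := by
  rw [comm_apply hc, ha]

/-- the canonical involution is unique -/
theorem inv_unique {x ι ι' : Perm α} (hx : Good x) (hι : Inv1 ι) (hι' : Inv1 ι')
    (hc : Commute x ι) (hc' : Commute x ι') : ι = ι' := by
  -- a point fixed by one involution is fixed by the other
  have key : ∀ {κ κ' : Perm α}, Inv1 κ → Inv1 κ' → Commute x κ → Commute x κ' →
      ∀ a, κ a = a → κ' a = a := by
    intro κ κ' hκ hκ' hcκ hcκ' a ha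
    by_contra hne
    have hxa : x a = a := by
      apply hκ.fix _ _ _ ha
      rw [← comm_apply hcκ, ha]
    set b := κ' a with hb
    have hxb : x b = b := inv_apply_fixed hcκ' hxa
    have hκb : κ b ≠ b := by
      intro h
      exact hne (hκ.fix _ _ h ha)
    set c := κ b with hcdef
    have hxc : x c = c := inv_apply_fixed hcκ hxb
    have hca : c ≠ a := by
      intro h
      have h1 : κ c = b := hκ.sq b
      rw [h, ha] at h1
      exact hne h1.symm
    rcases hx.fix a b c hxa hxb hxc with h | h | h
    · exact hne h.symm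
    · exact hca h.symm
    · exact hκb h.symm
  ext a
  by_cases h1 : ι a = a
  · rw [h1, key hι hι' hc hc' a h1]
  by_cases h2 : ι' a = a
  · exact absurd (key hι' hι hc' hc a h2) h1
  by_cases hp : 2 ≤ per x a
  · rw [inv_apply_eq hx hι hc h1 hp, inv_apply_eq hx hι' hc' h2 hp]
  · have hxa : x a = a := by
      rw [← per_eq_one_iff]
      have := per_pos x a
      omega
    rcases hx.fix a (ι a) (ι' a) hxa (inv_apply_fixed hc hxa) (inv_apply_fixed hc' hxa) with
      h | h | h
    · exact absurd h.symm h1
    · exact absurd h.symm h2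
    · exact h

end Cfsg.Agent.Helper60.SylTwo
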