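import Mathlib
import Cfsg.Agent.Lib.Helper60.SylTwoGood

/-!
# Every Sylow `2`-subgroup of a symmetric group centralizes an involution with at most one
fixed point (helper60)
-/

set_option autoImplicit false
set_option linter.unusedSectionVars false

namespace Cfsg.Agent.Helper60.SylTwo

open Equiv Equiv.Perm

variable {α : Type*} [Fintype α] [DecidableEq α]

theorem exists_cycleType_replicate :
    ∃ ι : Perm α, ι.cycleType = Multiset.replicate (Fintype.card α / 2) 2 := by
  rw [exists_with_cycleType_iff]
  constructor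
  · rw [Multiset.sum_replicate, smul_eq_mul]
    omega
  · intro a ha
    rw [Multiset.eq_of_mem_replicate ha]

theorem inv1_of_cycleType {ι : Perm α}
    (h : ι.cycleType = Multiset.replicate (Fintype.card α / 2) 2) : Inv1 ι := by
  have hsq : ι ^ 2 = 1 := by
    rw [← orderOf_dvd_iff_pow_eq_one, ← lcm_cycleType, h, Multiset.lcm_dvd]
    intro b hb
    rw [Multiset.eq_of_mem_replicate hb]
  refine ⟨?_, ?_⟩
  · intro a
    rw [← Equiv.Perm.mul_apply, ← pow_two, hsq]
    rfl
  · intro a b ha hb
    by_contra hab
    have hsub : ({a, b} : Finset α) ⊆ ι.supportᶜ := by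
      intro c hc
      rw [Finset.mem_insert, Finset.mem_singleton] at hc
      rw [Finset.mem_compl, mem_support, not_not]
      rcases hc with rfl | rfl
      · exact ha
      · exact hb
    have h1 := Finset.card_le_card hsub
    rw [Finset.card_pair hab, Finset.card_compl, ← sum_cycleType, h, Multiset.sum_replicate,
      smul_eq_mul] at h1
    omega

theorem padicValNat_two_factorial (n : ℕ) :
    padicValNat 2 n.factorial = padicValNat 2 (n / 2).factorial + n / 2 := by
  have : Fact (Nat.Prime 2) := ⟨Nat.prime_two⟩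
  rw [← padicValNat_mul_div_factorial n, padicValNat_factorial_mul]

theorem card_centralizer_of_cycleType {ι : Perm α}
    (h : ι.cycleType = Multiset.replicate (Fintype.card α / 2) 2) :
    Nat.card (Subgroup.centralizer {ι}) =
      2 ^ (Fintype.card α / 2) * (Fintype.card α / 2).factorial := by
  rw [nat_card_centralizer, h, Multiset.sum_replicate, Multiset.prod_replicate,
    Multiset.toFinset_replicate, smul_eq_mul]
  have h1 : Fintype.card α - Fintype.card α / 2 * 2 ≤ 1 := by omega
  have h2 : (Fintype.card α - Fintype.card α / 2 * 2).factorial = 1 := by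
    interval_cases (Fintype.card α - Fintype.card α / 2 * 2) <;> rfl
  rw [h2, one_mul]
  by_cases hm : Fintype.card α / 2 = 0
  · rw [if_pos hm, hm]
    rfl
  · rw [if_neg hm, Finset.prod_singleton, Multiset.count_replicate_self]

theorem factorization_card_centralizer {ι : Perm α}
    (h : ι.cycleType = Multiset.replicate (Fintype.card α / 2) 2) :
    (Nat.card (Subgroup.centralizer {ι})).factorization 2 =
      (Nat.card (Perm α)).factorization 2 := by
  have : Fact (Nat.Prime 2) := ⟨Nat.prime_two⟩
  rw [card_centralizer_of_cycleType h, Nat.card_perm, Nat.card_eq_fintype_card,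
    Nat.factorization_def _ Nat.prime_two, Nat.factorization_def _ Nat.prime_two,
    padicValNat_two_factorial (Fintype.card α),
    padicValNat.mul (pow_ne_zero _ (by norm_num)) (Nat.factorial_ne_zero _),
    padicValNat.prime_pow, add_comm]

/-- every Sylow `2`-subgroup centralizes an involution with at most one fixed point -/
theorem exists_inv (P : Sylow 2 (Perm α)) :
    ∃ ι : Perm α, Inv1 ι ∧ (P : Subgroup (Perm α)) ≤ Subgroup.centralizer {ι} := by
  have : Fact (Nat.Prime 2) := ⟨Nat.prime_two⟩
  obtain ⟨ι₀, h0⟩ := exists_cycleType_replicate (α := α)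
  have hι₀ := inv1_of_cycleType h0
  let S : Sylow 2 (Subgroup.centralizer {ι₀}) := default
  have hcard : Nat.card ((S : Subgroup (Subgroup.centralizer {ι₀})).map
      (Subgroup.centralizer {ι₀}).subtype) = 2 ^ (Nat.card (Perm α)).factorization 2 := by
    rw [Subgroup.card_subtype, S.card_eq_multiplicity, factorization_card_centralizer h0]
  let Q : Sylow 2 (Perm α) := Sylow.ofCard _ hcard
  have hQ : (Q : Subgroup (Perm α)) ≤ Subgroup.centralizer {ι₀} := by
    rw [Sylow.coe_ofCard]
    exact Subgroup.map_subtype_le _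
  obtain ⟨g, hg⟩ := MulAction.exists_smul_eq (Perm α) Q P
  refine ⟨g * ι₀ * g⁻¹, ⟨?_, ?_⟩, ?_⟩
  · intro a
    simp only [Equiv.Perm.mul_apply, Equiv.Perm.coe_inv, Equiv.symm_apply_apply, hι₀.sq,
      Equiv.apply_symm_apply]
  · intro a b ha hb
    simp only [Equiv.Perm.mul_apply] at ha hb
    have ha' : ι₀ (g⁻¹ a) = g⁻¹ a := by
      rw [Equiv.Perm.eq_inv_iff_eq, ha]
    have hb' : ι₀ (g⁻¹ b) = g⁻¹ b := by
      rw [Equiv.Perm.eq_inv_iff_eq, hb]
    exact g⁻¹.injective (hι₀.fix _ _ ha' hb')
  · intro p hp
    rw [← hg, Sylow.coe_subgroup_smul, Subgroup.mem_pointwise_smul_iff_inv_smul_mem,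
      MulAut.smul_def, MulAut.conj_inv_apply] at hp
    have h := hQ hp
    rw [Subgroup.mem_centralizer_singleton_iff] at h ⊢
    calc p * (g * ι₀ * g⁻¹) = g * (g⁻¹ * p * g * ι₀) * g⁻¹ := by group
      _ = g * (ι₀ * (g⁻¹ * p * g)) * g⁻¹ := by rw [h]
      _ = g * ι₀ * g⁻¹ * p := by group

end Cfsg.Agent.Helper60.SylTwo
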