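import Mathlib
import Cfsg.Agent.Lib.Helper60.SylTwoBasic

/-!
# The "only if" half (helper60)
-/

set_option autoImplicit false
set_option linter.unusedSectionVars false

namespace Cfsg.Agent.Helper60.SylTwo

open Equiv Equiv.Perm

variable {α : Type*} [Fintype α] [DecidableEq α]

/-- the swaps `(x^i u, x^i v)` -/
def sw (x : Perm α) (u v : α) (i : ℕ) : Perm α := swap ((x ^ i) u) ((x ^ i) v)

theorem sw_conj (x : Perm α) (u v : α) (i : ℕ) : x * sw x u v i * x⁻¹ = sw x u v (i + 1) := by
  rw [sw, sw, ← swap_apply_apply, ← Equiv.Perm.mul_apply, ← Equiv.Perm.mul_apply, ← pow_succ']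

theorem sw_add_per (x : Perm α) {u v : α} (h : per x u = per x v) (i : ℕ) :
    sw x u v (i + per x u) = sw x u v i := by
  rw [sw, sw, pow_add_per_apply, h, pow_add_per_apply]

theorem sw_mul_self (x : Perm α) (u v : α) (i : ℕ) : sw x u v i * sw x u v i = 1 :=
  swap_mul_self _ _

theorem pow_apply_eq_pow_apply_iff (x : Perm α) {u v : α} (h : per x u = per x v) (i j : ℕ) :
    (x ^ i) u = (x ^ j) u ↔ (x ^ i) v = (x ^ j) v := by
  wlog hij : i ≤ j generalizing i j
  · rw [eq_comm, this j i (by omega), eq_comm]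
  obtain ⟨d, rfl⟩ := Nat.exists_eq_add_of_le hij
  rw [add_comm i d, pow_add, Equiv.Perm.mul_apply, Equiv.Perm.mul_apply]
  constructor
  · intro h1
    have h2 : (x ^ d) ((x ^ i) u) = (x ^ i) u := h1.symm
    rw [pow_apply_eq_iff, per_pow_apply, h, ← per_pow_apply x v i, ← pow_apply_eq_iff] at h2
    exact h2.symm
  · intro h1
    have h2 : (x ^ d) ((x ^ i) v) = (x ^ i) v := h1.symm
    rw [pow_apply_eq_iff, per_pow_apply, ← h, ← per_pow_apply x u i, ← pow_apply_eq_iff] at h2
    exact h2.symm

theorem sw_commute (x : Perm α) {u v : α} (h : per x u = per x v) (hs : ¬ x.SameCycle u v)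
    (i j : ℕ) : Commute (sw x u v i) (sw x u v j) := by
  by_cases hu : (x ^ i) u = (x ^ j) u
  · have hv := (pow_apply_eq_pow_apply_iff x h i j).1 hu
    rw [sw, sw, hu, hv]
  · have hv : (x ^ i) v ≠ (x ^ j) v := fun h' => hu ((pow_apply_eq_pow_apply_iff x h i j).2 h')
    have h1 : (x ^ i) u ≠ (x ^ j) v := by
      intro h'
      apply hs
      have h2 : x.SameCycle u ((x ^ i) u) := sameCycle_of_pow rfl
      have h3 : x.SameCycle v ((x ^ j) v) := sameCycle_of_pow rfl
      rw [h'] at h2
      exact h2.trans h3.symm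
    have h2 : (x ^ i) v ≠ (x ^ j) u := by
      intro h'
      apply hs
      have h2 : x.SameCycle v ((x ^ i) v) := sameCycle_of_pow rfl
      have h3 : x.SameCycle u ((x ^ j) u) := sameCycle_of_pow rfl
      rw [h'] at h2
      exact h3.trans h2.symm
    have huv : ∀ k : ℕ, (x ^ k) u ≠ (x ^ k) v := by
      intro k h'
      apply hs
      have := (x ^ k).injective h'
      rw [this]
    apply Equiv.Perm.Disjoint.commute
    rw [sw, sw, disjoint_iff_disjoint_support, support_swap (huv i), support_swap (huv j)]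
    rw [Finset.disjoint_left]
    intro a ha hb
    rw [Finset.mem_insert, Finset.mem_singleton] at ha hb
    rcases ha with rfl | rfl <;> rcases hb with hb | hb
    · exact hu hb
    · exact h1 hb
    · exact h2 hb
    · exact hv hb

/-- the elementary abelian group generated by the swaps -/
def swGroup (x : Perm α) (u v : α) : Subgroup (Perm α) := Subgroup.closure (Set.range (sw x u v))

theorem swGroup_commute (x : Perm α) {u v : α} (h : per x u = per x v) (hs : ¬ x.SameCycle u v)
    {g k : Perm α} (hg : g ∈ swGroup x u v) (hk : k ∈ swGroup x u v) : Commute g k := by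
  have h1 : Set.range (sw x u v) ⊆ (Subgroup.centralizer (Set.range (sw x u v)) : Set (Perm α)) := by
    rintro _ ⟨i, rfl⟩
    rw [SetLike.mem_coe, Subgroup.mem_centralizer_iff]
    rintro _ ⟨j, rfl⟩
    exact (sw_commute x h hs j i).eq
  have h2 : swGroup x u v ≤ Subgroup.centralizer (Set.range (sw x u v)) :=
    (Subgroup.closure_le _).2 h1
  have h3 : swGroup x u v ≤ Subgroup.centralizer (swGroup x u v : Set (Perm α)) := by
    rw [swGroup, Subgroup.centralizer_closure]
    exact h2
  have := Subgroup.mem_centralizer_iff.1 (h3 hk) g hg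
  exact this

theorem swGroup_sq (x : Perm α) {u v : α} (h : per x u = per x v) (hs : ¬ x.SameCycle u v)
    {g : Perm α} (hg : g ∈ swGroup x u v) : g * g = 1 := by
  induction hg using Subgroup.closure_induction with
  | mem y hy =>
    obtain ⟨i, rfl⟩ := hy
    exact sw_mul_self x u v i
  | one => simp
  | mul a b ha hb iha ihb =>
    have hc : Commute a b := swGroup_commute x h hs ha hb
    calc a * b * (a * b) = a * (b * a) * b := by group
      _ = a * (a * b) * b := by rw [hc.eq]
      _ = (a * a) * (b * b) := by group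
      _ = 1 := by rw [iha, ihb, one_mul]
  | inv a ha iha =>
    have : a⁻¹ = a := by
      rw [inv_eq_iff_mul_eq_one]
      exact iha
    rw [this, iha]

theorem swGroup_isPGroup (x : Perm α) {u v : α} (h : per x u = per x v) (hs : ¬ x.SameCycle u v) :
    IsPGroup 2 (swGroup x u v) := by
  intro g
  refine ⟨1, ?_⟩
  apply Subtype.ext
  rw [pow_one, pow_two]
  exact swGroup_sq x h hs g.2

theorem swGroup_map_conj (x : Perm α) {u v : α} (h : per x u = per x v) :
    (swGroup x u v).map (MulAut.conj x).toMonoidHom = swGroup x u v := by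
  rw [swGroup, MonoidHom.map_closure]
  congr 1
  ext g
  constructor
  · rintro ⟨_, ⟨i, rfl⟩, rfl⟩
    refine ⟨i + 1, ?_⟩
    rw [← sw_conj]
    rfl
  · rintro ⟨i, rfl⟩
    have hpos := per_pos x u
    refine ⟨sw x u v (i + (per x u - 1)), ⟨_, rfl⟩, ?_⟩
    show x * sw x u v (i + (per x u - 1)) * x⁻¹ = _
    rw [sw_conj, show i + (per x u - 1) + 1 = i + per x u by omega, sw_add_per x h]

theorem mem_normalizer_swGroup (x : Perm α) {u v : α} (h : per x u = per x v) :
    x ∈ Subgroup.normalizer (swGroup x u v : Set (Perm α)) := by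
  rw [Subgroup.mem_normalizer_iff]
  intro g
  constructor
  · intro hg
    rw [← swGroup_map_conj x h]
    exact ⟨g, hg, rfl⟩
  · intro hg
    rw [← swGroup_map_conj x h] at hg
    obtain ⟨k, hk, hk'⟩ := hg
    have : k = g := by
      have h1 : x * k * x⁻¹ = x * g * x⁻¹ := hk'
      have h2 := mul_right_cancel h1
      exact mul_left_cancel h2
    rw [← this]
    exact hk

theorem zpowers_isPGroup {x : Perm α} (hx : ∃ k : ℕ, orderOf x = 2 ^ k) :
    IsPGroup 2 (Subgroup.zpowers x) := by
  obtain ⟨k, hk⟩ := hx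
  apply IsPGroup.of_card (n := k)
  rw [Nat.card_zpowers, hk]

/-- a `2`-group containing `x` and the swap `(u v)` -/
theorem exists_two_group (x : Perm α) (hx : ∃ k : ℕ, orderOf x = 2 ^ k) {u v : α}
    (h : per x u = per x v) (hs : ¬ x.SameCycle u v) :
    ∃ K : Subgroup (Perm α), IsPGroup 2 K ∧ x ∈ K ∧ swap u v ∈ K := by
  refine ⟨Subgroup.zpowers x ⊔ swGroup x u v, ?_, ?_, ?_⟩
  · apply IsPGroup.to_sup_of_normal_right' (zpowers_isPGroup hx) (swGroup_isPGroup x h hs)
    rw [Subgroup.zpowers_le]
    exact mem_normalizer_swGroup x h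
  · exact (le_sup_left : Subgroup.zpowers x ≤ _) (Subgroup.mem_zpowers x)
  · apply (le_sup_right : swGroup x u v ≤ _)
    apply Subgroup.subset_closure
    exact ⟨0, by simp [sw]⟩

/-- if `x` lies in a unique Sylow `2`-subgroup `P`, the swap of two points of the same period in
different cycles lies in `P` -/
theorem swap_mem_of_unique (x : Perm α) (hx : ∃ k : ℕ, orderOf x = 2 ^ k)
    (P : Sylow 2 (Perm α)) (hP : ∀ Q : Sylow 2 (Perm α), x ∈ Q → Q = P) {u v : α}
    (h : per x u = per x v) (hs : ¬ x.SameCycle u v) : swap u v ∈ P := by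
  obtain ⟨K, hK, hxK, hsK⟩ := exists_two_group x hx h hs
  obtain ⟨Q, hQ⟩ := hK.exists_le_sylow
  have := hP Q (hQ hxK)
  rw [← this]
  exact hQ hsK

theorem three_cycle_not_mem (P : Sylow 2 (Perm α)) {a b c : α} (hab : a ≠ b) (hac : a ≠ c)
    (hbc : b ≠ c) (h1 : swap a b ∈ P) (h2 : swap a c ∈ P) : False := by
  have h3 : swap a b * swap a c ∈ P := mul_mem h1 h2
  have h4 := (isThreeCycle_swap_mul_swap_same hab hac hbc).orderOf
  have : Fact (Nat.Prime 2) := ⟨Nat.prime_two⟩
  obtain ⟨k, hk⟩ := (IsPGroup.iff_orderOf.1 P.isPGroup') ⟨_, h3⟩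
  rw [Subgroup.orderOf_mk, h4] at hk
  rcases k with _ | _ | k
  · simp at hk
  · simp at hk
  · have : 4 ∣ 3 := by
      rw [hk, pow_succ, pow_succ]
      exact ⟨2 ^ k, by ring⟩
    omega

/-- the "only if" half -/
theorem forward (x : Perm α) (hx : ∃ k : ℕ, orderOf x = 2 ^ k)
    (P : Sylow 2 (Perm α)) (hP : ∀ Q : Sylow 2 (Perm α), x ∈ Q → Q = P) :
    Fintype.card α ≤ x.support.card + 2 ∧ x.cycleType.Nodup := by
  constructor
  · by_contra hcon
    push Not at hcon
    have h1 : 2 < (x.supportᶜ).card := by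
      rw [Finset.card_compl]
      omega
    obtain ⟨a, ha, b, hb, c, hc, hab, hac, hbc⟩ := Finset.two_lt_card.1 h1
    rw [Finset.mem_compl, Equiv.Perm.notMem_support] at ha hb hc
    have hpa := (per_eq_one_iff x a).2 ha
    have hpb := (per_eq_one_iff x b).2 hb
    have hpc := (per_eq_one_iff x c).2 hc
    have hns : ∀ {p q : α}, x p = p → p ≠ q → ¬ x.SameCycle p q := by
      intro p q hp hpq hsame
      obtain ⟨i, hi⟩ := exists_pow_of_sameCycle hsame
      rw [pow_apply_eq_self_of_apply_eq_self hp] at hi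
      exact hpq hi
    exact three_cycle_not_mem P hab hac hbc
      (swap_mem_of_unique x hx P hP (hpa.trans hpb.symm) (hns ha hab))
      (swap_mem_of_unique x hx P hP (hpa.trans hpc.symm) (hns ha hac))
  · rw [cycleType_def]
    apply Multiset.Nodup.map_on _ x.cycleFactorsFinset.nodup
    intro c₁ hc₁ c₂ hc₂ hcard
    by_contra hne
    rw [Finset.mem_val] at hc₁ hc₂
    have hcy₁ := (mem_cycleFactorsFinset_iff.1 hc₁).1
    have hcy₂ := (mem_cycleFactorsFinset_iff.1 hc₂).1
    obtain ⟨u, hu⟩ := hcy₁.nonempty_support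
    obtain ⟨v, hv⟩ := hcy₂.nonempty_support
    have e₁ := cycle_is_cycleOf hu hc₁
    have e₂ := cycle_is_cycleOf hv hc₂
    have hux : u ∈ x.support := mem_cycleFactorsFinset_support_le hc₁ hu
    have hvx : v ∈ x.support := mem_cycleFactorsFinset_support_le hc₂ hv
    have hper : per x u = per x v := by
      rw [per_eq_card_support_cycleOf x hux, per_eq_card_support_cycleOf x hvx, ← e₁, ← e₂]
      exact hcard
    have hns : ¬ x.SameCycle u v := by
      intro hsame
      apply hne
      rw [e₁, e₂]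
      exact (sameCycle_iff_cycleOf_eq_of_mem_support hux hvx).1 hsame
    have hv' : x v ≠ v := mem_support.1 hvx
    have hper' : per x u = per x (x v) := by
      rw [hper]
      have := per_pow_apply x v 1
      rw [pow_one] at this
      exact this.symm
    have hns' : ¬ x.SameCycle u (x v) := by
      intro hsame
      apply hns
      exact hsame.trans (sameCycle_of_pow (i := 1) (by simp)).symm
    have huv : u ≠ v := fun h => hns (h ▸ SameCycle.refl x u)
    have huv' : u ≠ x v := fun h => hns' (h ▸ SameCycle.refl x u)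
    exact three_cycle_not_mem P huv huv' (Ne.symm hv')
      (swap_mem_of_unique x hx P hP hper hns) (swap_mem_of_unique x hx P hP hper' hns')

end Cfsg.Agent.Helper60.SylTwo
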