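import Mathlib
import Cfsg.Agent.Lib.Helper60.SylTwoGood

/-!
# The action on the cycles of the canonical involution (helper60)
-/

set_option autoImplicit false
set_option linter.unusedSectionVars false

namespace Cfsg.Agent.Helper60.SylTwo

open Equiv Equiv.Perm Equiv.Perm.OnCycleFactors

variable {α : Type*} [Fintype α] [DecidableEq α]

/-- the cycle of the involution through a moved point -/
def proj (ι : Perm α) (a : α) (ha : ι a ≠ a) : ι.cycleFactorsFinset :=
  ⟨ι.cycleOf a, cycleOf_mem_cycleFactorsFinset_iff.2 (mem_support.2 ha)⟩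

theorem proj_surjective (ι : Perm α) (c : ι.cycleFactorsFinset) :
    ∃ (a : α) (ha : ι a ≠ a), proj ι a ha = c := by
  have hcy := (mem_cycleFactorsFinset_iff.1 c.2).1
  obtain ⟨a, ha⟩ := hcy.nonempty_support
  have hax : a ∈ ι.support := mem_cycleFactorsFinset_support_le c.2 ha
  refine ⟨a, mem_support.1 hax, ?_⟩
  apply Subtype.ext
  exact (cycle_is_cycleOf ha c.2).symm

theorem sameCycle_inv_iff {ι : Perm α} (hι : ∀ a, ι (ι a) = a) (a b : α) :
    ι.SameCycle a b ↔ b = a ∨ b = ι a := by
  constructor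
  · intro h
    obtain ⟨i, rfl⟩ := exists_pow_of_sameCycle h
    have hsq : ι ^ 2 = 1 := by
      ext y
      rw [pow_two, Equiv.Perm.mul_apply, hι]
      rfl
    rcases Nat.even_or_odd' i with ⟨k, rfl | rfl⟩
    · left
      rw [pow_mul, hsq, one_pow]
      rfl
    · right
      rw [pow_succ, pow_mul, hsq, one_pow, one_mul]
  · rintro (rfl | rfl)
    · exact SameCycle.refl _ _
    · exact sameCycle_of_pow (i := 1) (by simp)

theorem proj_eq_iff {ι : Perm α} (hι : ∀ a, ι (ι a) = a) {a b : α} (ha : ι a ≠ a) (hb : ι b ≠ b) :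
    proj ι a ha = proj ι b hb ↔ b = a ∨ b = ι a := by
  rw [← sameCycle_inv_iff hι, proj, proj, Subtype.mk.injEq,
    sameCycle_iff_cycleOf_eq_of_mem_support (mem_support.2 ha) (mem_support.2 hb)]

theorem mem_centralizer_apply {ι : Perm α} (k : Subgroup.centralizer {ι}) (a : α) :
    (k : Perm α) (ι a) = ι ((k : Perm α) a) := by
  have := Subgroup.mem_centralizer_singleton_iff.1 k.2
  rw [← Equiv.Perm.mul_apply, ← Equiv.Perm.mul_apply, this]

theorem centralizer_apply_ne {ι : Perm α} (k : Subgroup.centralizer {ι}) {a : α} (ha : ι a ≠ a) :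
    ι ((k : Perm α) a) ≠ (k : Perm α) a := by
  rw [← mem_centralizer_apply]
  exact fun h => ha ((k : Perm α).injective h)

theorem toPermHom_proj {ι : Perm α} (k : Subgroup.centralizer {ι}) {a : α} (ha : ι a ≠ a) :
    toPermHom ι k (proj ι a ha) = proj ι ((k : Perm α) a) (centralizer_apply_ne k ha) := by
  apply Subtype.ext
  rw [coe_toPermHom]
  apply cycle_is_cycleOf
  · rw [Equiv.Perm.support_conj, Finset.mem_map]
    refine ⟨a, ?_, rfl⟩
    show a ∈ (ι.cycleOf a).support
    rw [mem_support_cycleOf_iff]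
    exact ⟨SameCycle.refl _ _, mem_support.2 ha⟩
  · have := (toPermHom ι k (proj ι a ha)).2
    rw [coe_toPermHom] at this
    exact this

theorem card_support_of_mem {ι : Perm α} (hι : ∀ a, ι (ι a) = a) (c : ι.cycleFactorsFinset) :
    (c : Perm α).support.card = 2 := by
  obtain ⟨a, ha, rfl⟩ := proj_surjective ι c
  show (ι.cycleOf a).support.card = 2
  rw [← per_eq_card_support_cycleOf ι (mem_support.2 ha)]
  have h2 : per ι a ∣ 2 := by
    rw [← pow_apply_eq_iff, pow_two, Equiv.Perm.mul_apply, hι]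
  have h1 : per ι a ≠ 1 := by
    rw [Ne, per_eq_one_iff]
    exact ha
  rcases (Nat.dvd_prime Nat.prime_two).1 h2 with h | h
  · exact absurd h h1
  · exact h

theorem toPermHom_surjective {ι : Perm α} (hι : ∀ a, ι (ι a) = a) :
    Function.Surjective (toPermHom ι) := by
  intro τ
  have : τ ∈ (toPermHom ι).range := by
    rw [mem_range_toPermHom_iff]
    intro c
    rw [card_support_of_mem hι, card_support_of_mem hι]
  exact this

theorem ker_isPGroup {ι : Perm α} (hι : Inv1 ι) : IsPGroup 2 (toPermHom ι).ker := by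
  intro k
  refine ⟨1, ?_⟩
  apply Subtype.ext
  apply Subtype.ext
  rw [pow_one]
  ext a
  have hk : toPermHom ι k.1 = 1 := k.2
  show ((k.1 : Perm α) ^ 2) a = a
  rw [pow_two, Equiv.Perm.mul_apply]
  by_cases ha : ι a = a
  · have h1 : ι ((k.1 : Perm α) a) = (k.1 : Perm α) a := by
      rw [← mem_centralizer_apply, ha]
    have h2 := hι.fix _ _ h1 ha
    rw [h2, h2]
  · have h1 := toPermHom_proj k.1 ha
    rw [hk, Equiv.Perm.one_apply, proj_eq_iff hι.sq ha (centralizer_apply_ne k.1 ha)] at h1
    rcases h1 with h | h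
    · rw [h, h]
    · rw [h, mem_centralizer_apply, h, hι.sq]

end Cfsg.Agent.Helper60.SylTwo
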