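import Mathlib
import Cfsg.Agent.Lib.Helper60.SylTwoQuot

/-!
# Goodness descends to the action on the cycles of the canonical involution (helper60)
-/

set_option autoImplicit false
set_option linter.unusedSectionVars false

namespace Cfsg.Agent.Helper60.SylTwo

open Equiv Equiv.Perm Equiv.Perm.OnCycleFactors

variable {α : Type*} [Fintype α] [DecidableEq α]

theorem per_eq_of_iff_dvd {β : Type*} {y : Perm β} {b : β} {m : ℕ}
    (h : ∀ n : ℕ, (y ^ n) b = b ↔ m ∣ n) : per y b = m := by
  apply Nat.dvd_antisymm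
  · rw [per, ← Function.isPeriodicPt_iff_minimalPeriod_dvd, Function.IsPeriodicPt,
      Function.IsFixedPt, Equiv.Perm.iterate_eq_pow, h]
  · rw [← h, ← Equiv.Perm.iterate_eq_pow]
    exact Function.isPeriodicPt_minimalPeriod _ _

theorem proj_congr (ι : Perm α) {a b : α} (h : a = b) (ha : ι a ≠ a) (hb : ι b ≠ b) :
    proj ι a ha = proj ι b hb := by
  subst h
  rfl

/-- the induced permutation on the cycles of `ι` -/
noncomputable def bar (ι x : Perm α) (hx : x ∈ Subgroup.centralizer {ι}) :
    Perm ι.cycleFactorsFinset :=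
  toPermHom ι ⟨x, hx⟩

theorem mem_centralizer_of_commute {ι x : Perm α} (hc : Commute x ι) :
    x ∈ Subgroup.centralizer {ι} := by
  rw [Subgroup.mem_centralizer_singleton_iff]
  exact hc.eq

theorem commute_of_mem_centralizer {ι x : Perm α} (hx : x ∈ Subgroup.centralizer {ι}) :
    Commute x ι := by
  rw [Subgroup.mem_centralizer_singleton_iff] at hx
  exact hx

theorem pow_apply_ne {ι x : Perm α} (hc : Commute x ι) (n : ℕ) {a : α} (ha : ι a ≠ a) :
    ι ((x ^ n) a) ≠ (x ^ n) a := by
  rw [← comm_pow_apply hc]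
  exact fun h => ha ((x ^ n).injective h)

theorem bar_pow_proj {ι x : Perm α} (hc : Commute x ι) (hx : x ∈ Subgroup.centralizer {ι})
    (n : ℕ) {a : α} (ha : ι a ≠ a) :
    (bar ι x hx ^ n) (proj ι a ha) = proj ι ((x ^ n) a) (pow_apply_ne hc n ha) := by
  rw [bar, ← map_pow, toPermHom_proj]
  apply proj_congr
  rfl

theorem bar_pow_proj_eq_iff {ι x : Perm α} (hι : Inv1 ι) (hc : Commute x ι)
    (hx : x ∈ Subgroup.centralizer {ι}) (n : ℕ) {a : α} (ha : ι a ≠ a) :
    (bar ι x hx ^ n) (proj ι a ha) = proj ι a ha ↔ (x ^ n) a = a ∨ (x ^ n) a = ι a := by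
  rw [bar_pow_proj hc hx n ha, eq_comm, proj_eq_iff hι.sq]

theorem bar_proj_eq_iff {ι x : Perm α} (hι : Inv1 ι) (hc : Commute x ι)
    (hx : x ∈ Subgroup.centralizer {ι}) {a : α} (ha : ι a ≠ a) :
    (bar ι x hx) (proj ι a ha) = proj ι a ha ↔ x a = a ∨ x a = ι a := by
  have := bar_pow_proj_eq_iff hι hc hx 1 ha
  simpa using this

/-- the period downstairs of a class of fixed points -/
theorem per_bar_of_fixed {ι x : Perm α} (hι : Inv1 ι) (hc : Commute x ι)
    (hx : x ∈ Subgroup.centralizer {ι}) {a : α} (ha : ι a ≠ a) (hxa : x a = a) :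
    per (bar ι x hx) (proj ι a ha) = 1 := by
  rw [per_eq_one_iff, bar_proj_eq_iff hι hc hx ha]
  exact Or.inl hxa

/-- the period downstairs is half the period upstairs -/
theorem per_bar {ι x : Perm α} (hg : Good x) (hι : Inv1 ι) (hc : Commute x ι)
    (hx : x ∈ Subgroup.centralizer {ι}) {a : α} (ha : ι a ≠ a) (hp : 2 ≤ per x a) :
    per (bar ι x hx) (proj ι a ha) = per x a / 2 := by
  obtain ⟨k, hk⟩ := hg.two_pow a
  rcases k with _ | k
  · rw [hk] at hp; norm_num at hp
  have hhalf : per x a / 2 = 2 ^ k := by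
    rw [hk, pow_succ, Nat.mul_div_cancel _ (by norm_num)]
  have hper : per x a = 2 ^ k + 2 ^ k := by rw [hk, pow_succ]; ring
  have hιa : ι a = (x ^ (2 ^ k)) a := by
    rw [inv_apply_eq hg hι hc ha hp, hhalf]
  apply per_eq_of_iff_dvd
  intro n
  rw [bar_pow_proj_eq_iff hι hc hx n ha, hhalf, pow_apply_eq_iff, hιa]
  have h2 : (x ^ n) a = (x ^ (2 ^ k)) a ↔ per x a ∣ n + 2 ^ k := by
    rw [← pow_apply_eq_iff, add_comm, pow_add, Equiv.Perm.mul_apply]
    constructor
    · intro h
      rw [h, ← Equiv.Perm.mul_apply, ← pow_add, ← hper, pow_per_apply]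
    · intro h
      apply (x ^ (2 ^ k)).injective
      rw [h, ← Equiv.Perm.mul_apply, ← pow_add, ← hper, pow_per_apply]
  rw [h2, hper]
  constructor
  · rintro (h | h)
    · exact dvd_trans ⟨2, by ring⟩ h
    · have : 2 ^ k ∣ n + 2 ^ k := dvd_trans ⟨2, by ring⟩ h
      exact (Nat.dvd_add_left (dvd_refl _)).1 this
  · rintro ⟨m, rfl⟩
    rcases Nat.even_or_odd' m with ⟨t, rfl | rfl⟩
    · left
      exact ⟨t, by ring⟩
    · right
      exact ⟨t + 1, by ring⟩

/-- a class is fixed downstairs iff its points have period at most two -/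
theorem two_le_per_of_two_le_per_bar {ι x : Perm α} (hι : Inv1 ι) (hc : Commute x ι)
    (hx : x ∈ Subgroup.centralizer {ι}) {a : α} (ha : ι a ≠ a)
    (hp : 2 ≤ per (bar ι x hx) (proj ι a ha)) : 2 ≤ per x a := by
  by_contra hcon
  have h1 : per x a = 1 := by
    have := per_pos x a
    omega
  rw [per_eq_one_iff] at h1
  rw [per_bar_of_fixed hι hc hx ha h1] at hp
  norm_num at hp

theorem good_bar {ι x : Perm α} (hg : Good x) (hι : Inv1 ι) (hc : Commute x ι)
    (hx : x ∈ Subgroup.centralizer {ι}) : Good (bar ι x hx) := by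
  refine ⟨?_, ?_, ?_⟩
  · intro c
    obtain ⟨a, ha, rfl⟩ := proj_surjective ι c
    by_cases hp : 2 ≤ per x a
    · rw [per_bar hg hι hc hx ha hp]
      obtain ⟨k, hk⟩ := hg.two_pow a
      rcases k with _ | k
      · rw [hk] at hp; norm_num at hp
      refine ⟨k, ?_⟩
      rw [hk, pow_succ, Nat.mul_div_cancel _ (by norm_num)]
    · refine ⟨0, ?_⟩
      have h1 : per x a = 1 := by
        have := per_pos x a
        omega
      rw [per_eq_one_iff] at h1
      rw [per_bar_of_fixed hι hc hx ha h1, pow_zero]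
  · intro c d hcd hc2
    obtain ⟨a, ha, rfl⟩ := proj_surjective ι c
    obtain ⟨b, hb, rfl⟩ := proj_surjective ι d
    have hd2 : 2 ≤ per (bar ι x hx) (proj ι b hb) := hcd ▸ hc2
    have hpa := two_le_per_of_two_le_per_bar hι hc hx ha hc2
    have hpb := two_le_per_of_two_le_per_bar hι hc hx hb hd2
    rw [per_bar hg hι hc hx ha hpa, per_bar hg hι hc hx hb hpb] at hcd
    obtain ⟨k, hk⟩ := hg.two_pow a
    obtain ⟨l, hl⟩ := hg.two_pow b
    have hab : per x a = per x b := by
      rcases k with _ | k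
      · rw [hk] at hpa; norm_num at hpa
      rcases l with _ | l
      · rw [hl] at hpb; norm_num at hpb
      rw [hk, hl, pow_succ, pow_succ, Nat.mul_div_cancel _ (by norm_num),
        Nat.mul_div_cancel _ (by norm_num)] at hcd
      rw [hk, hl, pow_succ, pow_succ, hcd]
    obtain ⟨i, hi⟩ := exists_pow_of_sameCycle (hg.same a b hab hpa)
    apply sameCycle_of_pow (i := i)
    rw [bar_pow_proj hc hx i ha]
    exact proj_congr ι hi _ _
  · -- at most two fixed classes
    have eqF : ∀ a b (ha : ι a ≠ a) (hb : ι b ≠ b), x a = a → x b = b →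
        proj ι a ha = proj ι b hb := by
      intro a b ha hb hxa hxb
      rw [proj_eq_iff hι.sq]
      rcases hg.fix a (ι a) b hxa (inv_apply_fixed hc hxa) hxb with h | h | h
      · exact absurd h.symm ha
      · exact Or.inl h.symm
      · exact Or.inr h.symm
    have eqT : ∀ a b (ha : ι a ≠ a) (hb : ι b ≠ b), x a = ι a → x b = ι b →
        proj ι a ha = proj ι b hb := by
      intro a b ha hb hxa hxb
      have hper : ∀ c, ι c ≠ c → x c = ι c → per x c = 2 := by
        intro c hc' hxc
        have h2 : per x c ∣ 2 := by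
          rw [← pow_apply_eq_iff, pow_two, Equiv.Perm.mul_apply, hxc, comm_apply hc, hxc, hι.sq]
        have h1 : per x c ≠ 1 := by
          rw [Ne, per_eq_one_iff, hxc]
          exact hc'
        rcases (Nat.dvd_prime Nat.prime_two).1 h2 with h | h
        · exact absurd h h1
        · exact h
      have hpa := hper a ha hxa
      have hpb := hper b hb hxb
      obtain ⟨i, hi⟩ := exists_pow_of_sameCycle
        (hg.same a b (hpa.trans hpb.symm) (by rw [hpa]))
      rw [proj_eq_iff hι.sq]
      rcases Nat.even_or_odd' i with ⟨t, rfl | rfl⟩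
      · left
        rw [← hi, pow_apply_eq_iff, hpa]
        exact Dvd.intro _ rfl
      · right
        rw [← hi, pow_succ, Equiv.Perm.mul_apply, hxa, comm_pow_apply hc]
        congr 1
        rw [pow_apply_eq_iff, hpa]
        exact Dvd.intro _ rfl
    intro c d e hc' hd' he'
    obtain ⟨a, ha, rfl⟩ := proj_surjective ι c
    obtain ⟨b, hb, rfl⟩ := proj_surjective ι d
    obtain ⟨f, hf, rfl⟩ := proj_surjective ι e
    rw [bar_proj_eq_iff hι hc hx] at hc' hd' he'
    rcases hc' with h1 | h1 <;> rcases hd' with h2 | h2 <;> rcases he' with h3 | h3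
    · exact Or.inl (eqF a b ha hb h1 h2)
    · exact Or.inl (eqF a b ha hb h1 h2)
    · exact Or.inr (Or.inl (eqF a f ha hf h1 h3))
    · exact Or.inr (Or.inr (eqT b f hb hf h2 h3))
    · exact Or.inr (Or.inr (eqF b f hb hf h2 h3))
    · exact Or.inr (Or.inl (eqT a f ha hf h1 h3))
    · exact Or.inl (eqT a b ha hb h1 h2)
    · exact Or.inl (eqT a b ha hb h1 h2)

end Cfsg.Agent.Helper60.SylTwo
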