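import Mathlib
import Cfsg.Agent.Lib.Helper60.SylTwoTransfer
import Cfsg.Agent.Lib.Helper60.SylTwoExist

/-!
# A good permutation lies in at most one Sylow `2`-subgroup (helper60)
-/

set_option autoImplicit false
set_option linter.unusedSectionVars false

namespace Cfsg.Agent.Helper60.SylTwo

open Equiv Equiv.Perm Equiv.Perm.OnCycleFactors

universe u

theorem card_cycleFactorsFinset_le {α : Type u} [Fintype α] [DecidableEq α] {ι : Perm α}
    (hι : ∀ a, ι (ι a) = a) :
    2 * Fintype.card ι.cycleFactorsFinset ≤ Fintype.card α := by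
  have h1 : ι.cycleType.sum = 2 * Fintype.card ι.cycleFactorsFinset := by
    rw [cycleType_def, Fintype.card_coe, ← Finset.sum_eq_multiset_sum]
    rw [Finset.sum_congr rfl (fun c hc => ?_), Finset.sum_const, smul_eq_mul, mul_comm]
    exact card_support_of_mem hι ⟨c, hc⟩
  rw [← h1, sum_cycleType]
  exact Finset.card_le_univ _

theorem unique_aux (N : ℕ) : ∀ (α : Type u) [Fintype α] [DecidableEq α],
    Fintype.card α ≤ N → ∀ x : Perm α, Good x → ∀ P Q : Sylow 2 (Perm α),
    x ∈ P → x ∈ Q → P = Q := by
  have : Fact (Nat.Prime 2) := ⟨Nat.prime_two⟩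
  induction N with
  | zero =>
    intro α _ _ hcard x _ P Q _ _
    have hem : IsEmpty α := Fintype.card_eq_zero_iff.1 (Nat.le_zero.1 hcard)
    apply Sylow.ext
    apply Subsingleton.elim
  | succ N ih =>
    intro α _ _ hcard x hg P Q hxP hxQ
    obtain ⟨ι, hι, hPC⟩ := exists_inv P
    obtain ⟨ι', hι', hQC⟩ := exists_inv Q
    have hc : Commute x ι := commute_of_mem_centralizer (hPC hxP)
    have hc' : Commute x ι' := commute_of_mem_centralizer (hQC hxQ)
    obtain rfl : ι = ι' := inv_unique hg hι hι' hc hc'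
    have hsurj := toPermHom_surjective hι.sq
    have hcardβ : Fintype.card ι.cycleFactorsFinset ≤ N := by
      have := card_cycleFactorsFinset_le hι.sq
      omega
    have hxC : x ∈ Subgroup.centralizer {ι} := hPC hxP
    have hgb := good_bar hg hι hc hxC
    have key := ih ι.cycleFactorsFinset hcardβ (bar ι x hxC) hgb
      ((P.subtype hPC).mapSurjective hsurj) ((Q.subtype hQC).mapSurjective hsurj)
      (by
        show bar ι x hxC ∈ (((P.subtype hPC).mapSurjective hsurj : Sylow 2 _) : Subgroup _)
        rw [Sylow.coe_mapSurjective, Subgroup.mem_map]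
        refine ⟨⟨x, hxC⟩, ?_, rfl⟩
        show (⟨x, hxC⟩ : Subgroup.centralizer {ι}) ∈
          ((P.subtype hPC : Sylow 2 _) : Subgroup (Subgroup.centralizer {ι}))
        rw [Sylow.coe_subtype, Subgroup.mem_subgroupOf]
        exact hxP)
      (by
        show bar ι x hxC ∈ (((Q.subtype hQC).mapSurjective hsurj : Sylow 2 _) : Subgroup _)
        rw [Sylow.coe_mapSurjective, Subgroup.mem_map]
        refine ⟨⟨x, hxC⟩, ?_, rfl⟩
        show (⟨x, hxC⟩ : Subgroup.centralizer {ι}) ∈
          ((Q.subtype hQC : Sylow 2 _) : Subgroup (Subgroup.centralizer {ι}))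
        rw [Sylow.coe_subtype, Subgroup.mem_subgroupOf]
        exact hxQ)
    have key2 : ((P.subtype hPC : Sylow 2 (Subgroup.centralizer {ι})) :
        Subgroup (Subgroup.centralizer {ι})).map (toPermHom ι) =
        ((Q.subtype hQC : Sylow 2 (Subgroup.centralizer {ι})) :
        Subgroup (Subgroup.centralizer {ι})).map (toPermHom ι) := by
      rw [← Sylow.coe_mapSurjective hsurj, ← Sylow.coe_mapSurjective hsurj, key]
    have hkerP : (toPermHom ι).ker ≤ (P.subtype hPC : Sylow 2 (Subgroup.centralizer {ι})) :=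
      IsPGroup.le_sylow_of_normal (ker_isPGroup hι) _
    have hkerQ : (toPermHom ι).ker ≤ (Q.subtype hQC : Sylow 2 (Subgroup.centralizer {ι})) :=
      IsPGroup.le_sylow_of_normal (ker_isPGroup hι) _
    have key3 : P.subtype hPC = Q.subtype hQC := by
      apply Sylow.ext
      rw [← Subgroup.comap_map_eq_self hkerP, ← Subgroup.comap_map_eq_self hkerQ, key2]
    exact Sylow.subtype_injective key3

/-- a good permutation lies in at most one Sylow `2`-subgroup -/
theorem unique_of_good {α : Type u} [Fintype α] [DecidableEq α] {x : Perm α} (hg : Good x)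
    (P Q : Sylow 2 (Perm α)) (hP : x ∈ P) (hQ : x ∈ Q) : P = Q :=
  unique_aux _ α le_rfl x hg P Q hP hQ

end Cfsg.Agent.Helper60.SylTwo
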