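import Mathlib
import Cfsg.Agent.Lib.Helper60.SylTwoFwd
import Cfsg.Agent.Lib.Helper60.SylTwoInd

/-!
# Elements of `2`-power order of a symmetric group lying in a unique Sylow `2`-subgroup (helper60)
-/

set_option autoImplicit false
set_option linter.unusedSectionVars false

namespace Cfsg.Agent.Helper60.SylTwo

open Equiv Equiv.Perm

universe u

variable {α : Type u} [Fintype α] [DecidableEq α]

theorem good_of_cycleType (x : Perm α) (hx : ∃ k : ℕ, orderOf x = 2 ^ k)
    (h1 : Fintype.card α ≤ x.support.card + 2) (h2 : x.cycleType.Nodup) : Good x := by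
  obtain ⟨k, hk⟩ := hx
  refine ⟨?_, ?_, ?_⟩
  · intro a
    have h := per_dvd_orderOf x a
    rw [hk] at h
    obtain ⟨m, -, hm⟩ := (Nat.dvd_prime_pow Nat.prime_two).1 h
    exact ⟨m, hm⟩
  · intro a b hab hp
    have hsa : a ∈ x.support := by
      rw [mem_support, Ne, ← per_eq_one_iff]
      omega
    have hsb : b ∈ x.support := by
      rw [mem_support, Ne, ← per_eq_one_iff]
      omega
    rw [sameCycle_iff_cycleOf_eq_of_mem_support hsa hsb]
    rw [cycleType_def] at h2
    apply Multiset.inj_on_of_nodup_map h2
    · exact cycleOf_mem_cycleFactorsFinset_iff.2 hsa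
    · exact cycleOf_mem_cycleFactorsFinset_iff.2 hsb
    · show (x.cycleOf a).support.card = (x.cycleOf b).support.card
      rw [← per_eq_card_support_cycleOf x hsa, ← per_eq_card_support_cycleOf x hsb, hab]
  · intro a b c ha hb hc
    by_contra hcon
    push Not at hcon
    obtain ⟨hab, hac, hbc⟩ := hcon
    have hsub : ({a, b, c} : Finset α) ⊆ x.supportᶜ := by
      intro d hd
      simp only [Finset.mem_insert, Finset.mem_singleton] at hd
      rw [Finset.mem_compl, mem_support, not_not]
      rcases hd with rfl | rfl | rfl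
      · exact ha
      · exact hb
      · exact hc
    have h3 := Finset.card_le_card hsub
    rw [Finset.card_compl] at h3
    have h4 : ({a, b, c} : Finset α).card = 3 := by
      rw [Finset.card_insert_of_notMem, Finset.card_pair hbc]
      simp only [Finset.mem_insert, Finset.mem_singleton, not_or]
      exact ⟨hab, hac⟩
    have h5 := Finset.card_le_univ x.support
    omega

/-- the characterisation of the elements of `2`-power order lying in a unique Sylow `2`-subgroup
of a symmetric group -/
theorem unique_sylow_iff (x : Perm α) (hx : ∃ k : ℕ, orderOf x = 2 ^ k) :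
    (∃! P : Sylow 2 (Perm α), x ∈ P) ↔
      (Fintype.card α ≤ x.support.card + 2 ∧ x.cycleType.Nodup) := by
  constructor
  · rintro ⟨P, -, hP⟩
    exact forward x hx P hP
  · rintro ⟨h1, h2⟩
    have hg := good_of_cycleType x hx h1 h2
    obtain ⟨k, hk⟩ := hx
    have hp : IsPGroup 2 (Subgroup.zpowers x) := by
      apply IsPGroup.of_card (n := k)
      rw [Nat.card_zpowers, hk]
    obtain ⟨P, hP⟩ := hp.exists_le_sylow
    have hxP : x ∈ P := hP (Subgroup.mem_zpowers x)
    exact ⟨P, hxP, fun Q hQ => unique_of_good hg Q P hQ hxP⟩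

end Cfsg.Agent.Helper60.SylTwo
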