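import Mathlib

/-!
# General lemmas for module M1 of #2718 (helper93, S1625)

* `conj_mem_of_mem_zpowers`: if `y` (of finite order) normalises `R` one-sidedly then so does every
  power of `y`.
* `card_modEq_card_inf_centralizer`: `|R| ≡ |C_R(y)|` mod `p` if `y` has prime order `p` and
  normalises `R`.
* `exists_invariant_sylow`: an element `y` of prime order `p ∤ |N|` normalises some Sylow
  `r`-subgroup of the normal subgroup `N`.
-/

namespace Cfsg.Agent.Lib.Helper60.Sylow19

open scoped Pointwise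

section general

variable {Q : Type*} [Group Q]

theorem conj_mem_of_mem_zpowers (R : Subgroup Q) (y : Q) (hy : IsOfFinOrder y)
    (hR : ∀ x ∈ R, y * x * y⁻¹ ∈ R) :
    ∀ g ∈ Subgroup.zpowers y, ∀ x ∈ R, g * x * g⁻¹ ∈ R := by
  intro g hg
  rw [← hy.mem_powers_iff_mem_zpowers] at hg
  obtain ⟨k, rfl⟩ := hg
  induction k with
  | zero => intro x hx; simpa using hx
  | succ k ih =>
    intro x hx
    have h1 := hR _ (ih x hx)
    have e : y ^ (k + 1) * x * (y ^ (k + 1))⁻¹ = y * (y ^ k * x * (y ^ k)⁻¹) * y⁻¹ := by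
      rw [pow_succ']; group
    rw [e]; exact h1

theorem card_modEq_card_inf_centralizer (R : Subgroup Q) [Finite R] (y : Q) {p : ℕ}
    [hp : Fact p.Prime] (hy : orderOf y = p) (hR : ∀ x ∈ R, y * x * y⁻¹ ∈ R) :
    Nat.card R ≡ Nat.card (R ⊓ Subgroup.centralizer {y} : Subgroup Q) [MOD p] := by
  have hfin : IsOfFinOrder y := orderOf_pos_iff.mp (hy ▸ hp.out.pos)
  have hconj := conj_mem_of_mem_zpowers R y hfin hR
  let _act : MulAction (Subgroup.zpowers y) R :=
    { smul := fun g x => ⟨g.1 * x.1 * g.1⁻¹, hconj g.1 g.2 x.1 x.2⟩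
      one_smul := fun x => Subtype.ext (by
        show (1 : Q) * x.1 * (1 : Q)⁻¹ = x.1
        simp)
      mul_smul := fun g h x => Subtype.ext (by
        show (g.1 * h.1) * x.1 * (g.1 * h.1)⁻¹ = g.1 * (h.1 * x.1 * h.1⁻¹) * g.1⁻¹
        group) }
  have hsmul : ∀ (g : Subgroup.zpowers y) (x : R), ((g • x : R) : Q) = g.1 * x.1 * g.1⁻¹ :=
    fun g x => rfl
  have hP : IsPGroup p (Subgroup.zpowers y) :=
    IsPGroup.of_card (n := 1) (by rw [Nat.card_zpowers, hy, pow_one])
  have h1 := hP.card_modEq_card_fixedPoints R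
  have h2 : Nat.card (MulAction.fixedPoints (Subgroup.zpowers y) R) =
      Nat.card (R ⊓ Subgroup.centralizer {y} : Subgroup Q) := by
    apply Nat.card_congr
    refine ⟨fun x => ⟨x.1.1, ⟨x.1.2, ?_⟩⟩, fun q => ⟨⟨q.1, q.2.1⟩, ?_⟩, fun x => rfl, fun q => rfl⟩
    · show x.1.1 ∈ Subgroup.centralizer {y}
      rw [Subgroup.mem_centralizer_iff]
      intro z hz
      rw [Set.mem_singleton_iff] at hz
      subst hz
      have h3 := x.2 ⟨z, Subgroup.mem_zpowers z⟩
      have h4 : z * x.1.1 * z⁻¹ = x.1.1 := by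
        have := congrArg Subtype.val h3
        rw [hsmul] at this
        exact this
      calc z * x.1.1 = (z * x.1.1 * z⁻¹) * z := by group
        _ = x.1.1 * z := by rw [h4]
    · intro g
      apply Subtype.ext
      rw [hsmul]
      show g.1 * q.1 * g.1⁻¹ = q.1
      have hq : q.1 ∈ Subgroup.centralizer {y} := q.2.2
      have hg : g.1 ∈ Subgroup.zpowers y := g.2
      have hc : Commute g.1 q.1 := by
        obtain ⟨k, hk⟩ := Subgroup.mem_zpowers_iff.mp hg
        rw [← hk]
        apply Commute.zpow_left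
        exact (Subgroup.mem_centralizer_iff.mp hq y rfl)
      rw [hc.eq, mul_inv_cancel_right]
  rw [← h2]
  exact h1

theorem exists_invariant_sylow [Finite Q] (N : Subgroup Q) [N.Normal] (y : Q) {p : ℕ} (r : ℕ)
    [hp : Fact p.Prime] [hr : Fact r.Prime] (hy : orderOf y = p) (hpN : ¬ p ∣ Nat.card N) :
    ∃ R : Subgroup Q, R ≤ N ∧ Nat.card R = r ^ (Nat.card N).factorization r ∧
      ∀ x ∈ R, y * x * y⁻¹ ∈ R := by
  let P' : Subgroup (ConjAct Q) := Subgroup.zpowers (ConjAct.toConjAct y)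
  have hP' : IsPGroup p P' := by
    apply IsPGroup.of_card (n := 1)
    rw [Nat.card_zpowers, pow_one, ← hy]
    exact (ConjAct.toConjAct (G := Q)).orderOf_eq y
  have hcard : ¬ p ∣ Nat.card (Sylow r N) := by
    intro h
    obtain ⟨S⟩ : Nonempty (Sylow r N) := inferInstance
    exact hpN (h.trans ((Sylow.card_dvd_index S).trans (Subgroup.index_dvd_card _)))
  obtain ⟨R0, hR0⟩ := hP'.nonempty_fixed_point_of_prime_not_dvd_card (Sylow r N) hcard
  refine ⟨(R0 : Subgroup N).map N.subtype, Subgroup.map_subtype_le _, ?_, ?_⟩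
  · rw [Subgroup.card_map_of_injective N.subtype_injective]
    exact Sylow.card_eq_multiplicity R0
  · rintro x ⟨n, hn, rfl⟩
    have h1 : (⟨ConjAct.toConjAct y, Subgroup.mem_zpowers _⟩ : P') • R0 = R0 := hR0 _
    have h2 : (ConjAct.toConjAct y) • n ∈ (ConjAct.toConjAct y) • (R0 : Subgroup N) :=
      Subgroup.smul_mem_pointwise_smul _ _ _ hn
    have h3 : (ConjAct.toConjAct y) • (R0 : Subgroup N) = (R0 : Subgroup N) := by
      have := congrArg (fun S : Sylow r N => (S : Subgroup N)) h1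
      exact this
    rw [h3] at h2
    refine ⟨(ConjAct.toConjAct y) • n, h2, ?_⟩
    rfl

end general

end Cfsg.Agent.Lib.Helper60.Sylow19
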