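import Mathlib
import Cfsg.Agent.Lib.Helper60.Sylow19Gen

/-!
# Module M1 of #2718 (helper93, S1625): a perfect centreless group of order `50232960` with a
self-centralising-up-to-3 element of order 19 is simple.
-/

namespace Cfsg.Agent.Lib.Helper60.Sylow19

theorem prime_dvd_50232960 {r : ℕ} (hr : r.Prime) (h : r ∣ 50232960) :
    r = 2 ∨ r = 3 ∨ r = 5 ∨ r = 17 ∨ r = 19 := by
  have e : (50232960 : ℕ) = 2 ^ 7 * 3 ^ 5 * 5 * 17 * 19 := by norm_num
  rw [e] at h
  rcases (Nat.Prime.dvd_mul hr).1 h with h | h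
  · rcases (Nat.Prime.dvd_mul hr).1 h with h | h
    · rcases (Nat.Prime.dvd_mul hr).1 h with h | h
      · rcases (Nat.Prime.dvd_mul hr).1 h with h | h
        · left; exact (Nat.prime_dvd_prime_iff_eq hr Nat.prime_two).1 (hr.dvd_of_dvd_pow h)
        · right; left
          exact (Nat.prime_dvd_prime_iff_eq hr Nat.prime_three).1 (hr.dvd_of_dvd_pow h)
      · right; right; left; exact (Nat.prime_dvd_prime_iff_eq hr (by norm_num)).1 h
    · right; right; right; left; exact (Nat.prime_dvd_prime_iff_eq hr (by norm_num)).1 h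
  · right; right; right; right; exact (Nat.prime_dvd_prime_iff_eq hr (by norm_num)).1 h

theorem factorization_50232960_19 : (50232960 : ℕ).factorization 19 = 1 := by
  have hp : Nat.Prime 19 := by norm_num
  have h1 : 1 ≤ (50232960 : ℕ).factorization 19 :=
    (hp.pow_dvd_iff_le_factorization (by norm_num)).1 (by norm_num)
  have h2 : ¬ 2 ≤ (50232960 : ℕ).factorization 19 := fun h => by
    have := (hp.pow_dvd_iff_le_factorization (by norm_num)).2 h
    norm_num at this
  omega

section main

variable {Q : Type*} [Group Q] [Finite Q]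

local instance fact_prime_19 : Fact (Nat.Prime 19) := ⟨by norm_num⟩

/-- Any subgroup of order 19 is conjugate to `⟨y⟩`. -/
theorem exists_conj_mem_zpowers (hcard : Nat.card Q = 50232960) (y : Q) (hy : orderOf y = 19)
    (z : Q) (hz : orderOf z = 19) : ∃ g : Q, g * y * g⁻¹ ∈ Subgroup.zpowers z := by
  have hcy : Nat.card (Subgroup.zpowers y) = 19 ^ (Nat.card Q).factorization 19 := by
    rw [hcard, factorization_50232960_19, Nat.card_zpowers, hy, pow_one]
  have hcz : Nat.card (Subgroup.zpowers z) = 19 ^ (Nat.card Q).factorization 19 := by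
    rw [hcard, factorization_50232960_19, Nat.card_zpowers, hz, pow_one]
  let Py : Sylow 19 Q := Sylow.ofCard (Subgroup.zpowers y) hcy
  let Pz : Sylow 19 Q := Sylow.ofCard (Subgroup.zpowers z) hcz
  obtain ⟨g, hg⟩ := MulAction.exists_smul_eq Q Py Pz
  refine ⟨g, ?_⟩
  have h1 : y ∈ (Py : Subgroup Q) := Subgroup.mem_zpowers y
  have h2 : g * y * g⁻¹ ∈ ((g • Py : Sylow 19 Q) : Subgroup Q) := by
    rw [Sylow.smul_def, Sylow.pointwise_smul_def]
    have := Subgroup.smul_mem_pointwise_smul y (MulAut.conj g) (Py : Subgroup Q) h1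
    simpa [MulAut.smul_def] using this
  rw [hg] at h2
  exact h2

/-- The centraliser of `⟨y⟩` is solvable. -/
theorem isSolvable_centralizer (hcard : Nat.card Q = 50232960) (y : Q) (hy : orderOf y = 19)
    (hcent : ∀ c : Q, Commute c y → ∀ r : ℕ, r.Prime → orderOf c = r → r = 3 ∨ r = 19) :
    Group.IsSolvable (Subgroup.centralizer ((Subgroup.zpowers y : Subgroup Q) : Set Q)) := by
  set H : Subgroup Q := Subgroup.zpowers y with hH
  set C : Subgroup Q := Subgroup.centralizer (H : Set Q) with hC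
  have hHC : H ≤ C := by
    intro h hh
    rw [hC, Subgroup.mem_centralizer_iff]
    intro g hg
    obtain ⟨i, rfl⟩ := Subgroup.mem_zpowers_iff.mp hh
    obtain ⟨j, rfl⟩ := Subgroup.mem_zpowers_iff.mp hg
    exact zpow_mul_comm y j i
  -- primes dividing `|C|`
  have hprime : ∀ r : ℕ, r.Prime → r ∣ Nat.card C → r = 3 ∨ r = 19 := by
    intro r hr hdvd
    have : Fact r.Prime := ⟨hr⟩
    obtain ⟨c, hc⟩ := exists_prime_orderOf_dvd_card' r hdvd
    have hc' : orderOf (c : Q) = r := by rw [Subgroup.orderOf_coe]; exact hc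
    have hcomm : Commute (c : Q) y := by
      have := (Subgroup.mem_centralizer_iff.mp c.2) y (Subgroup.mem_zpowers y)
      exact this.symm
    exact hcent c hcomm r hr hc'
  have hCdvd : Nat.card C ∣ 50232960 := hcard ▸ Subgroup.card_subgroup_dvd_card C
  set P' : Subgroup C := H.subgroupOf C with hP'
  have hP'normal : P'.Normal := by
    refine ⟨fun n hn g => ?_⟩
    have h1 : (n : Q) ∈ H := hn
    have h2 : (n : Q) * (g : Q) = (g : Q) * (n : Q) := (Subgroup.mem_centralizer_iff.mp g.2) n h1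
    have h3 : g * n * g⁻¹ = n := by
      apply Subtype.ext
      show (g : Q) * (n : Q) * (g : Q)⁻¹ = n
      rw [← h2, mul_inv_cancel_right]
    rw [h3]; exact hn
  have hP'card : Nat.card P' = 19 := by
    rw [Nat.card_congr (Subgroup.subgroupOfEquivOfLe hHC).toEquiv, hH, Nat.card_zpowers, hy]
  have hmul : Nat.card C = Nat.card (C ⧸ P') * 19 := by
    rw [Subgroup.card_eq_card_quotient_mul_card_subgroup P', hP'card]
  -- `C ⧸ P'` is a 3-group
  have h3grp : IsPGroup 3 (C ⧸ P') := by
    have hm0 : Nat.card (C ⧸ P') ≠ 0 := Nat.card_pos.ne'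
    have hmd : Nat.card (C ⧸ P') ∣ 2643840 := by
      have : Nat.card (C ⧸ P') * 19 ∣ 2643840 * 19 := by rw [← hmul]; exact hCdvd
      exact Nat.dvd_of_mul_dvd_mul_right (by norm_num) this
    have huniq : ∀ {d : ℕ}, d.Prime → d ∣ Nat.card (C ⧸ P') → d = 3 := by
      intro d hd hdd
      rcases hprime d hd (hmul ▸ Dvd.dvd.mul_right hdd 19) with h | h
      · exact h
      · exfalso
        have : (19 : ℕ) ∣ 2643840 := h ▸ hdd.trans hmd
        norm_num at this
    exact IsPGroup.of_card (Nat.eq_prime_pow_of_unique_prime_dvd hm0 huniq)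
  have : Fact (Nat.Prime 3) := ⟨Nat.prime_three⟩
  have hnil : Group.IsNilpotent (C ⧸ P') := h3grp.isNilpotent
  have hsolq : Group.IsSolvable (C ⧸ P') := inferInstance
  have hsolP : Group.IsSolvable P' := by
    apply Group.isSolvable_of_comm
    intro a b
    apply Subtype.ext
    apply Subtype.ext
    show (a : Q) * (b : Q) = (b : Q) * (a : Q)
    have ha : (a : Q) ∈ H := a.2
    have hb : (b : Q) ∈ H := b.2
    obtain ⟨i, hi⟩ := Subgroup.mem_zpowers_iff.mp ha
    obtain ⟨j, hj⟩ := Subgroup.mem_zpowers_iff.mp hb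
    rw [← hi, ← hj]
    exact zpow_mul_comm y i j
  exact Group.isSolvable_of_ker_le_range P'.subtype (QuotientGroup.mk' P')
    (by rw [QuotientGroup.ker_mk', Subgroup.range_subtype])

/-- The normaliser of `⟨y⟩` is solvable. -/
theorem isSolvable_normalizer (hcard : Nat.card Q = 50232960) (y : Q) (hy : orderOf y = 19)
    (hcent : ∀ c : Q, Commute c y → ∀ r : ℕ, r.Prime → orderOf c = r → r = 3 ∨ r = 19) :
    Group.IsSolvable (Subgroup.normalizer ((Subgroup.zpowers y : Subgroup Q) : Set Q)) := by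
  have hsolC := isSolvable_centralizer hcard y hy hcent
  have hsolA : Group.IsSolvable (MulAut (Subgroup.zpowers y)) :=
    Group.isSolvable_of_isSolvable_injective
      (f := (IsCyclic.mulAutMulEquiv (Subgroup.zpowers y)).toMonoidHom)
      (IsCyclic.mulAutMulEquiv (Subgroup.zpowers y)).injective
  exact Group.isSolvable_of_ker_le_range
    (Subgroup.inclusion (Subgroup.centralizer_le_normalizer _))
    (Subgroup.zpowers y).normalizerMonoidHom
    (by rw [Subgroup.normalizerMonoidHom_ker, Subgroup.inclusion_range])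

/-- Step (A): a normal subgroup of order divisible by 19 is everything. -/
theorem eq_top_of_dvd (hcard : Nat.card Q = 50232960) (hperf : commutator Q = ⊤) (y : Q)
    (hy : orderOf y = 19)
    (hcent : ∀ c : Q, Commute c y → ∀ r : ℕ, r.Prime → orderOf c = r → r = 3 ∨ r = 19)
    (N : Subgroup Q) [hN : N.Normal] (h19 : 19 ∣ Nat.card N) : N = ⊤ := by
  -- `y ∈ N`
  obtain ⟨z, hz⟩ := exists_prime_orderOf_dvd_card' 19 h19
  have hz' : orderOf (z : Q) = 19 := by rw [Subgroup.orderOf_coe]; exact hz
  obtain ⟨g, hg⟩ := exists_conj_mem_zpowers hcard y hy (z : Q) hz'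
  have hgN : g * y * g⁻¹ ∈ N := (Subgroup.zpowers_le.mpr z.2) hg
  have hyN : y ∈ N := by
    have := hN.conj_mem _ hgN g⁻¹
    have e : g⁻¹ * (g * y * g⁻¹) * g⁻¹⁻¹ = y := by group
    rwa [e] at this
  -- Frattini
  have hcy : Nat.card (Subgroup.zpowers y) = 19 ^ (Nat.card Q).factorization 19 := by
    rw [hcard, factorization_50232960_19, Nat.card_zpowers, hy, pow_one]
  let Py : Sylow 19 Q := Sylow.ofCard (Subgroup.zpowers y) hcy
  have hPyN : (Py : Subgroup Q) ≤ N := Subgroup.zpowers_le.mpr hyN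
  have hfr : Subgroup.normalizer ((Py : Subgroup Q) : Set Q) ⊔ N = ⊤ :=
    Sylow.normalizer_sup_eq_top' Py hPyN
  have hsolN := isSolvable_normalizer hcard y hy hcent
  -- the quotient is solvable
  let f : Subgroup.normalizer ((Subgroup.zpowers y : Subgroup Q) : Set Q) →* Q ⧸ N :=
    (QuotientGroup.mk' N).comp (Subgroup.subtype _)
  have hf : Function.Surjective f := by
    intro q
    obtain ⟨x, rfl⟩ := QuotientGroup.mk_surjective q
    have hx : x ∈ Subgroup.normalizer ((Subgroup.zpowers y : Subgroup Q) : Set Q) ⊔ N := by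
      have : x ∈ (⊤ : Subgroup Q) := Subgroup.mem_top x
      rw [← hfr] at this
      exact this
    rw [← SetLike.mem_coe, Subgroup.mul_normal] at hx
    obtain ⟨a, ha, b, hb, rfl⟩ := hx
    refine ⟨⟨a, ha⟩, ?_⟩
    show ((a : Q) : Q ⧸ N) = ((a * b : Q) : Q ⧸ N)
    rw [QuotientGroup.mk_mul, (QuotientGroup.eq_one_iff b).mpr hb, mul_one]
  have hsolq : Group.IsSolvable (Q ⧸ N) := Group.isSolvable_of_surjective hf
  -- the quotient is perfect
  have hperfq : commutator (Q ⧸ N) = ⊤ := by
    rw [commutator_def, ← Subgroup.map_top_of_surjective (QuotientGroup.mk' N)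
      (QuotientGroup.mk'_surjective N), ← Subgroup.map_commutator, ← commutator_def, hperf]
  apply QuotientGroup.subgroup_eq_top_of_subsingleton
  by_contra hns
  rw [not_subsingleton_iff_nontrivial] at hns
  have := Group.IsSolvable.commutator_lt_top_of_nontrivial (Q ⧸ N)
  rw [hperfq] at this
  exact lt_irrefl _ this

/-- An `r`-subgroup (`r ≠ 3, 19`) normalised by `y` has order `≡ 1` mod 19. -/
theorem card_modEq_one (y : Q) (hy : orderOf y = 19)
    (hcent : ∀ c : Q, Commute c y → ∀ r : ℕ, r.Prime → orderOf c = r → r = 3 ∨ r = 19)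
    (R : Subgroup Q) (hR : ∀ x ∈ R, y * x * y⁻¹ ∈ R) {r k : ℕ} (hr : r.Prime)
    (hRcard : Nat.card R = r ^ k) (hr3 : r ≠ 3) (hr19 : r ≠ 19) :
    r ^ k ≡ 1 [MOD 19] := by
  have h1 := card_modEq_card_inf_centralizer R y hy hR
  rw [hRcard] at h1
  have h2 : Nat.card (R ⊓ Subgroup.centralizer {y} : Subgroup Q) = 1 := by
    by_contra hne
    obtain ⟨d, hd, hdd⟩ := Nat.exists_prime_and_dvd hne
    have hdr : d = r := by
      have h3 : d ∣ r ^ k := by
        rw [← hRcard]
        exact hdd.trans (Subgroup.card_dvd_of_le inf_le_left)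
      exact (Nat.prime_dvd_prime_iff_eq hd hr).1 (hd.dvd_of_dvd_pow h3)
    have : Fact d.Prime := ⟨hd⟩
    obtain ⟨c, hc⟩ := exists_prime_orderOf_dvd_card' d hdd
    have hc' : orderOf (c : Q) = d := by rw [Subgroup.orderOf_coe]; exact hc
    have hcomm : Commute (c : Q) y :=
      ((Subgroup.mem_centralizer_iff.mp (Subgroup.mem_inf.mp c.2).2) y rfl).symm
    rcases hcent c hcomm d hd hc' with h | h
    · exact hr3 (hdr ▸ h)
    · exact hr19 (hdr ▸ h)
  rw [h2] at h1
  exact h1

/-- Step (B): a normal subgroup of order prime to 19 is trivial. -/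
theorem eq_bot_of_not_dvd (hcard : Nat.card Q = 50232960) (hperf : commutator Q = ⊤)
    (hcenter : Subgroup.center Q = ⊥) (y : Q) (hy : orderOf y = 19)
    (hcent : ∀ c : Q, Commute c y → ∀ r : ℕ, r.Prime → orderOf c = r → r = 3 ∨ r = 19)
    (N : Subgroup Q) [hN : N.Normal] (h19 : ¬ 19 ∣ Nat.card N) : N = ⊥ := by
  have hNdvd : Nat.card N ∣ 50232960 := hcard ▸ Subgroup.card_subgroup_dvd_card N
  have hN0 : Nat.card N ≠ 0 := Nat.card_pos.ne'
  -- only the prime 3 divides `|N|`
  have huniq : ∀ {r : ℕ}, r.Prime → r ∣ Nat.card N → r = 3 := by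
    intro r hr hrN
    by_contra hr3
    have hr19 : r ≠ 19 := fun h => h19 (h ▸ hrN)
    have : Fact r.Prime := ⟨hr⟩
    obtain ⟨R, hRN, hRcard, hRinv⟩ := exists_invariant_sylow N y r hy h19
    set k := (Nat.card N).factorization r with hk
    have hk1 : 1 ≤ k := hr.factorization_pos_of_dvd hN0 hrN
    have hmod := card_modEq_one y hy hcent R hRinv hr hRcard hr3 hr19
    have hdvd : r ^ k ∣ 50232960 := by
      rw [← hRcard, ← hcard]; exact Subgroup.card_subgroup_dvd_card R
    rcases prime_dvd_50232960 hr (hrN.trans hNdvd) with h | h | h | h | h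
    · subst h
      have hk7 : k ≤ 7 := by
        by_contra hlt
        have : 2 ^ 8 ∣ 50232960 := (pow_dvd_pow 2 (by omega : 8 ≤ k)).trans hdvd
        norm_num at this
      unfold Nat.ModEq at hmod
      interval_cases k <;> norm_num at hmod
    · exact hr3 h
    · subst h
      have hk7 : k ≤ 1 := by
        by_contra hlt
        have : 5 ^ 2 ∣ 50232960 := (pow_dvd_pow 5 (by omega : 2 ≤ k)).trans hdvd
        norm_num at this
      unfold Nat.ModEq at hmod
      interval_cases k
      norm_num at hmod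
    · subst h
      have hk7 : k ≤ 1 := by
        by_contra hlt
        have : 17 ^ 2 ∣ 50232960 := (pow_dvd_pow 17 (by omega : 2 ≤ k)).trans hdvd
        norm_num at this
      unfold Nat.ModEq at hmod
      interval_cases k
      norm_num at hmod
    · exact hr19 h
  obtain ⟨k, hNcard⟩ : ∃ k : ℕ, Nat.card N = 3 ^ k :=
    ⟨_, Nat.eq_prime_pow_of_unique_prime_dvd hN0 huniq⟩
  have hk5 : k ≤ 5 := by
    by_contra hlt
    have : 3 ^ 6 ∣ 50232960 := (pow_dvd_pow 3 (by omega : 6 ≤ k)).trans (hNcard ▸ hNdvd)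
    norm_num at this
  -- `y` centralises `N`
  have hinv : ∀ x ∈ N, y * x * y⁻¹ ∈ N := fun x hx => hN.conj_mem x hx y
  have hmod := card_modEq_card_inf_centralizer N y hy hinv
  have hle : (N ⊓ Subgroup.centralizer {y} : Subgroup Q) ≤ N := inf_le_left
  obtain ⟨j, hjk, hj⟩ := (Nat.dvd_prime_pow Nat.prime_three).1
    (hNcard ▸ Subgroup.card_dvd_of_le hle)
  rw [hj, hNcard] at hmod
  have hjk' : j = k := by
    unfold Nat.ModEq at hmod
    interval_cases k <;> interval_cases j <;> first | rfl | (norm_num at hmod)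
  have heq : (N ⊓ Subgroup.centralizer {y} : Subgroup Q) = N :=
    Subgroup.eq_of_le_of_card_ge hle (by rw [hj, hNcard, hjk'])
  have hNC : N ≤ Subgroup.centralizer {y} := by
    rw [← heq]; exact inf_le_right
  -- `C_Q(N)` is a normal subgroup containing `y`
  have hyC : y ∈ Subgroup.centralizer (N : Set Q) := by
    rw [Subgroup.mem_centralizer_iff]
    intro n hn
    exact ((Subgroup.mem_centralizer_iff.mp (hNC hn)) y rfl).symm
  have h19C : 19 ∣ Nat.card (Subgroup.centralizer (N : Set Q)) := by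
    rw [← hy]; exact Subgroup.orderOf_dvd_natCard _ hyC
  have htop := eq_top_of_dvd hcard hperf y hy hcent (Subgroup.centralizer (N : Set Q)) h19C
  rw [eq_bot_iff, ← hcenter]
  intro n hn
  rw [Subgroup.mem_center_iff]
  intro g
  have hg : g ∈ Subgroup.centralizer (N : Set Q) := htop ▸ Subgroup.mem_top g
  exact ((Subgroup.mem_centralizer_iff.mp hg) n hn).symm

/-- **Module M1 of #2718.** -/
theorem isSimpleGroup_of_sylow19 {Q : Type*} [Group Q] [Finite Q]
    (hcard : Nat.card Q = 50232960) (hperf : commutator Q = ⊤)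
    (hcenter : Subgroup.center Q = ⊥) (y : Q) (hy : orderOf y = 19)
    (hcent : ∀ c : Q, Commute c y → ∀ r : ℕ, r.Prime → orderOf c = r → r = 3 ∨ r = 19) :
    IsSimpleGroup Q := by
  have hnt : Nontrivial Q := by
    rw [← Finite.one_lt_card_iff_nontrivial, hcard]; norm_num
  refine { toNontrivial := hnt, eq_bot_or_eq_top_of_normal := ?_ }
  intro N hN
  by_cases h19 : 19 ∣ Nat.card N
  · right; exact eq_top_of_dvd hcard hperf y hy hcent N h19
  · left; exact eq_bot_of_not_dvd hcard hperf hcenter y hy hcent N h19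

end main

end Cfsg.Agent.Lib.Helper60.Sylow19
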