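/-
helper60: S3043-[A2] `frob` (project of helper90, sheet Lib/Helper90/TIInvSPINE.md).
-/
import Mathlib
import Cfsg.Agent.Lib.Helper90.TIInvDefs
import Cfsg.Agent.Lib.Helper60.TIInvAct

set_option autoImplicit false

open Cfsg.Agent.Lib.Helper90.TIInv

namespace Cfsg.Agent.Lib.Helper60.TIInv

variable {G : Type*} [Group G] [Finite G] {M : Subgroup G} {z : G}

/-- [A2] -/
theorem frob (h : Hyp M z) (b : Basic M z) (i : InvN M z) (s : Semi M) (cz : CzFacts M z)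
    (r : Reg M) : Frob M z := by
  intro x hxM hx1 k hk hkx
  obtain ⟨c, hcC, hcN⟩ := cz.ex
  have hstab : Nm M ⊓ cj c (Nm M) = Hz M z := cz.stab c hcC hcN
  have hkN : k ∈ Nm M := hk.1
  have hkc : k ∈ cj c (Nm M) := by
    have : k ∈ Nm M ⊓ cj c (Nm M) := by rw [hstab]; exact hk
    exact (Subgroup.mem_inf.1 this).2
  have hzH : z ∈ Hz M z :=
    ⟨h.zN, Subgroup.mem_centralizer_iff.2 fun y hy => by rw [Set.mem_singleton_iff.1 hy]⟩
  have hzc : z ∈ cj c (Nm M) := by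
    have : z ∈ Nm M ⊓ cj c (Nm M) := by rw [hstab]; exact hzH
    exact (Subgroup.mem_inf.1 this).2
  -- the three points
  have hαβ : ((1 : G) : G ⧸ Nm M) ≠ (c : G ⧸ Nm M) := by
    intro hh
    rw [coset_eq_iff, inv_one, one_mul] at hh
    exact hcN hh
  have hxN : x ∈ Nm M := M_le_Nm M hxM
  have hαγ : ((1 : G) : G ⧸ Nm M) ≠ ((x * c : G) : G ⧸ Nm M) := by
    intro hh
    rw [coset_eq_iff, inv_one, one_mul] at hh
    apply hcN
    have : c = x⁻¹ * (x * c) := by group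
    rw [this]
    exact (Nm M).mul_mem ((Nm M).inv_mem hxN) hh
  have hβγ : (c : G ⧸ Nm M) ≠ ((x * c : G) : G ⧸ Nm M) := by
    intro hh
    rw [coset_eq_iff, ← mul_assoc] at hh
    apply hx1
    have : x ∈ M ⊓ cj c (Nm M) := Subgroup.mem_inf.2 ⟨hxM, mem_cj_iff.2 hh⟩
    rw [s c hcN] at this
    exact Subgroup.mem_bot.1 this
  have kα : k • ((1 : G) : G ⧸ Nm M) = ((1 : G) : G ⧸ Nm M) := smul_one_coset_iff.2 hkN
  have kβ : k • (c : G ⧸ Nm M) = (c : G ⧸ Nm M) := smul_coset_self_iff.2 hkc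
  have kγ : k • ((x * c : G) : G ⧸ Nm M) = ((x * c : G) : G ⧸ Nm M) := by
    rw [smul_coset_eq_iff]
    have e : (k * (x * c))⁻¹ * (x * c) = c⁻¹ * (k * x)⁻¹ * x * c := by group
    rw [e, hkx]
    have e2 : c⁻¹ * (x * k)⁻¹ * x * c = (c⁻¹ * k * c)⁻¹ := by group
    rw [e2]
    exact (Nm M).inv_mem (mem_cj_iff.1 hkc)
  obtain ⟨g, hgk, hgα, hgβ⟩ := exists_swap (k := k) (cj (x * c) M) (cj c M) hαβ hαγ hβγ kα kβ
    (cjM_norm (x * c) k kγ) (cjM_trans r (x * c)) (cjM_semireg s (x * c))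
    (cjM_fix c) (cjM_norm c k kβ) (cjM_trans r c) (cjM_semireg s c)
  have hgα' : g⁻¹ • (c : G ⧸ Nm M) = ((1 : G) : G ⧸ Nm M) := by rw [inv_smul_eq_iff, hgα]
  have hgβ' : g⁻¹ • ((1 : G) : G ⧸ Nm M) = (c : G ⧸ Nm M) := by rw [inv_smul_eq_iff, hgβ]
  have hgN : g ∉ Nm M := by
    intro hh
    rw [smul_one_coset_iff.2 hh] at hgα
    exact hαβ hgα
  -- `g z g⁻¹ ∈ H`
  have zα : z • ((1 : G) : G ⧸ Nm M) = ((1 : G) : G ⧸ Nm M) := smul_one_coset_iff.2 h.zN
  have zβ : z • (c : G ⧸ Nm M) = (c : G ⧸ Nm M) := smul_coset_self_iff.2 hzc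
  have hgzH : g * z * g⁻¹ ∈ Hz M z := by
    rw [← hstab]
    refine Subgroup.mem_inf.2 ⟨?_, ?_⟩
    · rw [← smul_one_coset_iff, mul_smul, mul_smul, hgβ', zβ, hgβ]
    · rw [← smul_coset_self_iff, mul_smul, mul_smul, hgα', zα, hgα]
  have hgz2 : orderOf (g * z * g⁻¹) = 2 := by
    have := MulEquiv.orderOf_eq (MulAut.conj g) z
    rw [MulAut.conj_apply] at this
    rw [this, h.hz]
  have hgz : g * z * g⁻¹ = z := i.zuniq _ hgzH hgz2
  have hgC : g ∈ Cz z := by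
    refine Subgroup.mem_centralizer_iff.2 fun y hy => ?_
    rw [Set.mem_singleton_iff.1 hy]
    calc z * g = (g * z * g⁻¹) * g := by rw [hgz]
      _ = g * z := by group
  have hinv : g * k * g⁻¹ = k⁻¹ := (cz.out g hgC hgN).2 k hk
  have hkk : k * k = 1 := by
    have : k = k⁻¹ := by
      calc k = (k * g) * g⁻¹ := by group
        _ = g * k * g⁻¹ := by rw [hgk]
        _ = k⁻¹ := hinv
    calc k * k = k * k⁻¹ := by rw [← this]
      _ = 1 := mul_inv_cancel k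
  by_contra hk1
  have hk2 : orderOf k = 2 := by
    have hd : orderOf k ∣ 2 := orderOf_dvd_of_pow_eq_one (by rw [pow_two, hkk])
    rcases (Nat.dvd_prime Nat.prime_two).1 hd with h1 | h2
    · exact absurd (orderOf_eq_one_iff.1 h1) hk1
    · exact h2
  have hkz : k = z := i.zuniq k hk hk2
  rw [hkz] at hkx
  have hxinv : x = x⁻¹ := by
    calc x = (x * z) * z⁻¹ := by group
      _ = z * x * z⁻¹ := by rw [hkx]
      _ = x⁻¹ := b.inv x hxM
  have hxx : x * x = 1 := by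
    calc x * x = x * x⁻¹ := by rw [← hxinv]
      _ = 1 := mul_inv_cancel x
  have hxr : x ^ Nat.card M = 1 := by
    have : (⟨x, hxM⟩ : M) ^ Nat.card M = 1 := pow_card_eq_one'
    exact congrArg Subtype.val this
  obtain ⟨j, hj⟩ := b.oddM
  rw [hj, pow_succ, pow_mul, pow_two, hxx, one_pow, one_mul] at hxr
  exact hx1 hxr

end Cfsg.Agent.Lib.Helper60.TIInv
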