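/-
helper60: S3043-[A5a] `zassenhaus` (project of helper90, sheet Lib/Helper90/TIInvSPINE.md).
-/
import Mathlib
import Cfsg.Prelude.Def_LieExceptional
import Cfsg.Agent.Lib.Helper90.TIInvDefs
import Cfsg.Agent.Lib.Helper60.TIInvAct

set_option autoImplicit false

open Cfsg.Agent.Lib.Helper90.TIInv

namespace Cfsg.Agent.Lib.Helper60.TIInv

variable {G : Type*} [Group G] [Finite G] {M : Subgroup G} {z : G}

/-- three fixed points force the identity. -/
theorem three_fixed (b : Basic M z) (cz : CzFacts M z) (r : Reg M) (fr : Frob M z)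
    (ht : MulAction.IsMultiplyPretransitive G (G ⧸ Nm M) 2) :
    ∀ g : G, ∀ a b c : G ⧸ Nm M, a ≠ b → b ≠ c → a ≠ c → g • a = a → g • b = b → g • c = c →
      g = 1 := by
  intro g p q w hpq hqw hpw hgp hgq hgw
  obtain ⟨c, hcC, hcN⟩ := cz.ex
  have hstab : Nm M ⊓ cj c (Nm M) = Hz M z := cz.stab c hcC hcN
  have hαβ : ((1 : G) : G ⧸ Nm M) ≠ (c : G ⧸ Nm M) := by
    intro hh
    rw [coset_eq_iff, inv_one, one_mul] at hh
    exact hcN hh
  obtain ⟨t, htp, htq⟩ := (MulAction.is_two_pretransitive_iff.1 ht) hpq hαβ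
  have htp' : t⁻¹ • ((1 : G) : G ⧸ Nm M) = p := by rw [inv_smul_eq_iff, htp]
  have htq' : t⁻¹ • (c : G ⧸ Nm M) = q := by rw [inv_smul_eq_iff, htq]
  -- `k = t g t⁻¹`
  have kα : (t * g * t⁻¹) • ((1 : G) : G ⧸ Nm M) = ((1 : G) : G ⧸ Nm M) := by
    rw [mul_smul, mul_smul, htp', hgp, htp]
  have kβ : (t * g * t⁻¹) • (c : G ⧸ Nm M) = (c : G ⧸ Nm M) := by
    rw [mul_smul, mul_smul, htq', hgq, htq]
  have kγ : (t * g * t⁻¹) • (t • w) = t • w := by
    rw [mul_smul, mul_smul, inv_smul_smul, hgw]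
  have hγα : t • w ≠ ((1 : G) : G ⧸ Nm M) := by
    intro hh
    rw [← htp] at hh
    exact hpw (smul_left_cancel t hh).symm
  have hγβ : t • w ≠ (c : G ⧸ Nm M) := by
    intro hh
    rw [← htq] at hh
    exact hqw (smul_left_cancel t hh).symm
  set k := t * g * t⁻¹ with hk
  have hkN : k ∈ Nm M := smul_one_coset_iff.1 kα
  have hkc : k ∈ cj c (Nm M) := smul_coset_self_iff.1 kβ
  have hkH : k ∈ Hz M z := by rw [← hstab]; exact Subgroup.mem_inf.2 ⟨hkN, hkc⟩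
  -- the third point is `a • β`
  generalize t • w = γ at kγ hγα hγβ
  induction γ using QuotientGroup.induction_on with | H g' => ?_
  have hg'N : g' ∉ Nm M := by
    intro hh
    apply hγα
    rw [coset_eq_iff, mul_one]
    exact (Nm M).inv_mem hh
  obtain ⟨a, haM, haN⟩ := r c g' hcN hg'N
  have haβ : a • (c : G ⧸ Nm M) = (g' : G ⧸ Nm M) := smul_coset_eq_iff.2 haN
  have ha1 : a ≠ 1 := by
    intro hh
    rw [hh, one_smul] at haβ
    exact hγβ haβ.symm
  have haN' : a ∈ Nm M := M_le_Nm M haM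
  -- `a⁻¹ k a ∈ H`
  have h1 : a⁻¹ * k * a ∈ Hz M z := by
    rw [← hstab]
    refine Subgroup.mem_inf.2 ⟨(Nm M).mul_mem ((Nm M).mul_mem ((Nm M).inv_mem haN') hkN) haN', ?_⟩
    rw [← smul_coset_self_iff, mul_smul, mul_smul, haβ, kγ, ← haβ, inv_smul_smul]
  have h2 : k⁻¹ * (a⁻¹ * k * a) ∈ M ⊓ Hz M z := by
    refine Subgroup.mem_inf.2 ⟨?_, (Hz M z).mul_mem ((Hz M z).inv_mem hkH) h1⟩
    have e : k⁻¹ * (a⁻¹ * k * a) = (k⁻¹ * a⁻¹ * k) * a := by group
    rw [e]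
    exact M.mul_mem (conj_mem_of_mem_Nm' hkN (M.inv_mem haM)) haM
  rw [b.MH, Subgroup.mem_bot] at h2
  have hka : k * a = a * k := by
    calc k * a = a * (k * (k⁻¹ * (a⁻¹ * k * a))) := by group
      _ = a * k := by rw [h2, mul_one]
  have hk1 : k = 1 := fr a haM ha1 k hkH hka
  calc g = t⁻¹ * k * t := by rw [hk]; group
    _ = 1 := by rw [hk1]; group

/-- [A5a] -/
theorem zassenhaus (h : Hyp M z) (b : Basic M z) (i : InvN M z) (s : Semi M) (cz : CzFacts M z)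
    (r : Reg M) (fr : Frob M z) (hf : FaithfulSMul G (G ⧸ Nm M))
    (ht : MulAction.IsMultiplyPretransitive G (G ⧸ Nm M) 2)
    (hidx : (Nm M).index = Nat.card M + 1) (hA : CaseA M z)
    (hm : Nat.card M = 2 * Nat.card (Hz M z) + 1) : Cfsg.IsZassenhausGroup G (G ⧸ Nm M) := by
  obtain ⟨c, hcC, hcN⟩ := cz.ex
  have hstab : Nm M ⊓ cj c (Nm M) = Hz M z := cz.stab c hcC hcN
  have hαβ : ((1 : G) : G ⧸ Nm M) ≠ (c : G ⧸ Nm M) := by
    intro hh
    rw [coset_eq_iff, inv_one, one_mul] at hh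
    exact hcN hh
  have hzH : z ∈ Hz M z :=
    ⟨h.zN, Subgroup.mem_centralizer_iff.2 fun y hy => by rw [Set.mem_singleton_iff.1 hy]⟩
  have hzc : z ∈ cj c (Nm M) := by
    have : z ∈ Nm M ⊓ cj c (Nm M) := by rw [hstab]; exact hzH
    exact (Subgroup.mem_inf.1 this).2
  have hz1 : z ≠ 1 := by
    intro hh
    have := h.hz
    rw [hh, orderOf_one] at this
    omega
  refine ⟨hf, ht, three_fixed b cz r fr ht, ⟨z, hz1, _, _, hαβ, smul_one_coset_iff.2 h.zN,
    smul_coset_self_iff.2 hzc⟩, ?_⟩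
  -- no regular normal subgroup
  intro R hRn hRt
  by_contra hcon
  have hreg : ∀ ω : G ⧸ Nm M, MulAction.stabilizer R ω = ⊥ := by
    intro ω
    by_contra hne
    exact hcon ⟨ω, hne⟩
  have hreg' : ∀ x ∈ R, ∀ ω : G ⧸ Nm M, x • ω = ω → x = 1 := by
    intro x hx ω hfix
    have : (⟨x, hx⟩ : R) ∈ MulAction.stabilizer R ω := MulAction.mem_stabilizer_iff.2 hfix
    rw [hreg ω, Subgroup.mem_bot] at this
    exact congrArg Subtype.val this
  -- `|R| = m + 1`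
  have hcardR : Nat.card R = Nat.card M + 1 := by
    have := @MulAction.index_stabilizer_of_transitive R _ _ _ ((1 : G) : G ⧸ Nm M) hRt
    rw [hreg, Subgroup.index_bot] at this
    rw [this, ← hidx]
    rfl
  -- `h` is even
  have hheven : 2 ∣ Nat.card (Hz M z) := by
    have h1 : orderOf (⟨z, hzH⟩ : Hz M z) = 2 := by
      rw [← h.hz]
      exact Subgroup.orderOf_mk z hzH
    rw [← h1]
    exact orderOf_dvd_natCard _
  have h2R : 2 ∣ Nat.card R := by
    rw [hcardR, hm]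
    omega
  have : Fact (Nat.Prime 2) := ⟨Nat.prime_two⟩
  obtain ⟨r₀, hr₀⟩ := exists_prime_orderOf_dvd_card' 2 h2R
  have hr₀' : orderOf (r₀ : G) = 2 := by rw [← hr₀]; exact Subgroup.orderOf_coe r₀
  have hr₀1 : (r₀ : G) ≠ 1 := by
    intro hh
    rw [hh, orderOf_one] at hr₀'
    omega
  have hα : ∀ x ∈ R, x ≠ 1 → x • ((1 : G) : G ⧸ Nm M) ≠ ((1 : G) : G ⧸ Nm M) :=
    fun x hx hx1 hh => hx1 (hreg' x hx _ hh)
  -- every non-identity element of `R` is an `N`-conjugate of `r₀`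
  have hconj : ∀ x ∈ R, x ≠ 1 → orderOf x = 2 := by
    intro x hx hx1
    obtain ⟨n, hnα, hnx⟩ := (MulAction.is_two_pretransitive_iff.1 ht)
      (hα _ r₀.2 hr₀1).symm (hα x hx hx1).symm
    have hnα' : n⁻¹ • ((1 : G) : G ⧸ Nm M) = ((1 : G) : G ⧸ Nm M) := by
      rw [inv_smul_eq_iff, hnα]
    have hmem : x⁻¹ * (n * r₀ * n⁻¹) ∈ R := R.mul_mem (R.inv_mem hx) (hRn.conj_mem _ r₀.2 n)
    have hfix : (x⁻¹ * (n * r₀ * n⁻¹)) • ((1 : G) : G ⧸ Nm M) = ((1 : G) : G ⧸ Nm M) := by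
      rw [mul_smul, mul_smul, mul_smul, hnα', hnx, inv_smul_smul]
    have h1 := hreg' _ hmem _ hfix
    have hx' : x = n * r₀ * n⁻¹ := by
      calc x = x * (x⁻¹ * (n * r₀ * n⁻¹)) := by rw [h1, mul_one]
        _ = n * r₀ * n⁻¹ := by group
    have := MulEquiv.orderOf_eq (MulAut.conj n) (r₀ : G)
    rw [MulAut.conj_apply] at this
    rw [hx', this, hr₀']
  -- `R` is a 2-group
  have hP : IsPGroup 2 R := by
    intro x
    refine ⟨1, ?_⟩
    by_cases hx1 : (x : G) = 1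
    · have : x = 1 := Subtype.ext hx1
      rw [this, one_pow]
    · have := hconj x x.2 hx1
      apply Subtype.ext
      rw [Subgroup.coe_pow, pow_one, ← this, pow_orderOf_eq_one]
      rfl
  obtain ⟨j, hj⟩ := (IsPGroup.iff_card (p := 2) (G := R)).1 hP
  have hhpos : 0 < Nat.card (Hz M z) := Nat.card_pos
  obtain ⟨e, he⟩ := hheven
  rw [hcardR, hm, he] at hj
  -- `2 * (2 * e) + 1 + 1 = 2 ^ j`, `e ≥ 1`
  have he1 : 1 ≤ e := by omega
  rcases j with _ | _ | j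
  · omega
  · omega
  · rw [pow_succ, pow_succ] at hj
    omega

end Cfsg.Agent.Lib.Helper60.TIInv
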