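import Mathlib
import Cfsg.Prelude.Def_Amalgam
import Cfsg.Agent.Lib.Helper47.Subnormal
import Cfsg.Agent.Lib.Helper72.Wielandt
import Cfsg.Agent.Lib.Helper22.FStar
import Cfsg.Agent.Lib.Helper1.Fitting

/-!
# Thompson–Wielandt: basic ambient-group tools (helper60)

* `coreIn M H` : the core in `M` of `H ⊓ M`, as a subgroup of the ambient group;
* `normalizer_eq_of_isCoatom` : `N_G(R) = M` for `1 ≠ R ⊴ M`, `M` maximal and core-free;
* `le_normalizer_opOf_of_relSN` : a `p`-subgroup `T ≤ H` normalized by a subnormal subgroup `K` of `H`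
  normalizes `O^p(K)`;
* `CompIn L H` : `L` is a component of `H` (ambient form) and the dichotomy.
-/

set_option autoImplicit false

namespace Cfsg.Agent.Lib.Helper60.TW

open Cfsg
open Cfsg.Agent.Lib.Helper72 (RelSN)
open scoped Pointwise commutatorElement

universe u

variable {G : Type u} [Group G]

/-! ### Cores -/

/-- The core in `M` of `H`, as a subgroup of the ambient group. -/
def coreIn (M H : Subgroup G) : Subgroup G := ((H.subgroupOf M).normalCore).map M.subtype

theorem mem_coreIn {M H : Subgroup G} {x : G} :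
    x ∈ coreIn M H ↔ x ∈ M ∧ ∀ m ∈ M, m * x * m⁻¹ ∈ H := by
  unfold coreIn
  constructor
  · rintro ⟨y, hy, rfl⟩
    refine ⟨y.2, fun m hm => ?_⟩
    have := hy ⟨m, hm⟩
    simpa [Subgroup.mem_subgroupOf] using this
  · rintro ⟨hx, h⟩
    refine ⟨⟨x, hx⟩, ?_, rfl⟩
    intro m
    simpa [Subgroup.mem_subgroupOf] using h m m.2

theorem coreIn_le_left (M H : Subgroup G) : coreIn M H ≤ M := fun _ hx => (mem_coreIn.mp hx).1

theorem coreIn_le_right (M H : Subgroup G) : coreIn M H ≤ H := fun x hx => by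
  have := (mem_coreIn.mp hx).2 1 M.one_mem
  simpa using this

theorem le_normalizer_coreIn (M H : Subgroup G) :
    M ≤ Subgroup.normalizer ((coreIn M H : Subgroup G) : Set G) := by
  have key : ∀ m ∈ M, ∀ y ∈ coreIn M H, m * y * m⁻¹ ∈ coreIn M H := by
    intro m hm y hy
    rw [mem_coreIn] at hy ⊢
    refine ⟨M.mul_mem (M.mul_mem hm hy.1) (M.inv_mem hm), fun m' hm' => ?_⟩
    have := hy.2 (m' * m) (M.mul_mem hm' hm)
    simpa [mul_assoc] using this
  intro m hm
  rw [Subgroup.mem_normalizer_iff]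
  intro y
  constructor
  · exact key m hm y
  · intro h
    have := key m⁻¹ (M.inv_mem hm) _ h
    simpa [mul_assoc] using this

theorem le_coreIn {M H R : Subgroup G} (hRM : R ≤ M)
    (h : ∀ m ∈ M, ∀ x ∈ R, m * x * m⁻¹ ∈ H) : R ≤ coreIn M H := fun x hx =>
  mem_coreIn.mpr ⟨hRM hx, fun m hm => h m hm x hx⟩

theorem le_coreIn_of_le_normalizer {M H R : Subgroup G} (hRM : R ≤ M) (hRH : R ≤ H)
    (hN : M ≤ Subgroup.normalizer (R : Set G)) : R ≤ coreIn M H :=
  le_coreIn hRM fun _ hm x hx => hRH ((Subgroup.mem_normalizer_iff.mp (hN hm) x).mp hx)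

/-! ### Conjugation -/

theorem mem_conj_smul {H : Subgroup G} {g x : G} :
    x ∈ MulAut.conj g • H ↔ g⁻¹ * x * g ∈ H := by
  rw [Subgroup.mem_pointwise_smul_iff_inv_smul_mem]
  simp [MulAut.smul_def]

theorem map_conj_eq_smul (H : Subgroup G) (g : G) :
    H.map (MulAut.conj g).toMonoidHom = MulAut.conj g • H := rfl

theorem conj_smul_eq_of_mem_normalizer {R : Subgroup G} {g : G}
    (hg : g ∈ Subgroup.normalizer (R : Set G)) : MulAut.conj g • R = R := by
  ext x
  rw [mem_conj_smul]
  have := Subgroup.mem_normalizer_iff.mp (Subgroup.inv_mem _ hg) x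
  simpa using this.symm

theorem isCoatom_conj_smul {M : Subgroup G} (hM : IsCoatom M) (g : G) :
    IsCoatom (MulAut.conj g • M) :=
  ((MulAut.conj g).mapSubgroup.isCoatom_iff M).mpr hM

theorem normalCore_conj_smul (M : Subgroup G) (g : G) :
    (MulAut.conj g • M).normalCore = M.normalCore := by
  ext x
  constructor
  · intro h b
    have := h (g * b)
    rw [mem_conj_smul] at this
    simpa [mul_assoc] using this
  · intro h b
    rw [mem_conj_smul]
    have := h (g⁻¹ * b)
    simpa [mul_assoc] using this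

/-! ### Normalizers of normal subgroups of a core-free maximal subgroup -/

theorem normalizer_eq_of_isCoatom {M R : Subgroup G} (hM : IsCoatom M) (hc : M.normalCore = ⊥)
    (hR : R ≠ ⊥) (hRM : R ≤ M) (hMR : M ≤ Subgroup.normalizer (R : Set G)) :
    Subgroup.normalizer (R : Set G) = M := by
  by_contra hne
  have hlt : M < Subgroup.normalizer (R : Set G) := lt_of_le_of_ne hMR (Ne.symm hne)
  have htop : Subgroup.normalizer (R : Set G) = ⊤ := hM.2 _ hlt
  have hn : R.Normal := Subgroup.normalizer_eq_top_iff.mp htop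
  have : R ≤ M.normalCore := Subgroup.normal_le_normalCore.mpr hRM
  rw [hc] at this
  exact hR (le_bot_iff.mp this)

/-! ### Lemma c: `p`-subgroups normalized by a subnormal subgroup -/

/-- If `K` is subnormal in `H` and the `p`-subgroup `T ≤ H` is normalized by `K`, then `T`
normalizes `O^p(K)`. -/
theorem le_normalizer_opOf_of_relSN {p : ℕ} [Fact p.Prime] {K H T : Subgroup G}
    (hK : RelSN K H) (hT : T ≤ H) (hp : IsPGroup p ↥T)
    (hKT : K ≤ Subgroup.normalizer (T : Set G)) :
    T ≤ Subgroup.normalizer ((Cfsg.Agent.Lib.Helper47.opOf p K : Subgroup G) : Set G) := by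
  have hK0 : RelSN K (K ⊔ T) := hK.restrict le_sup_left (sup_le hK.le hT)
  have hTn : K ⊔ T ≤ Subgroup.normalizer (T : Set G) := sup_le hKT Subgroup.le_normalizer
  have hPn : (T.subgroupOf (K ⊔ T)).Normal := Subgroup.normal_subgroupOf_of_le_normalizer hTn
  have hPp : IsPGroup p ↥(T.subgroupOf (K ⊔ T)) := hp.comap_subtype
  have hB : (K.subgroupOf (K ⊔ T)).IsSubnormal := hK0.isSubnormal_subgroupOf
  have hBP : K.subgroupOf (K ⊔ T) ⊔ T.subgroupOf (K ⊔ T) = ⊤ := by
    rw [← Subgroup.subgroupOf_sup le_sup_left le_sup_right]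
    exact Subgroup.subgroupOf_self _
  have key := Cfsg.Agent.Lib.Helper47.mem_of_coprime_of_isSubnormal_of_sup_eq_top hPp hB hBP
  have h1 : Cfsg.Agent.Lib.Helper47.opOf p (K ⊔ T) = Cfsg.Agent.Lib.Helper47.opOf p K := by
    apply le_antisymm
    · rw [Cfsg.Agent.Lib.Helper47.opOf_eq_closure, Cfsg.Agent.Lib.Helper47.opOf_eq_closure]
      apply Subgroup.closure_mono
      rintro x ⟨hx, hco⟩
      refine ⟨?_, hco⟩
      have h2 := key ⟨x, hx⟩ (by rw [← Subgroup.orderOf_coe]; exact hco)
      simpa [Subgroup.mem_subgroupOf] using h2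
    · exact Cfsg.Agent.Lib.Helper47.opOf_mono p le_sup_left
  rw [← h1]
  exact (le_sup_right.trans Subgroup.le_normalizer).trans
    (Cfsg.Agent.Lib.Helper47.normalizer_le_normalizer_opOf p (K ⊔ T))

/-- A finite group all of whose `p'`-elements are trivial is a `p`-group (subgroup form). -/
theorem isPGroup_of_opOf_eq_bot [Finite G] {p : ℕ} [hp : Fact p.Prime] {Y : Subgroup G}
    (h : Cfsg.Agent.Lib.Helper47.opOf p Y = ⊥) : IsPGroup p ↥Y := by
  intro y
  have hpos : 0 < orderOf (y : G) := orderOf_pos _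
  obtain ⟨k, m, hm, hkm⟩ := Nat.exists_eq_pow_mul_and_not_dvd hpos.ne' p hp.out.ne_one
  refine ⟨k, ?_⟩
  have h1 : orderOf ((y : G) ^ p ^ k) = m := by
    rw [orderOf_pow' _ (pow_ne_zero k hp.out.ne_zero), hkm, Nat.gcd_eq_right (dvd_mul_right _ _)]
    exact Nat.mul_div_cancel_left m (pow_pos hp.out.pos k)
  have h2 : (y : G) ^ p ^ k ∈ Cfsg.Agent.Lib.Helper47.opOf p Y := by
    rw [Cfsg.Agent.Lib.Helper47.opOf_eq_closure]
    apply Subgroup.subset_closure
    refine ⟨Y.pow_mem y.2 _, ?_⟩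
    rw [h1]
    exact ((Nat.Prime.coprime_iff_not_dvd hp.out).mpr hm).symm
  rw [h, Subgroup.mem_bot] at h2
  exact Subtype.ext (by simpa using h2)

/-! ### Components, ambient form -/

/-- `L` is a component of `H` (both subgroups of the ambient group). -/
def CompIn (L H : Subgroup G) : Prop := RelSN L H ∧ IsQuasisimple ↥L

theorem CompIn.le {L H : Subgroup G} (h : CompIn L H) : L ≤ H := h.1.le

theorem CompIn.isComponent_subgroupOf {L H : Subgroup G} (h : CompIn L H) :
    IsComponent (L.subgroupOf H) :=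
  ⟨h.1.isSubnormal_subgroupOf, Cfsg.Agent.Lib.Helper29.isQuasisimple_of_mulEquiv
    (Subgroup.subgroupOfEquivOfLe h.1.le).symm h.2⟩

theorem compIn_of_isComponent {H : Subgroup G} {K : Subgroup ↥H} (hK : IsComponent K) :
    CompIn (K.map H.subtype) H :=
  ⟨Cfsg.Agent.Lib.Helper72.relSN_map_subtype_of_isSubnormal hK.1,
    Cfsg.Agent.Lib.Helper29.isQuasisimple_of_mulEquiv
      (K.equivMapOfInjective H.subtype H.subtype_injective) hK.2⟩

theorem CompIn.ne_bot {L H : Subgroup G} (h : CompIn L H) : L ≠ ⊥ := by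
  intro hL
  have := Cfsg.Agent.Lib.Helper22.quasisimple_nontrivial h.2
  rw [hL] at this
  exact not_subsingleton _ (inferInstance : Subsingleton ↥(⊥ : Subgroup G))

theorem CompIn.trans {L K H : Subgroup G} (h : CompIn L K) (hK : RelSN K H) : CompIn L H :=
  ⟨h.1.trans hK, h.2⟩

theorem CompIn.restrict {L K H : Subgroup G} (h : CompIn L H) (hLK : L ≤ K) (hKH : K ≤ H) :
    CompIn L K :=
  ⟨h.1.restrict hLK hKH, h.2⟩

theorem CompIn.smul {L H : Subgroup G} (h : CompIn L H) (x : G) :
    CompIn (MulAut.conj x • L) (MulAut.conj x • H) :=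
  ⟨h.1.smul x, Cfsg.Agent.Lib.Helper29.isQuasisimple_of_mulEquiv
    (Subgroup.equivSMul (MulAut.conj x) L) h.2⟩

/-- **Aschbacher 31.4**, ambient form. -/
theorem CompIn.le_or_commutator_eq_bot [Finite G] {L S H : Subgroup G} (hL : CompIn L H)
    (hS : RelSN S H) : L ≤ S ∨ ⁅L, S⁆ = ⊥ := by
  rcases Cfsg.Agent.Lib.Helper22.component_le_or_commutator_eq_bot hL.isComponent_subgroupOf
    hS.isSubnormal_subgroupOf with h | h
  · exact Or.inl (Cfsg.Agent.Lib.Helper22.le_of_subgroupOf_le hL.le h)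
  · exact Or.inr (Cfsg.Agent.Lib.Helper22.commutator_eq_bot_of_subgroupOf hL.le hS.le h)

/-- A component of `H` normalizes every subnormal subgroup of `H`. -/
theorem CompIn.le_normalizer [Finite G] {L S H : Subgroup G} (hL : CompIn L H)
    (hS : RelSN S H) : L ≤ Subgroup.normalizer (S : Set G) := by
  rcases hL.le_or_commutator_eq_bot hS with h | h
  · exact h.trans Subgroup.le_normalizer
  · rw [Subgroup.commutator_eq_bot_iff_le_centralizer] at h
    exact h.trans (Subgroup.centralizer_le_normalizer _)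

end Cfsg.Agent.Lib.Helper60.TW
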