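import Mathlib
import Cfsg.Agent.Lib.Helper60.TWBasic

/-!
# Index bounds for iterated cores (helper60)

`relIndex_coreIn_coreIn_dvd` : if `[M : M ∩ N] = [N : M ∩ N] = d`, `A₁ = core_M(M ∩ N)`,
`B₁ = core_N(M ∩ N)`, `X = core_M(A₁ ∩ B₁)`, then `[M : X]` divides `d! · ((d-1)!)^d`.
-/

set_option autoImplicit false

namespace Cfsg.Agent.Lib.Helper60.TW

open scoped Pointwise

/-! ### type-level lemmas -/

section TypeLevel

variable {K : Type*} [Group K] [Finite K]

theorem index_normalCore_dvd_factorial (H : Subgroup K) :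
    H.normalCore.index ∣ Nat.factorial H.index := by
  classical
  rw [Subgroup.normalCore_eq_ker, Subgroup.index_ker, Subgroup.index_eq_card, ← Nat.card_perm]
  exact Subgroup.card_subgroup_dvd_card (MulAction.toPermHom K (K ⧸ H)).range

theorem card_stabilizer_perm {α : Type*} [Finite α] (x : α) :
    Nat.card (MulAction.stabilizer (Equiv.Perm α) x) = Nat.factorial (Nat.card α - 1) := by
  classical
  have h1 := Subgroup.card_mul_index (MulAction.stabilizer (Equiv.Perm α) x)
  rw [MulAction.index_stabilizer_of_transitive, Nat.card_perm] at h1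
  have hpos : 0 < Nat.card α := Nat.card_pos_iff.mpr ⟨⟨x⟩, inferInstance⟩
  have h2 : Nat.factorial (Nat.card α) = Nat.card α * Nat.factorial (Nat.card α - 1) :=
    (Nat.mul_factorial_pred hpos.ne').symm
  rw [h2, mul_comm] at h1
  exact Nat.eq_of_mul_eq_mul_left hpos h1

theorem relIndex_normalCore_dvd_factorial {H S : Subgroup K} (hSH : S ≤ H) :
    H.normalCore.relIndex S ∣ Nat.factorial (H.index - 1) := by
  classical
  rw [Subgroup.normalCore_eq_ker, Subgroup.relIndex_ker, Subgroup.index_eq_card,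
    ← card_stabilizer_perm ((1 : K) : K ⧸ H)]
  apply Subgroup.card_dvd_of_le
  rintro _ ⟨s, hs, rfl⟩
  rw [MulAction.mem_stabilizer_iff]
  show s • ((1 : K) : K ⧸ H) = ((1 : K) : K ⧸ H)
  rw [MulAction.Quotient.smul_mk, QuotientGroup.eq]
  simpa using H.inv_mem (hSH hs)

theorem index_iInf_dvd_pow {A : Type*} [Group A] [Finite A] {ι : Type*} [Fintype ι]
    (L : ι → Subgroup A) (hn : ∀ i, (L i).Normal) (n : ℕ) (h : ∀ i, (L i).index ∣ n) :
    (⨅ i, L i).index ∣ n ^ Fintype.card ι := by
  classical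
  have := hn
  let φ : A →* ∀ i, A ⧸ L i := MonoidHom.pi fun i => QuotientGroup.mk' (L i)
  have hker : φ.ker = ⨅ i, L i := by
    ext x
    rw [MonoidHom.mem_ker, Subgroup.mem_iInf, funext_iff]
    refine forall_congr' fun i => ?_
    show QuotientGroup.mk' (L i) x = 1 ↔ _
    rw [QuotientGroup.mk'_apply, QuotientGroup.eq_one_iff]
  rw [← hker, Subgroup.index_ker]
  refine dvd_trans (Subgroup.card_subgroup_dvd_card φ.range) ?_
  rw [Nat.card_pi]
  calc ∏ i, Nat.card (A ⧸ L i) ∣ ∏ _i : ι, n :=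
        Finset.prod_dvd_prod_of_dvd _ _ fun i _ => by
          rw [← Subgroup.index_eq_card]; exact h i
    _ = n ^ Fintype.card ι := by rw [Finset.prod_const, Finset.card_univ]

end TypeLevel

/-! ### ambient form -/

section Ambient

variable {G : Type*} [Group G] [Finite G]

omit [Finite G] in
theorem relIndex_map_subtype_self {M : Subgroup G} (C : Subgroup ↥M) :
    (C.map M.subtype).relIndex M = C.index := by
  unfold Subgroup.relIndex
  congr 1
  rw [← Subgroup.comap_subtype, Subgroup.comap_map_eq_self_of_injective M.subtype_injective]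

theorem relIndex_coreIn_dvd_factorial (M H : Subgroup G) :
    (coreIn M H).relIndex M ∣ Nat.factorial (H.relIndex M) := by
  unfold coreIn
  rw [relIndex_map_subtype_self]
  exact index_normalCore_dvd_factorial _

theorem relIndex_coreIn_dvd_factorial_pred {K H S : Subgroup G} (hSH : S ≤ H) (hHK : H ≤ K) :
    (coreIn K H).relIndex S ∣ Nat.factorial (H.relIndex K - 1) := by
  have hSK : S ≤ K := hSH.trans hHK
  have h1 : ((coreIn K H).subgroupOf K).relIndex (S.subgroupOf K) = (coreIn K H).relIndex S :=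
    Subgroup.relIndex_subgroupOf hSK
  have h2 : (coreIn K H).subgroupOf K = (H.subgroupOf K).normalCore := by
    unfold coreIn
    rw [← Subgroup.comap_subtype, Subgroup.comap_map_eq_self_of_injective K.subtype_injective]
  rw [← h1, h2]
  exact relIndex_normalCore_dvd_factorial (Subgroup.subgroupOf_mono K hSH)

/-- The index of the second core. -/
theorem relIndex_coreIn_coreIn_dvd (M N : Subgroup G) (d : ℕ) (hdM : (M ⊓ N).relIndex M = d)
    (hdN : (M ⊓ N).relIndex N = d) :
    (coreIn M (coreIn M (M ⊓ N) ⊓ coreIn N (M ⊓ N))).relIndex M ∣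
      Nat.factorial d * (Nat.factorial (d - 1)) ^ d := by
  classical
  set A₁ := coreIn M (M ⊓ N) with hA₁
  set B₁ := coreIn N (M ⊓ N) with hB₁
  set X := coreIn M (A₁ ⊓ B₁) with hX
  have hA₁M : A₁ ≤ M := coreIn_le_left _ _
  have hA₁MN : A₁ ≤ M ⊓ N := coreIn_le_right _ _
  have hMA₁ : M ≤ Subgroup.normalizer (A₁ : Set G) := le_normalizer_coreIn _ _
  have hNB₁ : N ≤ Subgroup.normalizer (B₁ : Set G) := le_normalizer_coreIn _ _
  have hXA₁ : X ≤ A₁ := (coreIn_le_right _ _).trans inf_le_left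
  -- (i)
  have h1 : A₁.relIndex M ∣ Nat.factorial d := by
    have := relIndex_coreIn_dvd_factorial M (M ⊓ N)
    rwa [hdM] at this
  -- (ii)
  have h2 : ∀ m ∈ M, (MulAut.conj m • B₁).relIndex A₁ ∣ Nat.factorial (d - 1) := by
    intro m hm
    have e1 : MulAut.conj m • A₁ = A₁ := conj_smul_eq_of_mem_normalizer (hMA₁ hm)
    have e2 : (MulAut.conj m • B₁).relIndex A₁ = B₁.relIndex A₁ := by
      conv_lhs => rw [← e1]
      exact Subgroup.relIndex_pointwise_smul (MulAut.conj m) B₁ A₁
    rw [e2]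
    have := relIndex_coreIn_dvd_factorial_pred (K := N) hA₁MN inf_le_right
    rwa [hdN] at this
  -- (iii)
  have h3 : X.relIndex A₁ ∣ (Nat.factorial (d - 1)) ^ d := by
    let ι := ↥M ⧸ (M ⊓ N).subgroupOf M
    have : Fintype ι := Fintype.ofFinite ι
    have hcard : Fintype.card ι = d := by
      rw [← Nat.card_eq_fintype_card, ← Subgroup.index_eq_card]
      exact hdM
    let L : ι → Subgroup ↥A₁ := fun q => (MulAut.conj ((q.out : ↥M) : G) • B₁).subgroupOf A₁
    have hLn : ∀ q, (L q).Normal := by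
      intro q
      apply Subgroup.normal_subgroupOf_of_le_normalizer
      have e1 : MulAut.conj ((q.out : ↥M) : G) • A₁ = A₁ :=
        conj_smul_eq_of_mem_normalizer (hMA₁ q.out.2)
      have h4 : MulAut.conj ((q.out : ↥M) : G) • A₁ ≤
          MulAut.conj ((q.out : ↥M) : G) • Subgroup.normalizer (B₁ : Set G) :=
        Subgroup.pointwise_smul_le_pointwise_smul_iff.mpr
          ((hA₁MN.trans inf_le_right).trans hNB₁)
      rw [e1] at h4
      exact h4.trans ((Subgroup.map_mono le_rfl).trans (Subgroup.le_normalizer_map _))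
    have hLi : ∀ q, (L q).index ∣ Nat.factorial (d - 1) := fun q => h2 _ q.out.2
    have hinf : ⨅ q, L q = X.subgroupOf A₁ := by
      ext ⟨x, hx⟩
      rw [Subgroup.mem_iInf, Subgroup.mem_subgroupOf]
      show (∀ q : ι, (⟨x, hx⟩ : ↥A₁) ∈ (MulAut.conj ((q.out : ↥M) : G) • B₁).subgroupOf A₁) ↔ x ∈ X
      simp only [Subgroup.mem_subgroupOf]
      rw [hX, mem_coreIn]
      constructor
      · intro h
        refine ⟨hA₁M hx, fun m hm => ?_⟩
        have hxm : m * x * m⁻¹ ∈ A₁ := (Subgroup.mem_normalizer_iff.mp (hMA₁ hm) x).mp hx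
        refine ⟨hxm, ?_⟩
        -- `m⁻¹ = out * h'`
        obtain ⟨h', hh'⟩ := QuotientGroup.mk_out_eq_mul ((M ⊓ N).subgroupOf M) (⟨m, hm⟩⁻¹ : ↥M)
        have hq := h (QuotientGroup.mk (⟨m, hm⟩⁻¹ : ↥M))
        rw [hh', mem_conj_smul] at hq
        have hh'N : ((h' : ↥M) : G) ∈ N := (Subgroup.mem_subgroupOf.mp h'.2).2
        have := (Subgroup.mem_normalizer_iff.mp (hNB₁ hh'N) _).mp hq
        simpa [mul_assoc] using this
      · intro h q
        rw [mem_conj_smul]
        have := (h.2 ((q.out : ↥M) : G)⁻¹ (M.inv_mem q.out.2)).2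
        simpa using this
    have := index_iInf_dvd_pow L hLn _ hLi
    rwa [hinf, hcard] at this
  rw [← Subgroup.relIndex_mul_relIndex X A₁ M hXA₁ hA₁M, mul_comm]
  exact Nat.mul_dvd_mul h1 h3

end Ambient

end Cfsg.Agent.Lib.Helper60.TW
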