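import Mathlib
import Cfsg.Agent.Lib.Helper60.TWBasic

/-!
# The Thompson–Wielandt theorem for iterated cores (helper60)

`Arc M N g A₁ B₁ X Y` packages the configuration: `M` a core-free maximal subgroup, `N = gMg⁻¹ ≠ M`,
`A₁ = core_M(M ∩ N)`, `B₁ = core_N(M ∩ N)`, `X = core_M(A₁ ∩ B₁)`, `Y = core_N(A₁ ∩ B₁)`, both non-trivial.
-/

set_option autoImplicit false

namespace Cfsg.Agent.Lib.Helper60.TW

open Cfsg
open Cfsg.Agent.Lib.Helper72 (RelSN)
open scoped Pointwise commutatorElement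

universe u

variable {G : Type u} [Group G]

/-! ### small general lemmas -/

theorem smul_le_normalizer_smul {H R : Subgroup G} (h : H ≤ Subgroup.normalizer (R : Set G))
    (x : G) :
    MulAut.conj x • H ≤ Subgroup.normalizer ((MulAut.conj x • R : Subgroup G) : Set G) :=
  (Subgroup.map_mono h).trans (Subgroup.le_normalizer_map _)

theorem smul_sSup_le {S : Set (Subgroup G)} {x : G}
    (h : ∀ L ∈ S, MulAut.conj x • L ∈ S) : MulAut.conj x • sSup S ≤ sSup S := by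
  rw [Subgroup.pointwise_smul_subset_iff]
  apply sSup_le
  intro L hL
  rw [Subgroup.subset_pointwise_smul_iff, inv_inv]
  exact le_sSup (h L hL)

theorem inf_le_normalizer_inf {H₁ H₂ R₁ R₂ : Subgroup G}
    (h₁ : H₁ ≤ Subgroup.normalizer (R₁ : Set G)) (h₂ : H₂ ≤ Subgroup.normalizer (R₂ : Set G)) :
    H₁ ⊓ H₂ ≤ Subgroup.normalizer ((R₁ ⊓ R₂ : Subgroup G) : Set G) := by
  intro y hy
  rw [Subgroup.mem_normalizer_iff]
  intro x
  rw [Subgroup.mem_inf, Subgroup.mem_inf,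
    Subgroup.mem_normalizer_iff.mp (h₁ hy.1) x, Subgroup.mem_normalizer_iff.mp (h₂ hy.2) x]

theorem mem_sup_of_le_normalizer {H K : Subgroup G} (h : H ≤ Subgroup.normalizer (K : Set G))
    {x : G} (hx : x ∈ H ⊔ K) : ∃ a ∈ H, ∃ b ∈ K, a * b = x := by
  have hHN : H ≤ Subgroup.normalizer (K : Set G) := h
  have hKN : K ≤ Subgroup.normalizer (K : Set G) := Subgroup.le_normalizer
  have hxN : x ∈ Subgroup.normalizer (K : Set G) := (sup_le hHN hKN) hx
  have hn : (K.subgroupOf (Subgroup.normalizer (K : Set G))).Normal :=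
    Subgroup.normal_subgroupOf_of_le_normalizer le_rfl
  have hx' : (⟨x, hxN⟩ : ↥(Subgroup.normalizer (K : Set G))) ∈
      H.subgroupOf (Subgroup.normalizer (K : Set G)) ⊔
        K.subgroupOf (Subgroup.normalizer (K : Set G)) := by
    rw [← Subgroup.subgroupOf_sup hHN hKN, Subgroup.mem_subgroupOf]
    exact hx
  rw [Subgroup.mem_sup_of_normal_right] at hx'
  obtain ⟨a, ha, b, hb, hab⟩ := hx'
  refine ⟨a, ha, b, hb, ?_⟩
  have := congrArg Subtype.val hab
  simpa using this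

theorem le_pCoreOf_of_relSN {p : ℕ} {T M : Subgroup G} (hT : RelSN T M) (hp : IsPGroup p ↥T) :
    T ≤ pCoreOf p M := by
  have h1 : T.subgroupOf M ≤ pCore p ↥M :=
    Cfsg.Agent.Lib.Helper47.le_pCore_of_isSubnormal_of_isPGroup hT.isSubnormal_subgroupOf
      hp.comap_subtype
  have h2 := Subgroup.map_mono (f := M.subtype) h1
  rwa [Subgroup.map_subgroupOf_eq_of_le hT.le] at h2

/-! ### The configuration -/

/-- The Thompson–Wielandt configuration. -/
structure Arc (M N : Subgroup G) (g : G) (A₁ B₁ X Y : Subgroup G) : Prop where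
  coatomM : IsCoatom M
  coreM : M.normalCore = ⊥
  conj : N = MulAut.conj g • M
  ne : M ≠ N
  hA₁ : A₁ = coreIn M (M ⊓ N)
  hB₁ : B₁ = coreIn N (M ⊓ N)
  hX : X = coreIn M (A₁ ⊓ B₁)
  hY : Y = coreIn N (A₁ ⊓ B₁)
  X_ne : X ≠ ⊥
  Y_ne : Y ≠ ⊥

namespace Arc

variable {M N : Subgroup G} {g : G} {A₁ B₁ X Y : Subgroup G}

theorem coatomN (h : Arc M N g A₁ B₁ X Y) : IsCoatom N := by
  rw [h.conj]; exact isCoatom_conj_smul h.coatomM g

theorem coreN (h : Arc M N g A₁ B₁ X Y) : N.normalCore = ⊥ := by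
  rw [h.conj, normalCore_conj_smul]; exact h.coreM

theorem symm (h : Arc M N g A₁ B₁ X Y) : Arc N M g⁻¹ B₁ A₁ Y X where
  coatomM := h.coatomN
  coreM := h.coreN
  conj := by rw [h.conj, smul_smul, ← map_mul, inv_mul_cancel, map_one, one_smul]
  ne := h.ne.symm
  hA₁ := by rw [inf_comm]; exact h.hB₁
  hB₁ := by rw [inf_comm]; exact h.hA₁
  hX := by rw [inf_comm]; exact h.hY
  hY := by rw [inf_comm]; exact h.hX
  X_ne := h.Y_ne
  Y_ne := h.X_ne

theorem A₁_le_M (h : Arc M N g A₁ B₁ X Y) : A₁ ≤ M := h.hA₁ ▸ coreIn_le_left _ _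
theorem A₁_le_inf (h : Arc M N g A₁ B₁ X Y) : A₁ ≤ M ⊓ N := h.hA₁ ▸ coreIn_le_right _ _
theorem A₁_le_N (h : Arc M N g A₁ B₁ X Y) : A₁ ≤ N := h.A₁_le_inf.trans inf_le_right
theorem M_le_normalizer_A₁ (h : Arc M N g A₁ B₁ X Y) :
    M ≤ Subgroup.normalizer (A₁ : Set G) := h.hA₁ ▸ le_normalizer_coreIn _ _
theorem B₁_le_N (h : Arc M N g A₁ B₁ X Y) : B₁ ≤ N := h.symm.A₁_le_M
theorem B₁_le_M (h : Arc M N g A₁ B₁ X Y) : B₁ ≤ M := h.symm.A₁_le_N
theorem B₁_le_inf (h : Arc M N g A₁ B₁ X Y) : B₁ ≤ M ⊓ N := le_inf h.B₁_le_M h.B₁_le_N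
theorem N_le_normalizer_B₁ (h : Arc M N g A₁ B₁ X Y) :
    N ≤ Subgroup.normalizer (B₁ : Set G) := h.symm.M_le_normalizer_A₁
theorem X_le_inf (h : Arc M N g A₁ B₁ X Y) : X ≤ A₁ ⊓ B₁ := h.hX ▸ coreIn_le_right _ _
theorem X_le_A₁ (h : Arc M N g A₁ B₁ X Y) : X ≤ A₁ := h.X_le_inf.trans inf_le_left
theorem X_le_B₁ (h : Arc M N g A₁ B₁ X Y) : X ≤ B₁ := h.X_le_inf.trans inf_le_right
theorem X_le_M (h : Arc M N g A₁ B₁ X Y) : X ≤ M := h.X_le_A₁.trans h.A₁_le_M
theorem X_le_N (h : Arc M N g A₁ B₁ X Y) : X ≤ N := h.X_le_A₁.trans h.A₁_le_N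
theorem M_le_normalizer_X (h : Arc M N g A₁ B₁ X Y) :
    M ≤ Subgroup.normalizer (X : Set G) := h.hX ▸ le_normalizer_coreIn _ _
theorem Y_le_A₁ (h : Arc M N g A₁ B₁ X Y) : Y ≤ A₁ := h.symm.X_le_B₁
theorem Y_le_B₁ (h : Arc M N g A₁ B₁ X Y) : Y ≤ B₁ := h.symm.X_le_A₁
theorem Y_le_M (h : Arc M N g A₁ B₁ X Y) : Y ≤ M := h.symm.X_le_N
theorem Y_le_N (h : Arc M N g A₁ B₁ X Y) : Y ≤ N := h.symm.X_le_M
theorem N_le_normalizer_Y (h : Arc M N g A₁ B₁ X Y) :
    N ≤ Subgroup.normalizer (Y : Set G) := h.symm.M_le_normalizer_X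

theorem relSN_A₁ (h : Arc M N g A₁ B₁ X Y) : RelSN A₁ M :=
  RelSN.of_normal h.A₁_le_M h.M_le_normalizer_A₁

theorem relSN_B₁ (h : Arc M N g A₁ B₁ X Y) : RelSN B₁ N := h.symm.relSN_A₁

/-- `Y ⊴ A₁ ⊴ M`. -/
theorem relSN_Y (h : Arc M N g A₁ B₁ X Y) : RelSN Y M :=
  (RelSN.of_normal h.Y_le_A₁ (h.A₁_le_N.trans h.N_le_normalizer_Y)).trans h.relSN_A₁

/-- `X ⊴ B₁ ⊴ N`. -/
theorem relSN_X (h : Arc M N g A₁ B₁ X Y) : RelSN X N := h.symm.relSN_Y

theorem normalizer_eq_M (h : Arc M N g A₁ B₁ X Y) {R : Subgroup G} (hR : R ≠ ⊥) (hRM : R ≤ M)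
    (hMR : M ≤ Subgroup.normalizer (R : Set G)) : Subgroup.normalizer (R : Set G) = M :=
  normalizer_eq_of_isCoatom h.coatomM h.coreM hR hRM hMR

theorem normalizer_eq_N (h : Arc M N g A₁ B₁ X Y) {R : Subgroup G} (hR : R ≠ ⊥) (hRN : R ≤ N)
    (hNR : N ≤ Subgroup.normalizer (R : Set G)) : Subgroup.normalizer (R : Set G) = N :=
  h.symm.normalizer_eq_M hR hRN hNR

theorem g_not_mem (h : Arc M N g A₁ B₁ X Y) : g ∉ M := fun hg =>
  h.ne (by rw [h.conj, Subgroup.conj_smul_eq_self_of_mem hg])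

/-! ### Lemma E: no components -/

/-- Every component of `M` is a component of `N`. -/
theorem compIn_N_of_compIn_M [Finite G] (h : Arc M N g A₁ B₁ X Y) {L : Subgroup G}
    (hL : CompIn L M) : CompIn L N := by
  -- (a) `L ≤ N`
  have hLN : L ≤ N := by
    have := hL.le_normalizer h.relSN_Y
    rwa [h.normalizer_eq_N h.Y_ne h.Y_le_N h.N_le_normalizer_Y] at this
  have hLMN : CompIn L (M ⊓ N) := hL.restrict (le_inf hL.le hLN) inf_le_left
  -- (c) `L ≤ n • M` for all `n ∈ N`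
  have hc : ∀ n ∈ N, L ≤ MulAut.conj n • M := by
    intro n hn
    have hXsn : RelSN (MulAut.conj n • X) (M ⊓ N) := by
      have h1 : RelSN (MulAut.conj n • X) N := by
        have := h.relSN_X.smul n
        rwa [Subgroup.conj_smul_eq_self_of_mem hn] at this
      refine h1.restrict ?_ inf_le_right
      have h2 : MulAut.conj n • X ≤ MulAut.conj n • B₁ :=
        Subgroup.pointwise_smul_le_pointwise_smul_iff.mpr h.X_le_B₁
      rw [conj_smul_eq_of_mem_normalizer (h.N_le_normalizer_B₁ hn)] at h2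
      exact h2.trans h.B₁_le_inf
    have h3 := hLMN.le_normalizer hXsn
    have h4 : Subgroup.normalizer ((MulAut.conj n • X : Subgroup G) : Set G) = MulAut.conj n • M := by
      apply normalizer_eq_of_isCoatom (isCoatom_conj_smul h.coatomM n)
        (by rw [normalCore_conj_smul]; exact h.coreM)
      · intro h0
        apply h.X_ne
        have := congrArg (fun K => MulAut.conj n⁻¹ • K) h0
        simpa [smul_smul] using this
      · exact Subgroup.pointwise_smul_le_pointwise_smul_iff.mpr h.X_le_M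
      · exact smul_le_normalizer_smul h.M_le_normalizer_X n
    rwa [h4] at h3
  -- (d) `L ≤ B₁`
  have hLB : L ≤ B₁ := by
    rw [h.hB₁]
    apply le_coreIn hLN
    intro n hn x hx
    refine ⟨?_, N.mul_mem (N.mul_mem hn (hLN hx)) (N.inv_mem hn)⟩
    have := hc n⁻¹ (N.inv_mem hn) hx
    rw [mem_conj_smul] at this
    simpa using this
  -- (e)
  exact ⟨(hL.1.restrict hLB h.B₁_le_M).trans h.relSN_B₁, hL.2⟩

/-- **Lemma E**: `M` has no components. -/
theorem not_compIn_M [Finite G] (h : Arc M N g A₁ B₁ X Y) {L : Subgroup G} (hL : CompIn L M) :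
    False := by
  set E : Subgroup G := sSup {L : Subgroup G | CompIn L M} with hE
  have hEM : E ≤ M := sSup_le fun L hL => hL.le
  have hE0 : E ≠ ⊥ := by
    intro h0
    apply hL.ne_bot
    rw [eq_bot_iff, ← h0]
    exact le_sSup hL
  have hME : M ≤ Subgroup.normalizer (E : Set G) := by
    intro m hm
    apply Cfsg.Agent.Lib.Helper72.mem_normalizer_of_conj_smul_le
    apply smul_sSup_le
    intro L hL
    have := CompIn.smul hL m
    rwa [Subgroup.conj_smul_eq_self_of_mem hm] at this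
  have hgE : g⁻¹ ∈ Subgroup.normalizer (E : Set G) := by
    apply Cfsg.Agent.Lib.Helper72.mem_normalizer_of_conj_smul_le
    apply smul_sSup_le
    intro L hL
    have h1 := (h.compIn_N_of_compIn_M hL).smul g⁻¹
    rwa [← h.symm.conj] at h1
  rw [h.normalizer_eq_M hE0 hEM hME] at hgE
  exact h.g_not_mem (by simpa using M.inv_mem hgE)

theorem not_compIn_N [Finite G] (h : Arc M N g A₁ B₁ X Y) {L : Subgroup G} (hL : CompIn L N) :
    False := h.symm.not_compIn_M hL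

/-! ### Lemma Z -/

end Arc

/-- **Lemma Z0.** `N'` core-free maximal, `Y' ⊴ N'` not a `p`-group and subnormal in `M`; then every
`p`-subgroup `T ≤ M` normalized by `Y'` lies in `N'`. -/
theorem le_of_not_isPGroup [Finite G] {p : ℕ} [Fact p.Prime] {N' Y' M T : Subgroup G}
    (hN' : IsCoatom N') (hc : N'.normalCore = ⊥) (hYN : Y' ≤ N')
    (hNY : N' ≤ Subgroup.normalizer (Y' : Set G)) (hY : ¬ IsPGroup p ↥Y') (hsn : RelSN Y' M)
    (hT : T ≤ M) (hTp : IsPGroup p ↥T) (hYT : Y' ≤ Subgroup.normalizer (T : Set G)) : T ≤ N' := by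
  have h1 := le_normalizer_opOf_of_relSN hsn hT hTp hYT
  have h2 : Cfsg.Agent.Lib.Helper47.opOf p Y' ≠ ⊥ := fun h0 => hY (isPGroup_of_opOf_eq_bot h0)
  have h3 : Subgroup.normalizer ((Cfsg.Agent.Lib.Helper47.opOf p Y' : Subgroup G) : Set G) = N' :=
    normalizer_eq_of_isCoatom hN' hc h2 ((Cfsg.Agent.Lib.Helper47.opOf_le p Y').trans hYN)
      (hNY.trans (Cfsg.Agent.Lib.Helper47.normalizer_le_normalizer_opOf p Y'))
  rwa [h3] at h1

namespace Arc

variable {M N : Subgroup G} {g : G} {A₁ B₁ X Y : Subgroup G}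

/-- Step 0 of Lemma Z. -/
theorem le_smul_N_of_not_isPGroup [Finite G] (h : Arc M N g A₁ B₁ X Y) {p : ℕ} [Fact p.Prime]
    (hY : ¬ IsPGroup p ↥Y) {T : Subgroup G} (hT : T ≤ M) (hTp : IsPGroup p ↥T)
    (hAT : A₁ ≤ Subgroup.normalizer (T : Set G)) : T ≤ A₁ := by
  have key : ∀ m ∈ M, T ≤ MulAut.conj m • N := by
    intro m hm
    have hYA : MulAut.conj m • Y ≤ A₁ := by
      have h2 : MulAut.conj m • Y ≤ MulAut.conj m • A₁ :=
        Subgroup.pointwise_smul_le_pointwise_smul_iff.mpr h.Y_le_A₁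
      rwa [conj_smul_eq_of_mem_normalizer (h.M_le_normalizer_A₁ hm)] at h2
    apply le_of_not_isPGroup (p := p) (Y' := MulAut.conj m • Y) (M := M)
      (isCoatom_conj_smul h.coatomN m) (by rw [normalCore_conj_smul]; exact h.coreN)
      (Subgroup.pointwise_smul_le_pointwise_smul_iff.mpr h.Y_le_N)
      (smul_le_normalizer_smul h.N_le_normalizer_Y m)
    · intro hp
      exact hY (hp.of_equiv (Subgroup.equivSMul (MulAut.conj m) Y).symm)
    · have := h.relSN_Y.smul m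
      rwa [Subgroup.conj_smul_eq_self_of_mem hm] at this
    · exact hT
    · exact hTp
    · exact hYA.trans hAT
  rw [h.hA₁]
  apply le_coreIn hT
  intro m hm x hx
  refine ⟨M.mul_mem (M.mul_mem hm (hT hx)) (M.inv_mem hm), ?_⟩
  have := key m⁻¹ (M.inv_mem hm) hx
  rw [mem_conj_smul] at this
  simpa using this

theorem smul_pCoreOf_le (h : Arc M N g A₁ B₁ X Y) (p : ℕ) :
    MulAut.conj g • pCoreOf p M ≤ pCoreOf p N := by
  apply Cfsg.Agent.Lib.Helper47.le_pCoreOf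
  · rw [h.conj]
    exact Subgroup.pointwise_smul_le_pointwise_smul_iff.mpr (Cfsg.Agent.Lib.Helper47.pCoreOf_le p M)
  · rw [h.conj]
    exact smul_le_normalizer_smul
      (Subgroup.le_normalizer.trans (Cfsg.Agent.Lib.Helper47.normalizer_le_normalizer_pCoreOf p M)) g
  · exact (Cfsg.Agent.Lib.Helper47.pCoreOf_isPGroup p M).map _

/-- **Lemma Z**: if `Y` is not a `p`-group then `O_p(M) = 1`. -/
theorem pCoreOf_M_eq_bot [Finite G] (h : Arc M N g A₁ B₁ X Y) {p : ℕ} [Fact p.Prime]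
    (hY : ¬ IsPGroup p ↥Y) : pCoreOf p M = ⊥ := by
  by_contra hQ0
  have hQM : pCoreOf p M ≤ M := Cfsg.Agent.Lib.Helper47.pCoreOf_le p M
  have hQp : IsPGroup p ↥(pCoreOf p M) := Cfsg.Agent.Lib.Helper47.pCoreOf_isPGroup p M
  have hMQ : M ≤ Subgroup.normalizer ((pCoreOf p M : Subgroup G) : Set G) :=
    Subgroup.le_normalizer.trans (Cfsg.Agent.Lib.Helper47.normalizer_le_normalizer_pCoreOf p M)
  have hNQ' : N ≤ Subgroup.normalizer ((pCoreOf p N : Subgroup G) : Set G) :=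
    Subgroup.le_normalizer.trans (Cfsg.Agent.Lib.Helper47.normalizer_le_normalizer_pCoreOf p N)
  have hTle : pCoreOf p (M ⊓ N) ≤ M ⊓ N := Cfsg.Agent.Lib.Helper47.pCoreOf_le p (M ⊓ N)
  have hTp : IsPGroup p ↥(pCoreOf p (M ⊓ N)) := Cfsg.Agent.Lib.Helper47.pCoreOf_isPGroup p (M ⊓ N)
  have hMNT : M ⊓ N ≤ Subgroup.normalizer ((pCoreOf p (M ⊓ N) : Subgroup G) : Set G) :=
    Subgroup.le_normalizer.trans
      (Cfsg.Agent.Lib.Helper47.normalizer_le_normalizer_pCoreOf p (M ⊓ N))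
  -- Step 1: `T ≤ A₁`, hence `T ≤ Q`
  have hTA : pCoreOf p (M ⊓ N) ≤ A₁ :=
    h.le_smul_N_of_not_isPGroup hY (hTle.trans inf_le_left) hTp (h.A₁_le_inf.trans hMNT)
  have hTQ : pCoreOf p (M ⊓ N) ≤ pCoreOf p M :=
    le_pCoreOf_of_relSN ((RelSN.of_normal hTA (h.A₁_le_inf.trans hMNT)).trans h.relSN_A₁) hTp
  -- Step 2: `Q ≤ A₁`
  have hQA : pCoreOf p M ≤ A₁ :=
    h.le_smul_N_of_not_isPGroup hY hQM hQp (h.A₁_le_M.trans hMQ)
  -- Step 3: `Q ≤ T`
  have hQT : pCoreOf p M ≤ pCoreOf p (M ⊓ N) :=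
    Cfsg.Agent.Lib.Helper47.le_pCoreOf (hQA.trans h.A₁_le_inf) (inf_le_left.trans hMQ) hQp
  -- Step 4: `Q' ⊓ M ≤ Q`
  have hQ'M : pCoreOf p N ⊓ M ≤ pCoreOf p M := by
    refine le_trans ?_ hTQ
    apply Cfsg.Agent.Lib.Helper47.le_pCoreOf
    · exact le_inf inf_le_right (inf_le_left.trans (Cfsg.Agent.Lib.Helper47.pCoreOf_le p N))
    · rw [inf_comm M N]
      exact inf_le_normalizer_inf hNQ' Subgroup.le_normalizer
    · exact (Cfsg.Agent.Lib.Helper47.pCoreOf_isPGroup p N).to_le inf_le_left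
  -- Steps 6, 7
  have hQnQ' : pCoreOf p M ≤ Subgroup.normalizer ((pCoreOf p N : Subgroup G) : Set G) :=
    (hQA.trans h.A₁_le_N).trans hNQ'
  have hPp : IsPGroup p ↥(pCoreOf p M ⊔ pCoreOf p N) :=
    IsPGroup.to_sup_of_normal_right' hQp (Cfsg.Agent.Lib.Helper47.pCoreOf_isPGroup p N) hQnQ'
  have hNQ : Subgroup.normalizer ((pCoreOf p M : Subgroup G) : Set G) = M :=
    h.normalizer_eq_M hQ0 hQM hMQ
  have hQ'Q : pCoreOf p N ≤ pCoreOf p M := by
    by_contra hnot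
    have hlt : (pCoreOf p M).subgroupOf (pCoreOf p M ⊔ pCoreOf p N) < ⊤ := by
      rw [lt_top_iff_ne_top, Ne, Subgroup.subgroupOf_eq_top]
      intro hle
      exact hnot (le_sup_right.trans hle)
    have : Group.IsNilpotent ↥(pCoreOf p M ⊔ pCoreOf p N) := hPp.isNilpotent
    have hnc := Group.normalizerCondition_of_isNilpotent (G := ↥(pCoreOf p M ⊔ pCoreOf p N)) _ hlt
    obtain ⟨x, hxn, hxQ⟩ := SetLike.exists_of_lt hnc
    rw [← Subgroup.subgroupOf_normalizer_eq le_sup_left, Subgroup.mem_subgroupOf, hNQ] at hxn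
    apply hxQ
    rw [Subgroup.mem_subgroupOf]
    obtain ⟨a, ha, b, hb, hab⟩ := mem_sup_of_le_normalizer hQnQ' x.2
    have hbM : b ∈ M := by
      have : b = a⁻¹ * (x : G) := by rw [← hab]; group
      rw [this]
      exact M.mul_mem (M.inv_mem (hQM ha)) hxn
    rw [← hab]
    exact Subgroup.mul_mem _ ha (hQ'M ⟨hb, hbM⟩)
  have hgQ : g ∈ Subgroup.normalizer ((pCoreOf p M : Subgroup G) : Set G) :=
    Cfsg.Agent.Lib.Helper72.mem_normalizer_of_conj_smul_le ((h.smul_pCoreOf_le p).trans hQ'Q)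
  rw [hNQ] at hgQ
  exact h.g_not_mem hgQ

/-- Mirror of Lemma Z: if `X` is not a `p`-group then `O_p(N) = 1`. -/
theorem pCoreOf_N_eq_bot [Finite G] (h : Arc M N g A₁ B₁ X Y) {p : ℕ} [Fact p.Prime]
    (hX : ¬ IsPGroup p ↥X) : pCoreOf p N = ⊥ := h.symm.pCoreOf_M_eq_bot hX

theorem pCoreOf_N_ne_bot (h : Arc M N g A₁ B₁ X Y) {p : ℕ} (hp : pCoreOf p M ≠ ⊥) :
    pCoreOf p N ≠ ⊥ := by
  intro h0
  apply hp
  have h1 := h.smul_pCoreOf_le p
  rw [h0, le_bot_iff] at h1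
  have := congrArg (fun K => MulAut.conj g⁻¹ • K) h1
  simpa [smul_smul] using this

theorem isPGroup_of_pCoreOf_M_ne_bot [Finite G] (h : Arc M N g A₁ B₁ X Y) {p : ℕ} [Fact p.Prime]
    (hp : pCoreOf p M ≠ ⊥) : IsPGroup p ↥X ∧ IsPGroup p ↥Y := by
  constructor
  · by_contra hX
    exact h.pCoreOf_N_ne_bot hp (h.pCoreOf_N_eq_bot hX)
  · by_contra hY
    exact hp (h.pCoreOf_M_eq_bot hY)

theorem isPGroup_of_pCoreOf_N_ne_bot [Finite G] (h : Arc M N g A₁ B₁ X Y) {p : ℕ} [Fact p.Prime]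
    (hp : pCoreOf p N ≠ ⊥) : IsPGroup p ↥X ∧ IsPGroup p ↥Y :=
  (h.symm.isPGroup_of_pCoreOf_M_ne_bot hp).symm

/-! ### The conclusion -/

end Arc

/-- A finite group without components, whose `O_r` is trivial for all primes `r ≠ p`, has
`F* = O_p`. -/
theorem generalizedFittingSubgroup_eq_pCore {H : Type*} [Group H] [Finite H] {p : ℕ}
    (hp : p.Prime) (hcomp : ∀ K : Subgroup H, ¬ IsComponent K)
    (hr : ∀ r : ℕ, r.Prime → r ≠ p → pCore r H = ⊥) :
    generalizedFittingSubgroup H = pCore p H := by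
  have h1 : layer H = ⊥ := by
    unfold layer
    rw [eq_bot_iff]
    apply sSup_le
    intro K hK
    exact absurd hK (hcomp K)
  have h2 : fittingSubgroup H = pCore p H := by
    rw [Cfsg.Agent.Lib.Helper1.fittingSubgroup_eq_iSup_pCore]
    apply le_antisymm
    · apply iSup_le
      intro r
      by_cases hrp : (r : ℕ) = p
      · rw [hrp]
      · rw [hr r r.2 hrp]; exact bot_le
    · exact le_iSup_of_le ⟨p, hp⟩ le_rfl
  unfold generalizedFittingSubgroup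
  rw [h1, h2, bot_sup_eq]

theorem pCore_eq_bot_of_pCoreOf_eq_bot {p : ℕ} {M : Subgroup G} (h : pCoreOf p M = ⊥) :
    pCore p ↥M = ⊥ := by
  unfold pCoreOf at h
  exact (Subgroup.map_eq_bot_iff_of_injective _ M.subtype_injective).mp h

/-- A non-trivial finite group without components has a non-trivial `O_p` for some prime `p`. -/
theorem exists_pCore_ne_bot {H : Type*} [Group H] [Finite H] [Nontrivial H]
    (hcomp : ∀ K : Subgroup H, ¬ IsComponent K) : ∃ p : ℕ, p.Prime ∧ pCore p H ≠ ⊥ := by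
  by_contra hno
  have hr : ∀ r : ℕ, r.Prime → r ≠ 2 → pCore r H = ⊥ := by
    intro r hr _
    by_contra h0
    exact hno ⟨r, hr, h0⟩
  have h2 : pCore 2 H = ⊥ := by
    by_contra h0
    exact hno ⟨2, Nat.prime_two, h0⟩
  have hF := generalizedFittingSubgroup_eq_pCore Nat.prime_two hcomp hr
  rw [h2] at hF
  have hc := Cfsg.Agent.Lib.Helper22.centralizer_generalizedFittingSubgroup_le (G := H)
  rw [hF] at hc
  have htop : (⊤ : Subgroup H) ≤ ⊥ := by
    refine le_trans ?_ hc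
    intro x _
    rw [Subgroup.mem_centralizer_iff]
    intro y hy
    rw [SetLike.mem_coe, Subgroup.mem_bot] at hy
    rw [hy]; simp
  obtain ⟨x, hx⟩ := exists_ne (1 : H)
  exact hx (Subgroup.mem_bot.mp (htop (Subgroup.mem_top x)))

namespace Arc

variable {M N : Subgroup G} {g : G} {A₁ B₁ X Y : Subgroup G}

theorem not_isComponent_M [Finite G] (h : Arc M N g A₁ B₁ X Y) (K : Subgroup ↥M) :
    ¬ IsComponent K := fun hK => h.not_compIn_M (compIn_of_isComponent hK)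

theorem not_isComponent_A₁ [Finite G] (h : Arc M N g A₁ B₁ X Y) (K : Subgroup ↥A₁) :
    ¬ IsComponent K := fun hK => h.not_compIn_M ((compIn_of_isComponent hK).trans h.relSN_A₁)

/-- The Thompson–Wielandt theorem for the second cores. -/
theorem main [Finite G] (h : Arc M N g A₁ B₁ X Y) :
    ∃ p : ℕ, p.Prime ∧ IsPGroup p ↥(X ⊔ Y) ∧
      generalizedFittingSubgroup ↥M = pCore p ↥M ∧
      generalizedFittingSubgroup ↥A₁ = pCore p ↥A₁ ∧
      generalizedFittingSubgroup ↥N = pCore p ↥N ∧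
      generalizedFittingSubgroup ↥B₁ = pCore p ↥B₁ := by
  have hMnt : Nontrivial ↥M := by
    rw [Subgroup.nontrivial_iff_ne_bot]
    intro h0
    exact h.X_ne (le_bot_iff.mp (h0 ▸ h.X_le_M))
  obtain ⟨p, hp, hpM⟩ := exists_pCore_ne_bot h.not_isComponent_M
  have : Fact p.Prime := ⟨hp⟩
  have hQ : pCoreOf p M ≠ ⊥ := fun h0 => hpM (pCore_eq_bot_of_pCoreOf_eq_bot h0)
  obtain ⟨hXp, hYp⟩ := h.isPGroup_of_pCoreOf_M_ne_bot hQ
  -- uniqueness of `p`
  have huniq : ∀ r : ℕ, r.Prime → r ≠ p → ¬ IsPGroup r ↥X := by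
    intro r hr hrp hXr
    have : Fact r.Prime := ⟨hr⟩
    have := IsPGroup.disjoint_of_ne r p hrp X X hXr hXp
    exact h.X_ne (disjoint_self.mp this)
  have hMr : ∀ r : ℕ, r.Prime → r ≠ p → pCoreOf r M = ⊥ := by
    intro r hr hrp
    have : Fact r.Prime := ⟨hr⟩
    by_contra h0
    exact huniq r hr hrp (h.isPGroup_of_pCoreOf_M_ne_bot h0).1
  have hNr : ∀ r : ℕ, r.Prime → r ≠ p → pCoreOf r N = ⊥ := by
    intro r hr hrp
    have : Fact r.Prime := ⟨hr⟩
    by_contra h0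
    exact huniq r hr hrp (h.isPGroup_of_pCoreOf_N_ne_bot h0).1
  have hsub : ∀ {S H : Subgroup G}, RelSN S H → (∀ r : ℕ, r.Prime → r ≠ p → pCoreOf r H = ⊥) →
      ∀ r : ℕ, r.Prime → r ≠ p → pCore r ↥S = ⊥ := by
    intro S H hS hH r hr hrp
    apply pCore_eq_bot_of_pCoreOf_eq_bot
    rw [eq_bot_iff, ← hH r hr hrp]
    apply le_pCoreOf_of_relSN _ (Cfsg.Agent.Lib.Helper47.pCoreOf_isPGroup r S)
    refine (RelSN.of_normal (Cfsg.Agent.Lib.Helper47.pCoreOf_le r S) ?_).trans hS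
    exact Subgroup.le_normalizer.trans (Cfsg.Agent.Lib.Helper47.normalizer_le_normalizer_pCoreOf r S)
  refine ⟨p, hp, ?_, ?_, ?_, ?_, ?_⟩
  · exact IsPGroup.to_sup_of_normal_right' hXp hYp (h.X_le_N.trans h.N_le_normalizer_Y)
  · exact generalizedFittingSubgroup_eq_pCore hp h.not_isComponent_M
      (hsub (RelSN.refl M) hMr)
  · exact generalizedFittingSubgroup_eq_pCore hp h.not_isComponent_A₁ (hsub h.relSN_A₁ hMr)
  · exact generalizedFittingSubgroup_eq_pCore hp h.symm.not_isComponent_M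
      (hsub (RelSN.refl N) hNr)
  · exact generalizedFittingSubgroup_eq_pCore hp h.symm.not_isComponent_A₁
      (hsub h.relSN_B₁ hNr)

end Arc

end Cfsg.Agent.Lib.Helper60.TW
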