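import Mathlib
import Cfsg.Agent.Lib.Helper60.TWMain
import Cfsg.Agent.Lib.Helper60.TWIndex

/-!
# Wielandt's bound, ambient form (helper60)
-/

set_option autoImplicit false

namespace Cfsg.Agent.Lib.Helper60.TW

open Cfsg
open scoped Pointwise

variable {G : Type*} [Group G] [Finite G]

omit [Finite G] in
theorem card_mul_relIndex_inf (M N : Subgroup G) :
    Nat.card ↥(M ⊓ N) * (M ⊓ N).relIndex M = Nat.card ↥M := by
  have h1 := Subgroup.card_mul_index ((M ⊓ N).subgroupOf M)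
  rwa [Nat.card_congr (Subgroup.subgroupOfEquivOfLe (inf_le_left : M ⊓ N ≤ M)).toEquiv] at h1

/-- Wielandt's bound: `M` core-free maximal, `N = gMg⁻¹`, `[M : M ∩ N] = d ≥ 2`. Then `M` has a normal
`p`-subgroup `P ≤ M ∩ N` with `[M : P]` dividing `d! ((d-1)!)^d`. -/
theorem wielandt_bound (M N : Subgroup G) (g : G) (hmax : IsCoatom M) (hcore : M.normalCore = ⊥)
    (hconj : N = MulAut.conj g • M) (d : ℕ) (h2 : 2 ≤ d) (hdM : (M ⊓ N).relIndex M = d) :
    ∃ p : ℕ, p.Prime ∧ ∃ P : Subgroup G, P ≤ M ⊓ N ∧ M ≤ Subgroup.normalizer (P : Set G) ∧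
      IsPGroup p ↥P ∧ P.relIndex M ∣ Nat.factorial d * (Nat.factorial (d - 1)) ^ d := by
  have hne : M ≠ N := by
    intro h
    rw [← h, inf_idem, Subgroup.relIndex_self] at hdM
    omega
  have hcard : Nat.card ↥M = Nat.card ↥N := by
    rw [hconj]
    exact Nat.card_congr (Subgroup.equivSMul (MulAut.conj g) M).toEquiv
  have hdN : (M ⊓ N).relIndex N = d := by
    have h1 := card_mul_relIndex_inf M N
    have h3 := card_mul_relIndex_inf N M
    rw [inf_comm N M] at h3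
    rw [← hcard, ← h1, hdM] at h3
    exact Nat.eq_of_mul_eq_mul_left Nat.card_pos h3
  have hidxX := relIndex_coreIn_coreIn_dvd M N d hdM hdN
  have hidxY := relIndex_coreIn_coreIn_dvd N M d (by rwa [inf_comm]) (by rwa [inf_comm])
  rw [inf_comm N M, inf_comm (coreIn N (M ⊓ N))] at hidxY
  by_cases hX : coreIn M (coreIn M (M ⊓ N) ⊓ coreIn N (M ⊓ N)) = ⊥
  · refine ⟨2, Nat.prime_two, coreIn M (coreIn M (M ⊓ N) ⊓ coreIn N (M ⊓ N)), ?_, ?_, ?_, hidxX⟩
    · rw [hX]; exact bot_le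
    · exact le_normalizer_coreIn _ _
    · rw [hX]; exact IsPGroup.of_bot
  by_cases hY : coreIn N (coreIn M (M ⊓ N) ⊓ coreIn N (M ⊓ N)) = ⊥
  · refine ⟨2, Nat.prime_two, ⊥, bot_le, ?_, IsPGroup.of_bot, ?_⟩
    · intro m _
      rw [Subgroup.mem_normalizer_iff]
      intro x
      simp [Subgroup.mem_bot]
    · rw [hY] at hidxY
      rw [Subgroup.relIndex_bot_left] at hidxY ⊢
      rwa [hcard]
  · have harc : Arc M N g (coreIn M (M ⊓ N)) (coreIn N (M ⊓ N))
        (coreIn M (coreIn M (M ⊓ N) ⊓ coreIn N (M ⊓ N)))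
        (coreIn N (coreIn M (M ⊓ N) ⊓ coreIn N (M ⊓ N))) :=
      { coatomM := hmax
        coreM := hcore
        conj := hconj
        ne := hne
        hA₁ := rfl
        hB₁ := rfl
        hX := rfl
        hY := rfl
        X_ne := hX
        Y_ne := hY }
    obtain ⟨p, hp, hpXY, -⟩ := harc.main
    refine ⟨p, hp, coreIn M (coreIn M (M ⊓ N) ⊓ coreIn N (M ⊓ N)), ?_, ?_, ?_, hidxX⟩
    · exact harc.X_le_A₁.trans harc.A₁_le_inf
    · exact le_normalizer_coreIn _ _
    · exact hpXY.to_le le_sup_left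

end Cfsg.Agent.Lib.Helper60.TW
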