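import Mathlib
import Cfsg.Agent.Lib.Helper60.TWWielandt

/-!
# Knapp-type corollaries of the Thompson–Wielandt engine (helper60)

* `pCoreOf_inf_eq_bot_of_le_coreIn` : if `O_p(M ∩ N) ≤ core_M(M ∩ N)` then `O_p(M ∩ N) = 1`;
* `card_dvd_of_not_strongly_constrained` : `|M|` divides `d! ((d-1)!)^d` unless `F*(M) = O_p(M)`;
* `knapp` : if every `O_p(M ∩ N)` lies in `core_M(M ∩ N)` then `F(M ∩ N) = 1` and `|M|` divides
  `d! ((d-1)!)^d`.
-/

set_option autoImplicit false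

namespace Cfsg.Agent.Lib.Helper60.TW

open Cfsg
open Cfsg.Agent.Lib.Helper72 (RelSN)
open scoped Pointwise

variable {G : Type*} [Group G] [Finite G]

omit [Finite G] in
theorem smul_pCoreOf_le' (M : Subgroup G) (g : G) (p : ℕ) :
    MulAut.conj g • pCoreOf p M ≤ pCoreOf p (MulAut.conj g • M) := by
  apply Cfsg.Agent.Lib.Helper47.le_pCoreOf
  · exact Subgroup.pointwise_smul_le_pointwise_smul_iff.mpr (Cfsg.Agent.Lib.Helper47.pCoreOf_le p M)
  · exact smul_le_normalizer_smul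
      (Subgroup.le_normalizer.trans (Cfsg.Agent.Lib.Helper47.normalizer_le_normalizer_pCoreOf p M)) g
  · exact (Cfsg.Agent.Lib.Helper47.pCoreOf_isPGroup p M).map _

/-- Normalizer condition: if `T` is self-normalizing in the `p`-group `T Q'` then `Q' ≤ T`. -/
theorem le_of_sup_inf_normalizer_le {p : ℕ} [Fact p.Prime] {T Q' : Subgroup G}
    (hT : IsPGroup p ↥T) (hQ' : IsPGroup p ↥Q')
    (hTQ' : T ≤ Subgroup.normalizer (Q' : Set G))
    (hself : (T ⊔ Q') ⊓ Subgroup.normalizer (T : Set G) ≤ T) : Q' ≤ T := by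
  have hPp : IsPGroup p ↥(T ⊔ Q') := IsPGroup.to_sup_of_normal_right' hT hQ' hTQ'
  by_contra hnot
  have hlt : T.subgroupOf (T ⊔ Q') < ⊤ := by
    rw [lt_top_iff_ne_top, Ne, Subgroup.subgroupOf_eq_top]
    intro hle
    exact hnot (le_sup_right.trans hle)
  have : Group.IsNilpotent ↥(T ⊔ Q') := hPp.isNilpotent
  have hnc := Group.normalizerCondition_of_isNilpotent (G := ↥(T ⊔ Q')) _ hlt
  obtain ⟨x, hxn, hxT⟩ := SetLike.exists_of_lt hnc
  rw [← Subgroup.subgroupOf_normalizer_eq le_sup_left, Subgroup.mem_subgroupOf] at hxn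
  apply hxT
  rw [Subgroup.mem_subgroupOf]
  exact hself ⟨x.2, hxn⟩

/-- **Lemma K.** If `O_p(M ∩ N)` lies in `core_M(M ∩ N)` then it is trivial. -/
theorem pCoreOf_inf_eq_bot_of_le_coreIn {p : ℕ} [Fact p.Prime] (M N : Subgroup G) (g : G)
    (hmax : IsCoatom M) (hcore : M.normalCore = ⊥) (hconj : N = MulAut.conj g • M) (hne : M ≠ N)
    (hT : pCoreOf p (M ⊓ N) ≤ coreIn M (M ⊓ N)) : pCoreOf p (M ⊓ N) = ⊥ := by
  by_contra hT0
  have hA₁MN : coreIn M (M ⊓ N) ≤ M ⊓ N := coreIn_le_right _ _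
  have hMA₁ : M ≤ Subgroup.normalizer ((coreIn M (M ⊓ N) : Subgroup G) : Set G) :=
    le_normalizer_coreIn _ _
  have hTp : IsPGroup p ↥(pCoreOf p (M ⊓ N)) := Cfsg.Agent.Lib.Helper47.pCoreOf_isPGroup p (M ⊓ N)
  have hTle : pCoreOf p (M ⊓ N) ≤ M ⊓ N := Cfsg.Agent.Lib.Helper47.pCoreOf_le p (M ⊓ N)
  have hMNT : M ⊓ N ≤ Subgroup.normalizer ((pCoreOf p (M ⊓ N) : Subgroup G) : Set G) :=
    Subgroup.le_normalizer.trans
      (Cfsg.Agent.Lib.Helper47.normalizer_le_normalizer_pCoreOf p (M ⊓ N))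
  have hNQ' : N ≤ Subgroup.normalizer ((pCoreOf p N : Subgroup G) : Set G) :=
    Subgroup.le_normalizer.trans (Cfsg.Agent.Lib.Helper47.normalizer_le_normalizer_pCoreOf p N)
  have hMQ : M ≤ Subgroup.normalizer ((pCoreOf p M : Subgroup G) : Set G) :=
    Subgroup.le_normalizer.trans (Cfsg.Agent.Lib.Helper47.normalizer_le_normalizer_pCoreOf p M)
  -- (1) `T = O_p(A₁)` is normal in `M`
  have h1 : pCoreOf p (M ⊓ N) = pCoreOf p (coreIn M (M ⊓ N)) := by
    apply le_antisymm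
    · exact Cfsg.Agent.Lib.Helper47.le_pCoreOf hT (hA₁MN.trans hMNT) hTp
    · apply Cfsg.Agent.Lib.Helper47.le_pCoreOf
        ((Cfsg.Agent.Lib.Helper47.pCoreOf_le p _).trans hA₁MN)
      · exact (inf_le_left.trans hMA₁).trans
          (Cfsg.Agent.Lib.Helper47.normalizer_le_normalizer_pCoreOf p _)
      · exact Cfsg.Agent.Lib.Helper47.pCoreOf_isPGroup p _
  have hMT : M ≤ Subgroup.normalizer ((pCoreOf p (M ⊓ N) : Subgroup G) : Set G) := by
    rw [h1]
    exact hMA₁.trans (Cfsg.Agent.Lib.Helper47.normalizer_le_normalizer_pCoreOf p _)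
  -- (2)
  have hNT : Subgroup.normalizer ((pCoreOf p (M ⊓ N) : Subgroup G) : Set G) = M :=
    normalizer_eq_of_isCoatom hmax hcore hT0 (hTle.trans inf_le_left) hMT
  -- (3)
  have hQ'M : pCoreOf p N ⊓ M ≤ pCoreOf p (M ⊓ N) := by
    apply Cfsg.Agent.Lib.Helper47.le_pCoreOf
    · exact le_inf inf_le_right (inf_le_left.trans (Cfsg.Agent.Lib.Helper47.pCoreOf_le p N))
    · rw [inf_comm M N]
      exact inf_le_normalizer_inf hNQ' Subgroup.le_normalizer
    · exact (Cfsg.Agent.Lib.Helper47.pCoreOf_isPGroup p N).to_le inf_le_left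
  -- (4), (5)
  have hTnQ' : pCoreOf p (M ⊓ N) ≤ Subgroup.normalizer ((pCoreOf p N : Subgroup G) : Set G) :=
    (hTle.trans inf_le_right).trans hNQ'
  have hQ'T : pCoreOf p N ≤ pCoreOf p (M ⊓ N) := by
    apply le_of_sup_inf_normalizer_le hTp (Cfsg.Agent.Lib.Helper47.pCoreOf_isPGroup p N) hTnQ'
    rw [hNT]
    rintro x ⟨hxP, hxM⟩
    obtain ⟨a, ha, b, hb, hab⟩ := mem_sup_of_le_normalizer hTnQ' hxP
    have hbM : b ∈ M := by
      have : b = a⁻¹ * x := by rw [← hab]; group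
      rw [this]
      exact M.mul_mem (M.inv_mem ((hTle.trans inf_le_left) ha)) hxM
    rw [← hab]
    exact Subgroup.mul_mem _ ha (hQ'M ⟨hb, hbM⟩)
  -- (6)
  have hTQ : pCoreOf p (M ⊓ N) ≤ pCoreOf p M :=
    Cfsg.Agent.Lib.Helper47.le_pCoreOf (hTle.trans inf_le_left) hMT hTp
  -- (7)
  have hgQ : MulAut.conj g • pCoreOf p M ≤ pCoreOf p M := by
    have := smul_pCoreOf_le' M g p
    rw [← hconj] at this
    exact (this.trans hQ'T).trans hTQ
  have hQ0 : pCoreOf p M ≠ ⊥ := fun h0 => hT0 (le_bot_iff.mp (h0 ▸ hTQ))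
  have hNQ : Subgroup.normalizer ((pCoreOf p M : Subgroup G) : Set G) = M :=
    normalizer_eq_of_isCoatom hmax hcore hQ0 (Cfsg.Agent.Lib.Helper47.pCoreOf_le p M) hMQ
  have hgM : g ∈ M := by
    rw [← hNQ]
    exact Cfsg.Agent.Lib.Helper72.mem_normalizer_of_conj_smul_le hgQ
  exact hne (by rw [hconj, Subgroup.conj_smul_eq_self_of_mem hgM])

/-- Either one of the second cores is trivial, or we are in the Thompson–Wielandt configuration. -/
theorem card_dvd_of_core_eq_bot (M N : Subgroup G) (g : G)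
    (hconj : N = MulAut.conj g • M) (d : ℕ) (hdM : (M ⊓ N).relIndex M = d)
    (h : coreIn M (coreIn M (M ⊓ N) ⊓ coreIn N (M ⊓ N)) = ⊥ ∨
      coreIn N (coreIn M (M ⊓ N) ⊓ coreIn N (M ⊓ N)) = ⊥) :
    Nat.card ↥M ∣ Nat.factorial d * (Nat.factorial (d - 1)) ^ d := by
  have hcard : Nat.card ↥M = Nat.card ↥N := by
    rw [hconj]
    exact Nat.card_congr (Subgroup.equivSMul (MulAut.conj g) M).toEquiv
  have hdN : (M ⊓ N).relIndex N = d := by
    have h1 := card_mul_relIndex_inf M N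
    have h3 := card_mul_relIndex_inf N M
    rw [inf_comm N M] at h3
    rw [← hcard, ← h1, hdM] at h3
    exact Nat.eq_of_mul_eq_mul_left Nat.card_pos h3
  have hidxX := relIndex_coreIn_coreIn_dvd M N d hdM hdN
  have hidxY := relIndex_coreIn_coreIn_dvd N M d (by rwa [inf_comm]) (by rwa [inf_comm])
  rw [inf_comm N M, inf_comm (coreIn N (M ⊓ N))] at hidxY
  rcases h with hX | hY
  · rw [hX, Subgroup.relIndex_bot_left] at hidxX
    exact hidxX
  · rw [hY, Subgroup.relIndex_bot_left] at hidxY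
    rwa [hcard]

omit [Finite G] in
theorem ne_of_two_le_relIndex {M N : Subgroup G} {d : ℕ} (h2 : 2 ≤ d)
    (hdM : (M ⊓ N).relIndex M = d) : M ≠ N := by
  intro h
  rw [← h, inf_idem, Subgroup.relIndex_self] at hdM
  omega

/-- `|M|` divides `d! ((d-1)!)^d` unless `F*(M) = O_p(M)` for some prime `p`. -/
theorem card_dvd_of_not_strongly_constrained (M N : Subgroup G) (g : G) (hmax : IsCoatom M)
    (hcore : M.normalCore = ⊥) (hconj : N = MulAut.conj g • M) (d : ℕ) (h2 : 2 ≤ d)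
    (hdM : (M ⊓ N).relIndex M = d)
    (hnc : ∀ p : ℕ, p.Prime → generalizedFittingSubgroup ↥M ≠ pCore p ↥M) :
    Nat.card ↥M ∣ Nat.factorial d * (Nat.factorial (d - 1)) ^ d := by
  apply card_dvd_of_core_eq_bot M N g hconj d hdM
  by_contra hno
  rw [not_or] at hno
  have harc : Arc M N g (coreIn M (M ⊓ N)) (coreIn N (M ⊓ N))
      (coreIn M (coreIn M (M ⊓ N) ⊓ coreIn N (M ⊓ N)))
      (coreIn N (coreIn M (M ⊓ N) ⊓ coreIn N (M ⊓ N))) :=
    { coatomM := hmax
      coreM := hcore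
      conj := hconj
      ne := ne_of_two_le_relIndex h2 hdM
      hA₁ := rfl
      hB₁ := rfl
      hX := rfl
      hY := rfl
      X_ne := hno.1
      Y_ne := hno.2 }
  obtain ⟨p, hp, -, hM, -⟩ := harc.main
  exact hnc p hp hM

/-- **Knapp.** If every `O_p(M ∩ N)` acts trivially on the suborbit, then `F(M ∩ N) = 1` and `|M|`
divides `d! ((d-1)!)^d`. -/
theorem knapp (M N : Subgroup G) (g : G) (hmax : IsCoatom M)
    (hcore : M.normalCore = ⊥) (hconj : N = MulAut.conj g • M) (d : ℕ) (h2 : 2 ≤ d)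
    (hdM : (M ⊓ N).relIndex M = d)
    (hT : ∀ p : ℕ, p.Prime → pCoreOf p (M ⊓ N) ≤ coreIn M (M ⊓ N)) :
    fittingSubgroup ↥(M ⊓ N) = ⊥ ∧
      Nat.card ↥M ∣ Nat.factorial d * (Nat.factorial (d - 1)) ^ d := by
  have hne : M ≠ N := ne_of_two_le_relIndex h2 hdM
  have hO : ∀ p : ℕ, p.Prime → pCoreOf p (M ⊓ N) = ⊥ := by
    intro p hp
    have : Fact p.Prime := ⟨hp⟩
    exact pCoreOf_inf_eq_bot_of_le_coreIn M N g hmax hcore hconj hne (hT p hp)
  refine ⟨?_, ?_⟩
  · rw [Cfsg.Agent.Lib.Helper1.fittingSubgroup_eq_iSup_pCore, eq_bot_iff]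
    apply iSup_le
    intro r
    rw [pCore_eq_bot_of_pCoreOf_eq_bot (hO r r.2)]
  · apply card_dvd_of_core_eq_bot M N g hconj d hdM
    by_contra hno
    rw [not_or] at hno
    have harc : Arc M N g (coreIn M (M ⊓ N)) (coreIn N (M ⊓ N))
        (coreIn M (coreIn M (M ⊓ N) ⊓ coreIn N (M ⊓ N)))
        (coreIn N (coreIn M (M ⊓ N) ⊓ coreIn N (M ⊓ N))) :=
      { coatomM := hmax
        coreM := hcore
        conj := hconj
        ne := hne
        hA₁ := rfl
        hB₁ := rfl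
        hX := rfl
        hY := rfl
        X_ne := hno.1
        Y_ne := hno.2 }
    obtain ⟨p, hp, -, -, hA, -⟩ := harc.main
    -- `O_p(A₁) ≤ O_p(M ∩ N) = 1`
    have h1 : pCoreOf p (coreIn M (M ⊓ N)) ≤ pCoreOf p (M ⊓ N) := by
      apply Cfsg.Agent.Lib.Helper47.le_pCoreOf
        ((Cfsg.Agent.Lib.Helper47.pCoreOf_le p _).trans harc.A₁_le_inf)
      · exact (inf_le_left.trans harc.M_le_normalizer_A₁).trans
          (Cfsg.Agent.Lib.Helper47.normalizer_le_normalizer_pCoreOf p _)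
      · exact Cfsg.Agent.Lib.Helper47.pCoreOf_isPGroup p _
    rw [hO p hp, le_bot_iff] at h1
    have h2' : pCore p ↥(coreIn M (M ⊓ N)) = ⊥ := pCore_eq_bot_of_pCoreOf_eq_bot h1
    rw [h2'] at hA
    -- a non-trivial group has non-trivial `F*`
    have hc := Cfsg.Agent.Lib.Helper22.centralizer_generalizedFittingSubgroup_le
      (G := ↥(coreIn M (M ⊓ N)))
    rw [hA] at hc
    have hA₁bot : coreIn M (M ⊓ N) = ⊥ := by
      rw [eq_bot_iff]
      intro x hx
      have hx' : (⟨x, hx⟩ : ↥(coreIn M (M ⊓ N))) ∈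
          Subgroup.centralizer ((⊥ : Subgroup ↥(coreIn M (M ⊓ N))) : Set ↥(coreIn M (M ⊓ N))) := by
        rw [Subgroup.mem_centralizer_iff]
        intro y hy
        rw [SetLike.mem_coe, Subgroup.mem_bot] at hy
        rw [hy]; simp
      have := hc hx'
      rw [Subgroup.mem_bot] at this
      rw [Subgroup.mem_bot]
      exact congrArg Subtype.val this
    exact hno.1 (le_bot_iff.mp (hA₁bot ▸ harc.X_le_A₁))

end Cfsg.Agent.Lib.Helper60.TW
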