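import Mathlib
import Cfsg.Agent.Lib.Helper60.TWKnapp

/-!
# From primitive actions to the ambient Thompson–Wielandt configuration (helper60)
-/

set_option autoImplicit false

namespace Cfsg.Agent.Lib.Helper60.TW

open Cfsg
open scoped Pointwise

variable {G Ω : Type*} [Group G] [Finite G] [MulAction G Ω] [FaithfulSMul G Ω]

omit [Finite G] in
/-- A faithful primitive action with a suborbit of length `d ≥ 2` gives a core-free maximal
subgroup `M = G_a`, a conjugate `N = G_b` and `[M : M ∩ N] = d`. -/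
theorem action_setup (hprim : MulAction.IsPreprimitive G Ω) (a b : Ω) (d : ℕ)
    (hd : Nat.card (MulAction.orbit (MulAction.stabilizer G a) b) = d) (h2 : 2 ≤ d) :
    ∃ g : G, MulAction.stabilizer G b = MulAut.conj g • MulAction.stabilizer G a ∧
      IsCoatom (MulAction.stabilizer G a) ∧ (MulAction.stabilizer G a).normalCore = ⊥ ∧
      (MulAction.stabilizer G a ⊓ MulAction.stabilizer G b).relIndex (MulAction.stabilizer G a) = d := by
  classical
  have hpre : MulAction.IsPretransitive G Ω := hprim.toIsPretransitive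
  obtain ⟨g, hg⟩ := MulAction.exists_smul_eq G a b
  have hconj : MulAction.stabilizer G b = MulAut.conj g • MulAction.stabilizer G a := by
    rw [← hg, MulAction.stabilizer_smul_eq_stabilizer_map_conj]
    rfl
  have hstab : MulAction.stabilizer ↥(MulAction.stabilizer G a) b =
      (MulAction.stabilizer G b).subgroupOf (MulAction.stabilizer G a) := by
    ext x
    rw [MulAction.mem_stabilizer_iff, Subgroup.mem_subgroupOf, MulAction.mem_stabilizer_iff]
    rfl
  have hdM : (MulAction.stabilizer G a ⊓ MulAction.stabilizer G b).relIndex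
      (MulAction.stabilizer G a) = d := by
    rw [inf_comm, Subgroup.inf_relIndex_right]
    unfold Subgroup.relIndex
    rw [← hstab, MulAction.index_stabilizer, ← hd, Nat.card_coe_set_eq]
  have hab : a ≠ b := by
    intro h
    rw [← h, inf_idem, Subgroup.relIndex_self] at hdM
    omega
  have hnt : Nontrivial Ω := ⟨⟨a, b, hab⟩⟩
  have hmax : IsCoatom (MulAction.stabilizer G a) :=
    (MulAction.isCoatom_stabilizer_iff_preprimitive G a).mpr hprim
  have hcore : (MulAction.stabilizer G a).normalCore = ⊥ := by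
    rw [eq_bot_iff]
    intro x hx
    rw [Subgroup.mem_bot]
    apply FaithfulSMul.eq_of_smul_eq_smul (α := Ω)
    intro c
    obtain ⟨h, rfl⟩ := MulAction.exists_smul_eq G a c
    have h1 : h⁻¹ * x * h⁻¹⁻¹ ∈ MulAction.stabilizer G a := hx h⁻¹
    rw [MulAction.mem_stabilizer_iff] at h1
    rw [one_smul]
    have h2 : h • ((h⁻¹ * x * h⁻¹⁻¹) • a) = h • a := by rw [h1]
    simpa [mul_smul] using h2
  exact ⟨g, hconj, hmax, hcore, hdM⟩

omit [FaithfulSMul G Ω] [Finite G] in
/-- If the group induced on the suborbit by the two-point stabilizer has trivial Fitting subgroup,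
then every `O_p(G_ab)` acts trivially on the suborbit. -/
theorem pCoreOf_le_coreIn_of_fitting_eq_bot [Finite Ω] (a b : Ω)
    (hF : fittingSubgroup ↥(((MulAction.stabilizer G b).subgroupOf (MulAction.stabilizer G a)).map
      (MulAction.toPermHom (MulAction.stabilizer G a)
        (MulAction.orbit (MulAction.stabilizer G a) b))) = ⊥)
    (p : ℕ) [Fact p.Prime] :
    pCoreOf p (MulAction.stabilizer G a ⊓ MulAction.stabilizer G b) ≤
      coreIn (MulAction.stabilizer G a) (MulAction.stabilizer G a ⊓ MulAction.stabilizer G b) := by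
  classical
  set M := MulAction.stabilizer G a with hM
  set N := MulAction.stabilizer G b with hN
  set φ := MulAction.toPermHom ↥M ↥(MulAction.orbit ↥M b) with hφ
  set T := pCoreOf p (M ⊓ N) with hT
  have hTle : T ≤ M ⊓ N := Cfsg.Agent.Lib.Helper47.pCoreOf_le p (M ⊓ N)
  have hTp : IsPGroup p ↥T := Cfsg.Agent.Lib.Helper47.pCoreOf_isPGroup p (M ⊓ N)
  have hMNT : M ⊓ N ≤ Subgroup.normalizer (T : Set G) :=
    Subgroup.le_normalizer.trans
      (Cfsg.Agent.Lib.Helper47.normalizer_le_normalizer_pCoreOf p (M ⊓ N))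
  -- the image `J` of `T` in the induced group `I`
  set I := (N.subgroupOf M).map φ with hI
  set J := (T.subgroupOf M).map φ with hJ
  have hJI : J ≤ I := by
    apply Subgroup.map_mono
    intro x hx
    rw [Subgroup.mem_subgroupOf] at hx ⊢
    exact (hTle hx).2
  have hJn : (J.subgroupOf I).Normal := by
    apply Subgroup.normal_subgroupOf_of_le_normalizer
    rintro _ ⟨s, hs, rfl⟩
    rw [Subgroup.mem_normalizer_iff]
    have key : ∀ s : ↥M, (s : G) ∈ N → ∀ y ∈ J, φ s * y * (φ s)⁻¹ ∈ J := by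
      rintro s hs _ ⟨t, ht, rfl⟩
      refine ⟨s * t * s⁻¹, ?_, by simp⟩
      rw [SetLike.mem_coe, Subgroup.mem_subgroupOf] at ht ⊢
      have hsMN : (s : G) ∈ M ⊓ N := ⟨s.2, hs⟩
      have := (Subgroup.mem_normalizer_iff.mp (hMNT hsMN) (t : G)).mp ht
      simpa using this
    intro y
    constructor
    · exact key s (Subgroup.mem_subgroupOf.mp hs) y
    · intro h
      have hs' : ((s⁻¹ : ↥M) : G) ∈ N := by
        have := N.inv_mem (Subgroup.mem_subgroupOf.mp hs)
        simpa using this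
      have := key s⁻¹ hs' _ h
      simpa [mul_assoc] using this
  have hJp : IsPGroup p ↥(J.subgroupOf I) :=
    ((hTp.comap_subtype (K := M)).map φ).comap_subtype
  have hJnil : Group.IsNilpotent ↥(J.subgroupOf I) := hJp.isNilpotent
  have hJbot : J.subgroupOf I ≤ ⊥ := by
    rw [← hF]
    exact Cfsg.Agent.Lib.Helper1.le_fittingSubgroup hJn hJnil
  have hJ1 : ∀ t : ↥M, (t : G) ∈ T → φ t = 1 := by
    intro t ht
    have h1 : φ t ∈ J := ⟨t, Subgroup.mem_subgroupOf.mpr ht, rfl⟩
    have h2 : (⟨φ t, hJI h1⟩ : ↥I) ∈ J.subgroupOf I := Subgroup.mem_subgroupOf.mpr h1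
    have h3 := hJbot h2
    rw [Subgroup.mem_bot] at h3
    exact congrArg Subtype.val h3
  -- conclusion
  intro x hx
  rw [mem_coreIn]
  have hxM : x ∈ M := (hTle hx).1
  refine ⟨hxM, fun m hm => ⟨M.mul_mem (M.mul_mem hm hxM) (M.inv_mem hm), ?_⟩⟩
  have h1 := hJ1 ⟨x, hxM⟩ hx
  have hc : m⁻¹ • b ∈ MulAction.orbit ↥M b := ⟨⟨m⁻¹, M.inv_mem hm⟩, rfl⟩
  have h2 : φ ⟨x, hxM⟩ ⟨m⁻¹ • b, hc⟩ = ⟨m⁻¹ • b, hc⟩ := by rw [h1]; rfl
  have h3 : x • (m⁻¹ • b) = m⁻¹ • b := congrArg Subtype.val h2
  show m * x * m⁻¹ ∈ MulAction.stabilizer G b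
  rw [MulAction.mem_stabilizer_iff, mul_smul, mul_smul, h3, smul_inv_smul]

end Cfsg.Agent.Lib.Helper60.TW
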