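import Mathlib
import Cfsg.Agent.Lib.Helper12.ZassDefs

namespace Cfsg.Agent.Lib.Helper60.ZassAT2Tail
open Cfsg.Agent.Lib.Helper12.Zass
open scoped Pointwise

section general
variable {G : Type*} [Group G]

/-- index-2 extension of a subgroup `H` by an element `u` normalising it with `u*u ∈ H`. -/
def ext2 (H : Subgroup G) (u : G) (hn : ∀ c ∈ H, u * c * u⁻¹ ∈ H) (hu2 : u * u ∈ H) :
    Subgroup G where
  carrier := {g | g ∈ H ∨ g * u ∈ H}
  one_mem' := Or.inl H.one_mem
  mul_mem' := by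
    have hn' : ∀ c ∈ H, u⁻¹ * c * u ∈ H := by
      intro c hc
      have h1 : (u * u)⁻¹ * (u * c * u⁻¹) * (u * u) ∈ H :=
        H.mul_mem (H.mul_mem (H.inv_mem hu2) (hn c hc)) hu2
      have h2 : (u * u)⁻¹ * (u * c * u⁻¹) * (u * u) = u⁻¹ * c * u := by group
      rwa [h2] at h1
    rintro g k (hg | hg) (hk | hk)
    · exact Or.inl (H.mul_mem hg hk)
    · right
      have : g * k * u = g * (k * u) := by group
      rw [this]; exact H.mul_mem hg hk
    · right
      have : g * k * u = (g * u) * (u⁻¹ * k * u) := by group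
      rw [this]; exact H.mul_mem hg (hn' k hk)
    · left
      have : g * k = (g * u) * (u⁻¹ * (k * u) * u) * (u * u)⁻¹ := by group
      rw [this]; exact H.mul_mem (H.mul_mem hg (hn' _ hk)) (H.inv_mem hu2)
  inv_mem' := by
    rintro g (hg | hg)
    · exact Or.inl (H.inv_mem hg)
    · right
      have : g⁻¹ * u = (u * (g * u)⁻¹ * u⁻¹) * (u * u) := by group
      rw [this]; exact H.mul_mem (hn _ (H.inv_mem hg)) hu2

theorem mem_ext2 {H : Subgroup G} {u : G} {hn : ∀ c ∈ H, u * c * u⁻¹ ∈ H} {hu2 : u * u ∈ H}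
    {g : G} : g ∈ ext2 H u hn hu2 ↔ g ∈ H ∨ g * u ∈ H := Iff.rfl

theorem le_ext2 {H : Subgroup G} {u : G} (hn : ∀ c ∈ H, u * c * u⁻¹ ∈ H) (hu2 : u * u ∈ H) :
    H ≤ ext2 H u hn hu2 := fun _ hg => Or.inl hg

theorem self_mem_ext2 {H : Subgroup G} {u : G} (hn : ∀ c ∈ H, u * c * u⁻¹ ∈ H)
    (hu2 : u * u ∈ H) : u ∈ ext2 H u hn hu2 := by
  have : u⁻¹ ∈ ext2 H u hn hu2 := Or.inr (by simp)
  simpa using (ext2 H u hn hu2).inv_mem this

theorem card_ext2 [Finite G] {H : Subgroup G} {u : G} (hn : ∀ c ∈ H, u * c * u⁻¹ ∈ H)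
    (hu2 : u * u ∈ H) (hu : u ∉ H) : Nat.card (ext2 H u hn hu2) = 2 * Nat.card H := by
  set K := ext2 H u hn hu2 with hK
  have hle : H ≤ K := le_ext2 hn hu2
  have hidx : (H.subgroupOf K).index = 2 := by
    rw [Subgroup.index_eq_two_iff]
    refine ⟨⟨u, self_mem_ext2 hn hu2⟩, ?_⟩
    rintro ⟨b, hb⟩
    simp only [Subgroup.mem_subgroupOf, Subgroup.coe_mul]
    rcases hb with hb | hb
    · refine Or.inr ⟨hb, ?_⟩
      intro hbu
      apply hu
      have : u = b⁻¹ * (b * u) := by group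
      rw [this]; exact H.mul_mem (H.inv_mem hb) hbu
    · refine Or.inl ⟨hb, ?_⟩
      intro hb'
      apply hu
      have : u = b⁻¹ * (b * u) := by group
      rw [this]; exact H.mul_mem (H.inv_mem hb') hb
  have h1 := Subgroup.card_mul_index (H.subgroupOf K)
  rw [hidx] at h1
  have h2 : Nat.card (H.subgroupOf K) = Nat.card H :=
    Nat.card_congr (Subgroup.subgroupOfEquivOfLe hle).toEquiv
  rw [← h1, h2, mul_comm]

end general


section general2
variable {G : Type*} [Group G]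

/-- conjugation by `a` as an automorphism of an `a`-invariant subgroup -/
def conjAut (C : Subgroup G) (a : G) (h1 : ∀ c ∈ C, a * c * a⁻¹ ∈ C)
    (h2 : ∀ c ∈ C, a⁻¹ * c * a ∈ C) : MulAut C where
  toFun c := ⟨a * c * a⁻¹, h1 c c.2⟩
  invFun c := ⟨a⁻¹ * c * a, h2 c c.2⟩
  left_inv c := by ext; simp [mul_assoc]
  right_inv c := by ext; simp [mul_assoc]
  map_mul' c d := by ext; simp [mul_assoc]

theorem conjAut_pow (C : Subgroup G) (a : G) (h1 : ∀ c ∈ C, a * c * a⁻¹ ∈ C)
    (h2 : ∀ c ∈ C, a⁻¹ * c * a ∈ C) (n : ℕ) (c : C) :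
    (((conjAut C a h1 h2) ^ n) c : G) = a ^ n * c * (a ^ n)⁻¹ := by
  induction n generalizing c with
  | zero => simp
  | succ n ih =>
    rw [pow_succ, MulAut.mul_apply, ih]
    simp only [conjAut, MulEquiv.coe_mk, Equiv.coe_fn_mk]
    rw [pow_succ]; group

/-- a `2`-element normalising `C` fixes a Sylow `p`-subgroup of `C` when their number is odd -/
theorem exists_invariant_sylow [Finite G] (p : ℕ) [Fact p.Prime] (C : Subgroup G) (a : G)
    (h1 : ∀ c ∈ C, a * c * a⁻¹ ∈ C) (n : ℕ) (ha : a ^ 2 ^ n = 1)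
    (hodd : ¬ 2 ∣ Nat.card (Sylow p C)) :
    ∃ P : Subgroup G, P ≤ C ∧ IsPGroup p P ∧
      Nat.card P = p ^ (Nat.card C).factorization p ∧ ∀ c ∈ P, a * c * a⁻¹ ∈ P := by
  have h2 : ∀ c ∈ C, a⁻¹ * c * a ∈ C := by
    intro c hc
    -- a⁻¹ = a^(2^n - 1)
    have hpow : ∀ m : ℕ, a ^ m * c * (a ^ m)⁻¹ ∈ C := by
      intro m
      induction m with
      | zero => simpa using hc
      | succ m ih =>
        have := h1 _ ih
        have e : a * (a ^ m * c * (a ^ m)⁻¹) * a⁻¹ = a ^ (m + 1) * c * (a ^ (m + 1))⁻¹ := by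
          rw [pow_succ']; group
        rwa [e] at this
    have hinv : a⁻¹ = a ^ (2 ^ n - 1) := by
      have h2n : 0 < 2 ^ n := by positivity
      have : a ^ (2 ^ n - 1) * a = 1 := by
        rw [← pow_succ, Nat.sub_add_cancel h2n, ha]
      exact (eq_inv_of_mul_eq_one_left this).symm
    have := hpow (2 ^ n - 1)
    rw [← hinv] at this
    simpa using this
  set ψ : MulAut C := conjAut C a h1 h2 with hψ
  have hψpow : ψ ^ 2 ^ n = 1 := by
    ext c
    rw [conjAut_pow, ha]
    simp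
  have hP2 : IsPGroup 2 (Subgroup.zpowers ψ) := by
    rintro ⟨g, hg⟩
    obtain ⟨k, rfl⟩ := Subgroup.mem_zpowers_iff.mp hg
    refine ⟨n, ?_⟩
    ext1
    simp only [Subgroup.coe_pow, Subgroup.coe_one]
    rw [← zpow_natCast, ← zpow_mul, mul_comm, zpow_mul, zpow_natCast, hψpow, one_zpow]
  obtain ⟨P, hP⟩ := hP2.nonempty_fixed_point_of_prime_not_dvd_card (Sylow p C) hodd
  have hfix : ψ • P = P := by
    have := hP ⟨ψ, Subgroup.mem_zpowers ψ⟩
    simpa using this
  refine ⟨(P : Subgroup C).map C.subtype, ?_, ?_, ?_, ?_⟩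
  · exact Subgroup.map_subtype_le _
  · exact P.isPGroup'.map _
  · rw [← P.card_eq_multiplicity]
    exact Nat.card_congr ((P : Subgroup C).equivMapOfInjective C.subtype
      C.subtype_injective).symm.toEquiv
  · rintro c ⟨c', hc', rfl⟩
    refine ⟨ψ c', ?_, rfl⟩
    have hmem : ψ • c' ∈ ψ • (P : Subgroup C) := Subgroup.smul_mem_pointwise_smul _ _ _ hc'
    have : ψ • (P : Subgroup C) = ((ψ • P : Sylow p C) : Subgroup C) := rfl
    rw [this, hfix] at hmem
    exact hmem

/-- a nontrivial finite `p`-subgroup contains a central element of order `p` -/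
theorem exists_central_prime_order [Finite G] (p : ℕ) [Fact p.Prime] (P : Subgroup G)
    (hP : IsPGroup p P) (hne : Nat.card P ≠ 1) :
    ∃ w ∈ P, orderOf w = p ∧ ∀ c ∈ P, w * c = c * w := by
  have hnt : Nontrivial P := by
    rw [← Finite.one_lt_card_iff_nontrivial]
    have : 0 < Nat.card P := Nat.card_pos
    omega
  have hcnt : Nontrivial (Subgroup.center P) := hP.center_nontrivial
  have hcp : IsPGroup p (Subgroup.center P) := hP.to_subgroup _
  have hdvd : p ∣ Nat.card (Subgroup.center P) := by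
    rcases hcp.card_eq_or_dvd with h | h
    · exfalso
      have := (Finite.one_lt_card_iff_nontrivial (α := Subgroup.center P)).mpr hcnt
      omega
    · exact h
  obtain ⟨x, hx⟩ := exists_prime_orderOf_dvd_card' p hdvd
  refine ⟨((x : P) : G), (x : P).2, ?_, ?_⟩
  · rw [Subgroup.orderOf_coe, Subgroup.orderOf_coe, hx]
  · intro c hc
    have := Subgroup.mem_center_iff.mp x.2 ⟨c, hc⟩
    have := congrArg Subtype.val this
    simpa using this.symm

/-- in a cyclic group, an element of order 3 lies in the subgroup generated by any other -/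
theorem mem_zpowers_of_isCyclic_of_order_three {A : Type*} [Group A] [Finite A] [IsCyclic A]
    (s t : A) (hs : orderOf s = 3) (ht : orderOf t = 3) : t = s ∨ t = s⁻¹ := by
  classical
  have := Fintype.ofFinite A
  have hle := IsCyclic.card_pow_eq_one_le (α := A) (n := 3) (by norm_num)
  have hs3 : s ^ 3 = 1 := by rw [← hs]; exact pow_orderOf_eq_one s
  have ht3 : t ^ 3 = 1 := by rw [← ht]; exact pow_orderOf_eq_one t
  have hs1 : s ≠ 1 := by
    intro h; rw [h, orderOf_one] at hs; omega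
  have ht1 : t ≠ 1 := by
    intro h; rw [h, orderOf_one] at ht; omega
  have hss : s ≠ s⁻¹ := by
    intro h
    have : s ^ 2 = 1 := by rw [pow_two]; nth_rewrite 2 [h]; simp
    have h3 : s = 1 := by
      have : s ^ 3 = s := by rw [pow_succ, this, one_mul]
      rw [hs3] at this; exact this.symm
    exact hs1 h3
  by_contra hcon
  rw [not_or] at hcon
  have hsub : ({1, s, s⁻¹, t} : Finset A) ⊆ Finset.univ.filter (fun a : A => a ^ 3 = 1) := by
    intro x hx
    simp only [Finset.mem_insert, Finset.mem_singleton] at hx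
    simp only [Finset.mem_filter, Finset.mem_univ, true_and]
    rcases hx with rfl | rfl | rfl | rfl
    · simp
    · exact hs3
    · simp [hs3]
    · exact ht3
  have hcard : ({1, s, s⁻¹, t} : Finset A).card = 4 := by
    rw [Finset.card_insert_of_notMem, Finset.card_insert_of_notMem,
      Finset.card_insert_of_notMem, Finset.card_singleton]
    · simp only [Finset.mem_singleton]; exact fun h => hcon.2 h.symm
    · simp only [Finset.mem_insert, Finset.mem_singleton]
      rintro (h | h)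
      · exact hss h
      · exact hcon.1 h.symm
    · simp only [Finset.mem_insert, Finset.mem_singleton]
      rintro (h | h | h)
      · exact hs1 h.symm
      · exact hs1 (inv_eq_one.mp h.symm)
      · exact ht1 h.symm
  have := Finset.card_le_card hsub
  omega

end general2


section q8
variable {G : Type*} [Group G]

/-- quaternion relations for `i`, `u` with central involution `z` -/
structure Q8rel (i u z : G) : Prop where
  zc : ∀ g : G, g * z = z * g
  z2 : z * z = 1
  z1 : z ≠ 1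
  ii : i * i = z
  uu : u * u = z
  iu : i * u * i⁻¹ = u⁻¹

namespace Q8rel
variable {i u z : G} (hq : Q8rel i u z)
include hq

theorem zinv : z⁻¹ = z := inv_eq_of_mul_eq_one_right hq.z2

theorem uinv : u⁻¹ = u * z := by
  apply inv_eq_of_mul_eq_one_right
  rw [← mul_assoc, hq.uu, hq.z2]

theorem iinv : i⁻¹ = i * z := by
  apply inv_eq_of_mul_eq_one_right
  rw [← mul_assoc, hq.ii, hq.z2]

/-- `i u = u i z` -/
theorem iu' : i * u = u * i * z := by
  have h := hq.iu
  have h1 : i * u = u⁻¹ * i := by rw [← h]; group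
  rw [h1, hq.uinv, mul_assoc, ← hq.zc i, ← mul_assoc]

theorem ui : u * i * u⁻¹ = i⁻¹ := by
  -- u i = i u z  (from i u = u i z)
  have h1 : u * i = i * u * z := by
    rw [hq.iu', mul_assoc (u * i), hq.z2, mul_one]
  rw [h1, hq.iinv, mul_assoc (i * u), ← hq.zc u⁻¹, ← mul_assoc, mul_assoc i u,
    mul_inv_cancel, mul_one]

theorem iui : i * u * i = u := by
  rw [hq.iu', mul_assoc (u * i), ← hq.zc i, ← mul_assoc, mul_assoc u i, hq.ii,
    mul_assoc, hq.z2, mul_one]

theorem uiu : u * i * u = i := by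
  have h1 : u * i = i * u * z := by
    rw [hq.iu', mul_assoc (u * i), hq.z2, mul_one]
  rw [h1, mul_assoc (i * u), ← hq.zc u, ← mul_assoc, mul_assoc i u, hq.uu,
    mul_assoc, hq.z2, mul_one]

theorem u_ne_one : u ≠ 1 := by
  intro h
  have := hq.uu
  rw [h, one_mul] at this
  exact hq.z1 this.symm

theorem not_comm : i * u ≠ u * i := by
  intro h
  have h1 := hq.iu
  rw [h, mul_assoc, mul_inv_cancel, mul_one] at h1
  -- u = u⁻¹
  have : u * u = 1 := by nth_rewrite 2 [h1]; simp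
  rw [hq.uu] at this
  exact hq.z1 this

theorem u_notMem : u ∉ Subgroup.zpowers i := by
  intro h
  obtain ⟨k, hk⟩ := Subgroup.mem_zpowers_iff.mp h
  apply hq.not_comm
  rw [← hk]
  exact ((Commute.refl i).zpow_right k).eq

theorem i_pow_four : i ^ 4 = 1 := by
  have : i ^ 4 = (i * i) * (i * i) := by
    rw [show (4:ℕ) = 2 + 2 from rfl, pow_add, pow_two]
  rw [this, hq.ii, hq.z2]

theorem orderOf_i : orderOf i = 4 := by
  have h2 : ¬ i ^ 2 ^ 1 = 1 := by
    rw [pow_one, pow_two, hq.ii]; exact hq.z1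
  have h4 : i ^ 2 ^ (1 + 1) = 1 := by
    norm_num; exact hq.i_pow_four
  have := orderOf_eq_prime_pow h2 h4
  simpa using this

theorem conj_zpowers : ∀ c ∈ Subgroup.zpowers i, u * c * u⁻¹ ∈ Subgroup.zpowers i := by
  intro c hc
  obtain ⟨k, rfl⟩ := Subgroup.mem_zpowers_iff.mp hc
  have : u * i ^ k * u⁻¹ = (u * i * u⁻¹) ^ k := by
    rw [conj_zpow]
  rw [this, hq.ui]
  exact Subgroup.zpow_mem _ (Subgroup.inv_mem _ (Subgroup.mem_zpowers i)) k

theorem uu_mem : u * u ∈ Subgroup.zpowers i := by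
  rw [hq.uu, ← hq.ii, ← pow_two]
  exact Subgroup.pow_mem _ (Subgroup.mem_zpowers i) 2

end Q8rel
end q8



section qs
variable {G : Type*} [Group G]

namespace Q8rel
variable {i u z : G} (hq : Q8rel i u z)

/-- the quaternion group generated by `i` and `u` -/
def Qs : Subgroup G := ext2 (Subgroup.zpowers i) u hq.conj_zpowers hq.uu_mem

theorem i_mem : i ∈ hq.Qs := le_ext2 _ _ (Subgroup.mem_zpowers i)

theorem u_mem : u ∈ hq.Qs := self_mem_ext2 _ _

theorem card_Qs [Finite G] : Nat.card hq.Qs = 8 := by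
  rw [Qs, card_ext2 _ _ hq.u_notMem, Nat.card_zpowers, hq.orderOf_i]

theorem conj_mem (g : G) (hi : g * i * g⁻¹ ∈ hq.Qs) (hu : g * u * g⁻¹ ∈ hq.Qs) :
    ∀ q ∈ hq.Qs, g * q * g⁻¹ ∈ hq.Qs := by
  have hpow : ∀ c ∈ Subgroup.zpowers i, g * c * g⁻¹ ∈ hq.Qs := by
    intro c hc
    obtain ⟨k, rfl⟩ := Subgroup.mem_zpowers_iff.mp hc
    rw [← conj_zpow]
    exact Subgroup.zpow_mem _ hi k
  intro q hq'
  rcases hq' with h | h
  · exact hpow q h
  · have : g * q * g⁻¹ = (g * (q * u) * g⁻¹) * (g * u * g⁻¹)⁻¹ := by group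
    rw [this]
    exact Subgroup.mul_mem _ (hpow _ h) (Subgroup.inv_mem _ hu)

theorem comm_of_comm (g : G) (hi : g * i = i * g) (hu : g * u = u * g) :
    ∀ q ∈ hq.Qs, g * q = q * g := by
  have hpow : ∀ c ∈ Subgroup.zpowers i, g * c = c * g := by
    intro c hc
    obtain ⟨k, rfl⟩ := Subgroup.mem_zpowers_iff.mp hc
    exact ((show Commute g i from hi).zpow_right k).eq
  intro q hq'
  rcases hq' with h | h
  · exact hpow q h
  · have h1 := hpow _ h
    have hu' : g * u⁻¹ = u⁻¹ * g := ((show Commute g u from hu).inv_right).eq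
    calc g * q = g * (q * u) * u⁻¹ := by group
      _ = q * u * g * u⁻¹ := by rw [h1]
      _ = q * u * (g * u⁻¹) := by group
      _ = q * u * (u⁻¹ * g) := by rw [hu']
      _ = q * g := by group

end Q8rel

/-- `g` acts as the 3-cycle `i ↦ u ↦ i*u` -/
def F (i u g : G) : Prop := g * i * g⁻¹ = u ∧ g * u * g⁻¹ = i * u
/-- `g` acts as the 3-cycle `i ↦ i*u ↦ u` -/
def F2 (i u g : G) : Prop := g * i * g⁻¹ = i * u ∧ g * u * g⁻¹ = i
/-- `g` centralises `i` and `u` -/
def F0 (i u g : G) : Prop := g * i = i * g ∧ g * u = u * g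

theorem conj_sq (g x : G) : g ^ 2 * x * (g ^ 2)⁻¹ = g * (g * x * g⁻¹) * g⁻¹ := by
  rw [pow_two]; group

theorem conj_cube (g x : G) : g ^ 3 * x * (g ^ 3)⁻¹ = g * (g ^ 2 * x * (g ^ 2)⁻¹) * g⁻¹ := by
  rw [pow_succ' g 2]; group

theorem conj_mul' (g x y : G) : g * (x * y) * g⁻¹ = (g * x * g⁻¹) * (g * y * g⁻¹) := by group

namespace Q8rel
variable {i u z : G} (hq : Q8rel i u z)
include hq

theorem F_sq {g : G} (hg : F i u g) : F2 i u (g ^ 2) := by
  constructor
  · rw [conj_sq, hg.1, hg.2]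
  · rw [conj_sq, hg.2, conj_mul', hg.1, hg.2, ← mul_assoc, hq.uiu]

theorem F_cube {g : G} (hg : F i u g) : F0 i u (g ^ 3) := by
  have h2 := hq.F_sq hg
  constructor
  · have : g ^ 3 * i * (g ^ 3)⁻¹ = i := by
      rw [conj_cube, h2.1, conj_mul', hg.1, hg.2, ← mul_assoc, hq.uiu]
    calc g ^ 3 * i = g ^ 3 * i * (g ^ 3)⁻¹ * g ^ 3 := by group
      _ = i * g ^ 3 := by rw [this]
  · have : g ^ 3 * u * (g ^ 3)⁻¹ = u := by
      rw [conj_cube, h2.2, hg.1]
    calc g ^ 3 * u = g ^ 3 * u * (g ^ 3)⁻¹ * g ^ 3 := by group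
      _ = u * g ^ 3 := by rw [this]

omit hq in
theorem F0_pow {c : G} (hc : F0 i u c) (n : ℕ) : F0 i u (c ^ n) :=
  ⟨((show Commute c i from hc.1).pow_left n).eq, ((show Commute c u from hc.2).pow_left n).eq⟩

omit hq in
theorem F0_mul_conj {c : G} {x y g : G} (hx : c * y = y * c) (hg : g * x * g⁻¹ = y) :
    (c * g) * x * (c * g)⁻¹ = y := by
  calc (c * g) * x * (c * g)⁻¹ = c * (g * x * g⁻¹) * c⁻¹ := by group
    _ = c * y * c⁻¹ := by rw [hg]
    _ = y * c * c⁻¹ := by rw [hx]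
    _ = y := by group

omit hq in
theorem F0_comm_mul {c : G} (hc : F0 i u c) : c * (i * u) = (i * u) * c := by
  rw [← mul_assoc, hc.1, mul_assoc, hc.2, ← mul_assoc]

omit hq in
theorem F0_mul_F {c g : G} (hc : F0 i u c) (hg : F i u g) : F i u (c * g) :=
  ⟨F0_mul_conj hc.2 hg.1, F0_mul_conj (F0_comm_mul hc) hg.2⟩

omit hq in
theorem F0_mul_F2 {c g : G} (hc : F0 i u c) (hg : F2 i u g) : F2 i u (c * g) :=
  ⟨F0_mul_conj (F0_comm_mul hc) hg.1, F0_mul_conj hc.1 hg.2⟩

/-- powers of a 3-cycle element with exponent prime to 3 are 3-cycles -/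
theorem F_pow {g : G} (hg : F i u g) (m : ℕ) (hm : ¬ 3 ∣ m) : F i u (g ^ m) ∨ F2 i u (g ^ m) := by
  have hc := F0_pow (hq.F_cube hg) (m / 3)
  have hm3 : m = 3 * (m / 3) + m % 3 := (Nat.div_add_mod m 3).symm
  have hr : m % 3 = 1 ∨ m % 3 = 2 := by omega
  rcases hr with hr | hr
  · left
    have : g ^ m = (g ^ 3) ^ (m / 3) * g := by
      rw [← pow_mul, ← pow_succ, ← hr, ← hm3]
    rw [this]
    exact F0_mul_F hc hg
  · right
    have : g ^ m = (g ^ 3) ^ (m / 3) * g ^ 2 := by
      rw [← pow_mul, ← pow_add, ← hr, ← hm3]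
    rw [this]
    exact F0_mul_F2 hc (hq.F_sq hg)

theorem F_moves {g : G} (hg : F i u g ∨ F2 i u g) :
    g * i * g⁻¹ ∈ hq.Qs ∧ g * u * g⁻¹ ∈ hq.Qs ∧ g * i * g⁻¹ ≠ i := by
  rcases hg with hg | hg
  · refine ⟨hg.1 ▸ hq.u_mem, hg.2 ▸ hq.Qs.mul_mem hq.i_mem hq.u_mem, ?_⟩
    rw [hg.1]
    intro h
    exact hq.u_notMem (h ▸ Subgroup.mem_zpowers i)
  · refine ⟨hg.1 ▸ hq.Qs.mul_mem hq.i_mem hq.u_mem, hg.2 ▸ hq.i_mem, ?_⟩
    rw [hg.1]
    intro h
    exact hq.u_ne_one (mul_eq_left.mp h)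

end Q8rel
end qs

section core
variable {G : Type*} [Group G]

theorem inv_central (h : Free3 G) (z : G) (hz : orderOf z = 2) (g : G) : g * z = z * g := by
  have h2 : orderOf (g * z * g⁻¹) = 2 := by
    have hp : Fact (Nat.Prime 2) := ⟨Nat.prime_two⟩
    rw [orderOf_eq_prime_iff] at hz ⊢
    refine ⟨?_, ?_⟩
    · rw [conj_pow, hz.1]; group
    · intro h1
      apply hz.2
      have : z = g⁻¹ * (g * z * g⁻¹) * g := by group
      rw [this, h1]; group
  have := h.inv _ _ h2 hz
  calc g * z = g * z * g⁻¹ * g := by group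
    _ = z * g := by rw [this]

theorem odd_card_sylow [Finite G] (p : ℕ) [Fact p.Prime] (C : Subgroup G) (z : G) (hzC : z ∈ C)
    (hz : orderOf z = 2) (hzc : ∀ g : G, g * z = z * g) (h4 : ¬ 4 ∣ Nat.card C) :
    ¬ 2 ∣ Nat.card (Sylow p C) := by
  intro h2
  obtain ⟨P⟩ : Nonempty (Sylow p C) := inferInstance
  rw [P.card_eq_index_normalizer] at h2
  set N := Subgroup.normalizer ((P : Subgroup C) : Set C) with hN
  have hzN : (⟨z, hzC⟩ : C) ∈ N := by
    rw [hN, Subgroup.mem_normalizer_iff]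
    intro n
    have : (⟨z, hzC⟩ : C) * n * (⟨z, hzC⟩ : C)⁻¹ = n := by
      ext
      simp only [Subgroup.coe_mul, Subgroup.coe_inv]
      rw [← hzc (n : G)]; group
    rw [this]
  have ho : orderOf (⟨z, hzC⟩ : C) = 2 := by
    rw [← Subgroup.orderOf_coe]; exact hz
  have h2N : 2 ∣ Nat.card N := by
    rw [← ho]; exact Subgroup.orderOf_dvd_natCard N hzN
  apply h4
  rw [← Subgroup.card_mul_index N]
  exact Nat.mul_dvd_mul h2N h2

theorem three_dvd_of_pow {y : G} {k : ℕ} (hy : y ^ 3 ^ k = 1) (hy1 : y ≠ 1) : 3 ∣ orderOf y := by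
  have hd : orderOf y ∣ 3 ^ k := orderOf_dvd_of_pow_eq_one hy
  obtain ⟨l, _, hl⟩ := (Nat.dvd_prime_pow Nat.prime_three).mp hd
  rcases l with _ | l
  · rw [pow_zero, orderOf_eq_one_iff] at hl
    exact (hy1 hl).elim
  · rw [hl, pow_succ]; exact dvd_mul_left 3 _

theorem core [Finite G] (h : Free3 G) {i u z : G} (hq : Q8rel i u z) (hz : orderOf z = 2)
    (a a₃ : G) (n : ℕ) (han : a ^ 2 ^ n = 1)
    (hai : a * i * a⁻¹ = i) (hau : a * u * a⁻¹ = i * u)
    (h3i : a₃ * i * a₃⁻¹ = u * i) (h3u : a₃ * u * a₃⁻¹ = u) :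
    (∃ y : G, orderOf y = 3 ∧ QSub y hq.Qs) ∨
    (∃ w : G, orderOf w = 3 ∧ w * i = i * w ∧ w * u = u * w ∧
      (a * w * a⁻¹ = w ∨ a * w * a⁻¹ = w⁻¹)) := by
  have hp3 : Fact (Nat.Prime 3) := ⟨Nat.prime_three⟩
  have hp2 : Fact (Nat.Prime 2) := ⟨Nat.prime_two⟩
  -- the 3-cycle element
  have hF : F i u (a * a₃) := by
    constructor
    · have : a * a₃ * i * (a * a₃)⁻¹ = a * (a₃ * i * a₃⁻¹) * a⁻¹ := by group
      rw [this, h3i, conj_mul', hau, hai, hq.iui]
    · have : a * a₃ * u * (a * a₃)⁻¹ = a * (a₃ * u * a₃⁻¹) * a⁻¹ := by group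
      rw [this, h3u, hau]
  set y₁ := a * a₃ with hy₁
  have hpos : orderOf y₁ ≠ 0 := (orderOf_pos y₁).ne'
  obtain ⟨k, m, hm, hkm⟩ := Nat.exists_eq_pow_mul_and_not_dvd hpos 3 (by norm_num)
  set y := y₁ ^ m with hy
  have hy3k : y ^ 3 ^ k = 1 := by
    rw [hy, ← pow_mul, mul_comm, ← hkm, pow_orderOf_eq_one]
  have hyF := hq.F_pow hF m hm
  obtain ⟨hyi, hyu, hyne⟩ := hq.F_moves hyF
  have hy0 : F0 i u (y ^ 3) := by
    have : y ^ 3 = (y₁ ^ 3) ^ m := by rw [hy, ← pow_mul, ← pow_mul, mul_comm]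
    rw [this]
    exact Q8rel.F0_pow (hq.F_cube hF) m
  have hy1 : y ≠ 1 := by
    intro h1
    apply hyne
    rw [← hy, h1]; group
  set C := Subgroup.centralizer (hq.Qs : Set G) with hC
  have hmemC : ∀ c : G, c * i = i * c → c * u = u * c → c ∈ C := by
    intro c hci hcu
    rw [hC, Subgroup.mem_centralizer_iff]
    intro q hqq
    exact (hq.comm_of_comm c hci hcu q hqq).symm
  have hCi : ∀ c ∈ C, c * i = i * c := fun c hc =>
    ((Subgroup.mem_centralizer_iff.mp hc) i hq.i_mem).symm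
  have hCu : ∀ c ∈ C, c * u = u * c := fun c hc =>
    ((Subgroup.mem_centralizer_iff.mp hc) u hq.u_mem).symm
  by_cases h3C : 3 ∣ Nat.card C
  · right
    -- `a⁻¹` normalises `Qs`
    have hainv : ∀ q ∈ hq.Qs, a⁻¹ * q * a ∈ hq.Qs := by
      have h1 : a⁻¹ * i * a⁻¹⁻¹ = i := by
        nth_rewrite 1 [← hai]; group
      have h2 : a⁻¹ * u * a⁻¹⁻¹ = i⁻¹ * u := by
        have : a⁻¹ * u * a⁻¹⁻¹ = (a⁻¹ * i * a⁻¹⁻¹)⁻¹ * (a⁻¹ * (a * u * a⁻¹) * a⁻¹⁻¹) := by
          rw [hau]; group
        rw [this, h1]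
        congr 1
        group
      intro q hqq
      have := hq.conj_mem a⁻¹ (by rw [h1]; exact hq.i_mem)
        (by rw [h2]; exact hq.Qs.mul_mem (hq.Qs.inv_mem hq.i_mem) hq.u_mem) q hqq
      simpa using this
    have hnorm : ∀ c ∈ C, a * c * a⁻¹ ∈ C := by
      intro c hc
      rw [hC, Subgroup.mem_centralizer_iff]
      intro q hqq
      have hcq := (Subgroup.mem_centralizer_iff.mp hc) _ (hainv q hqq)
      calc q * (a * c * a⁻¹) = a * ((a⁻¹ * q * a) * c) * a⁻¹ := by group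
        _ = a * (c * (a⁻¹ * q * a)) * a⁻¹ := by rw [hcq]
        _ = a * c * a⁻¹ * q := by group
    have hzc := inv_central h z hz
    have hzC : z ∈ C := hmemC z (hzc i).symm (hzc u).symm
    -- no element of order 4 in `C`
    have hno4 : ∀ r ∈ C, r ^ 4 = 1 → r ^ 2 = 1 := by
      intro r hr hr4
      by_contra hr2
      have ho : orderOf (r ^ 2) = 2 := by
        apply orderOf_eq_prime
        · rw [← pow_mul]; exact hr4
        · exact hr2
      have hrz : r ^ 2 = z := h.inv _ _ ho hz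
      have hri : Commute r i⁻¹ := (show Commute r i from hCi r hr).inv_right
      have hs2 : (r * i⁻¹) ^ 2 = 1 := by
        rw [hri.mul_pow, hrz, inv_pow, pow_two i, hq.ii, mul_inv_cancel]
      have hru := hCu r hr
      by_cases hs1 : r * i⁻¹ = 1
      · have : r = i := by
          have := mul_inv_eq_one.mp hs1
          exact this
        rw [this] at hru
        exact hq.not_comm hru
      · have hos : orderOf (r * i⁻¹) = 2 := orderOf_eq_prime hs2 hs1
        have hsz : r * i⁻¹ = z := h.inv _ _ hos hz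
        have : r = z * i := by
          rw [← hsz]; group
        rw [this] at hru
        apply hq.not_comm
        have e1 : z * i * u = z * (i * u) := by group
        have e2 : u * (z * i) = z * (u * i) := by
          rw [← mul_assoc, hzc u, mul_assoc]
        rw [e1, e2] at hru
        exact mul_left_cancel hru
    have h4C : ¬ 4 ∣ Nat.card C := by
      intro h4
      obtain ⟨R, hR⟩ := Sylow.exists_subgroup_card_pow_prime (G := C) 2 (n := 2)
        (by norm_num; exact h4)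
      have hRel : ∀ r : R, ((r : C) : G) = 1 ∨ ((r : C) : G) = z := by
        intro r
        have hr4 : ((r : C) : G) ^ 4 = 1 := by
          have : r ^ Nat.card R = 1 := pow_card_eq_one'
          rw [hR] at this
          have := congrArg (fun x : R => ((x : C) : G)) this
          simpa using this
        have hr2 := hno4 _ (r : C).2 hr4
        by_cases hr1 : ((r : C) : G) = 1
        · exact Or.inl hr1
        · exact Or.inr (h.inv _ _ (orderOf_eq_prime hr2 hr1) hz)
      classical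
      let f : R → Bool := fun r => decide (((r : C) : G) = 1)
      have hf : Function.Injective f := by
        intro r s hrs
        simp only [f, decide_eq_decide] at hrs
        apply Subtype.ext; apply Subtype.ext
        rcases hRel r with hr | hr <;> rcases hRel s with hs | hs
        · rw [hr, hs]
        · exact absurd (hrs.mp hr) (by rw [hs]; exact hq.z1)
        · exact absurd (hrs.mpr hs) (by rw [hr]; exact hq.z1)
        · rw [hr, hs]
      have := Nat.card_le_card_of_injective f hf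
      rw [hR] at this
      simp at this
    have hodd := odd_card_sylow 3 C z hzC hz hzc h4C
    obtain ⟨P, hPC, hP3, hPcard, hPa⟩ := exists_invariant_sylow 3 C a hnorm n han hodd
    have hPne : Nat.card P ≠ 1 := by
      rw [hPcard]
      have hpos : 0 < (Nat.card C).factorization 3 := by
        have : Nat.card C ≠ 0 := Nat.card_pos.ne'
        exact (Nat.Prime.factorization_pos_of_dvd Nat.prime_three this h3C)
      intro h1
      have : 3 ^ 1 ≤ 3 ^ (Nat.card C).factorization 3 := Nat.pow_le_pow_right (by norm_num) hpos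
      omega
    obtain ⟨w, hwP, hw3, hwc⟩ := exists_central_prime_order 3 P hP3 hPne
    have hw'P := hPa w hwP
    have hw'3 : orderOf (a * w * a⁻¹) = 3 := by
      rw [orderOf_eq_prime_iff] at hw3 ⊢
      refine ⟨?_, ?_⟩
      · rw [conj_pow, hw3.1]; group
      · intro h1
        apply hw3.2
        have : w = a⁻¹ * (a * w * a⁻¹) * a := by group
        rw [this, h1]; group
    have hcomm : w * (a * w * a⁻¹) = (a * w * a⁻¹) * w := hwc _ hw'P
    set A := Subgroup.closure ({w, a * w * a⁻¹} : Set G) with hA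
    have hAcomm : ∀ x ∈ A, ∀ y ∈ A, x * y = y * x := by
      have hk : ∀ x ∈ ({w, a * w * a⁻¹} : Set G), ∀ y ∈ ({w, a * w * a⁻¹} : Set G),
          x * y = y * x := by
        intro x hx y hy
        simp only [Set.mem_insert_iff, Set.mem_singleton_iff] at hx hy
        rcases hx with rfl | rfl <;> rcases hy with rfl | rfl
        · rfl
        · exact hcomm
        · exact hcomm.symm
        · rfl
      intro x hx y hy
      have := (Subgroup.isMulCommutative_closure hk).is_comm.comm ⟨x, hx⟩ ⟨y, hy⟩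
      exact congrArg Subtype.val this
    have hAcyc : IsCyclic A := h.cyc A hAcomm
    have hwA : w ∈ A := Subgroup.subset_closure (by simp)
    have hw'A : a * w * a⁻¹ ∈ A := Subgroup.subset_closure (by simp)
    have := mem_zpowers_of_isCyclic_of_order_three (A := A) ⟨w, hwA⟩ ⟨a * w * a⁻¹, hw'A⟩
      (by rw [← Subgroup.orderOf_coe]; exact hw3) (by rw [← Subgroup.orderOf_coe]; exact hw'3)
    refine ⟨w, hw3, hCi w (hPC hwP), hCu w (hPC hwP), ?_⟩
    rcases this with h1 | h1
    · left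
      exact congrArg Subtype.val h1
    · right
      have := congrArg Subtype.val h1
      simpa using this
  · left
    refine ⟨y, ?_, hq.card_Qs, hq.conj_mem y hyi hyu, i, hq.i_mem, hyne⟩
    have hy3C : y ^ 3 ∈ C := hmemC _ hy0.1 hy0.2
    have hy3 : y ^ 3 = 1 := by
      by_contra hne
      have h3k : (y ^ 3) ^ 3 ^ k = 1 := by
        rw [← pow_mul, mul_comm, pow_mul, hy3k, one_pow]
      have := three_dvd_of_pow h3k hne
      exact h3C (this.trans (Subgroup.orderOf_dvd_natCard C hy3C))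
    exact orderOf_eq_prime hy3 hy1

end core

section final
variable {G : Type*} [Group G]

/-- a non-central element of a group of order 8 (in a group with a unique involution `z`)
squares to `z` -/
theorem sq_eq_of_noncomm [Finite G] (h : Free3 G) (Q : Subgroup G) (hQ : Nat.card Q = 8)
    (z i j : G) (hz : orderOf z = 2) (hi : i ∈ Q) (hj : j ∈ Q) (hnc : i * j ≠ j * i) :
    j * j = z := by
  have hp2 : Fact (Nat.Prime 2) := ⟨Nat.prime_two⟩
  have hzc := inv_central h z hz
  have hj8 : j ^ 8 = 1 := by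
    have : (⟨j, hj⟩ : Q) ^ Nat.card Q = 1 := pow_card_eq_one'
    rw [hQ] at this
    have := congrArg Subtype.val this
    simpa using this
  have hj4 : j ^ 4 = 1 := by
    by_contra hne
    have ho : orderOf j = 8 := by
      have := orderOf_eq_prime_pow (x := j) (p := 2) (n := 2) (by norm_num; exact hne)
        (by norm_num; exact hj8)
      simpa using this
    have hle : Subgroup.zpowers j ≤ Q := Subgroup.zpowers_le.mpr hj
    have hcard : Nat.card Q ≤ Nat.card (Subgroup.zpowers j) := by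
      rw [Nat.card_zpowers, ho, hQ]
    have heq : Subgroup.zpowers j = Q := Subgroup.eq_of_le_of_card_ge hle hcard
    have hiz : i ∈ Subgroup.zpowers j := heq ▸ hi
    obtain ⟨k, hk⟩ := Subgroup.mem_zpowers_iff.mp hiz
    apply hnc
    rw [← hk]
    exact ((Commute.refl j).zpow_left k).eq
  have hj2 : j ^ 2 ≠ 1 := by
    intro h2
    by_cases hj1 : j = 1
    · apply hnc; rw [hj1]; group
    · have hoj : orderOf j = 2 := orderOf_eq_prime h2 hj1
      have : j = z := h.inv _ _ hoj hz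
      apply hnc
      rw [this]
      exact hzc i
  have ho2 : orderOf (j ^ 2) = 2 := by
    apply orderOf_eq_prime
    · rw [← pow_mul]; exact hj4
    · exact hj2
  rw [← pow_two]
  exact h.inv _ _ ho2 hz

theorem at2_tail [Finite G] (h : Free3 G)
    (x : G) (hx : orderOf x = 3) (Q : Subgroup G) (hQ : QSub x Q)
    (a j a₃ : G) (ha : orderOf a = 8) (haQ : ∀ q ∈ Q, a * q * a⁻¹ ∈ Q)
    (ha2 : a ^ 2 ∈ Q) (hj : j ∈ Q) (hnc : a ^ 2 * j ≠ j * a ^ 2)
    (hja : j * a * j⁻¹ = a⁻¹)
    (ha₃ : a₃ ^ 2 = a * j) (hia₃ : a ^ 2 * a₃ * (a ^ 2)⁻¹ = a₃⁻¹) : False := by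
  have ha8 : a ^ 8 = 1 := by rw [← ha]; exact pow_orderOf_eq_one a
  have ha4 : a ^ 4 ≠ 1 := pow_ne_one_of_lt_orderOf (by norm_num) (by rw [ha]; norm_num)
  have hz : orderOf (a ^ 4) = 2 := by
    have hp2 : Fact (Nat.Prime 2) := ⟨Nat.prime_two⟩
    apply orderOf_eq_prime
    · rw [← pow_mul]; exact ha8
    · exact ha4
  have hzc := inv_central h (a ^ 4) hz
  have hjj : j * j = a ^ 4 := sq_eq_of_noncomm h Q hQ.1 (a ^ 4) (a ^ 2) j hz ha2 hj hnc
  have huu : a * j * (a * j) = a ^ 4 := by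
    have e : a * j * (a * j) = a * (j * a * j⁻¹) * (j * j) := by group
    rw [e, hja, hjj]; group
  have hiu : a ^ 2 * (a * j) * (a ^ 2)⁻¹ = (a * j)⁻¹ := by
    apply eq_inv_of_mul_eq_one_left
    have e1 : a ^ 2 * (a * j) * (a ^ 2)⁻¹ * (a * j) =
        a ^ 3 * (j * a * j⁻¹)⁻¹ * (j * a * j⁻¹)⁻¹ * (j * a * j⁻¹) * (j * j) := by group
    rw [e1, hja, hjj]
    have : a ^ 3 * a⁻¹⁻¹ * a⁻¹⁻¹ * a⁻¹ * a ^ 4 = a ^ 8 := by group
    rw [this, ha8]
  have hq : Q8rel (a ^ 2) (a * j) (a ^ 4) :=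
    { zc := hzc
      z2 := by rw [← pow_add]; exact ha8
      z1 := ha4
      ii := by rw [← pow_add]
      uu := huu
      iu := hiu }
  have hai : a * a ^ 2 * a⁻¹ = a ^ 2 := by group
  have hau : a * (a * j) * a⁻¹ = a ^ 2 * (a * j) := by
    have e : a * (a * j) * a⁻¹ = a * a * (j * a * j⁻¹)⁻¹ * j := by group
    rw [e, hja, inv_inv, pow_two, mul_assoc (a * a)]
  have h3i : a₃ * a ^ 2 * a₃⁻¹ = a * j * a ^ 2 := by
    have e : a₃ * a ^ 2 * a₃⁻¹ = a₃ * (a ^ 2 * a₃ * (a ^ 2)⁻¹)⁻¹ * a ^ 2 := by group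
    rw [e, hia₃, inv_inv, ← pow_two, ha₃]
  have h3u : a₃ * (a * j) * a₃⁻¹ = a * j := by
    rw [← ha₃]; group
  rcases core h hq hz a a₃ 3 (by norm_num; exact ha8) hai hau h3i h3u with
    ⟨y, hy, hQs⟩ | ⟨w, hw, hwi, hwu, hwa⟩
  · exact h.app4 x y a j Q hq.Qs hx hy hQ hQs ha haQ ha2 hj hnc hq.i_mem hq.u_mem
  · have hconj : j * w * j⁻¹ = a⁻¹ * w * a := by
      have e : j * w * j⁻¹ = a⁻¹ * (a * j * w * (a * j)⁻¹) * a := by group
      rw [e, ← hwu]; group
    refine h.app3 x w (a ^ 2) j Q hx hQ ha2 hj hnc hw hwi ?_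
    rw [hconj]
    rcases hwa with h1 | h1
    · left
      nth_rewrite 1 [← h1]; group
    · right
      have : w = a⁻¹ * w⁻¹ * a := by
        rw [← h1]; group
      calc a⁻¹ * w * a = (a⁻¹ * w⁻¹ * a)⁻¹ := by group
        _ = w⁻¹ := by rw [← this]

end final

end Cfsg.Agent.Lib.Helper60.ZassAT2Tail
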